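import Cfsg.Agent.BlocksLocal.WordSums

/-!
# Exact trace lemmas for group algebras

`coeffSum θ` is the trace functional of the group algebra attached to a class function `θ`.

* `coeffSum_idempotent_dvd`: on an idempotent, a class function vanishing at all elements of order
  prime to `p` takes values divisible by every power of `p` (so zero over a local subring of `ℂ`):
  character sums of idempotents over `p`-singular classes vanish.
* `coeffSum_mul_idempotent_dvd`: the heart of Brauer's second main theorem: if `E` is an idempotent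
  commuting with `z = x * y` whose coefficients on the centraliser of the `p`-part `x` lie in the
  radical of `(p)`, then every trace functional at `z * E` is divisible by every power of `p`.
* `coeffSum_pow_prime_pow`, `pElemSum_mul_coeff_pow`: in characteristic `p`, trace functionals of
  `p`-th powers, and the sum of all `p`-elements times a central element (Kuelshammer).
-/

set_option autoImplicit false
set_option linter.unusedSectionVars false

namespace CfsgLib.BlocksLocal

open MonoidAlgebra Function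

section CoreRing

variable {A R : Type*} [Ring A] [CommRing R]

theorem exists_pow_add_smul (q : ℕ) (u c : A) :
    ∀ n, ∃ d, (u + q • c) ^ n = u ^ n + q • d := by
  intro n
  induction n with
  | zero => exact ⟨0, by simp⟩
  | succ n ih =>
    obtain ⟨d, hd⟩ := ih
    exact ⟨u ^ n * c + d * (u + q • c), by
      rw [pow_succ, hd, add_mul, pow_succ, mul_add, smul_mul_assoc, mul_smul_comm, smul_add,
        add_assoc]⟩

/-- A trace vanishes (to every `p`-adic precision) at `z * E` when `E` is an idempotent fixed by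
`z`, congruent to a relative trace from `z ^ p` modulo a topologically nilpotent error. -/
theorem trace_mul_idempotent_dvd (p : ℕ) [hp : Fact p.Prime] (tr : A →+ R)
    (htr : ∀ u w, tr (u * w) = tr (w * u)) (z : Aˣ) (E a₀ : A) (hE : E * E = E)
    (hzE : Commute (z : A) E) (hza : Commute ((z : A) ^ p) a₀)
    (hnil : ∀ n : ℕ, ∃ (N : ℕ) (c : A),
      (E - ∑ i : ZMod p, (↑(z ^ i.val) : A) * a₀ * ↑(z ^ i.val)⁻¹) ^ N = (p ^ n) • c)
    (n : ℕ) : (p : R) ^ n ∣ tr ((z : A) * E) := by
  have : NeZero p := ⟨hp.out.ne_zero⟩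
  let σ : ℕ → A → A := fun k b => (↑(z ^ k) : A) * b * ↑(z ^ k)⁻¹
  let T : A → A := fun b => ∑ i : ZMod p, σ i.val b
  change ∀ n : ℕ, ∃ (N : ℕ) (c : A), (E - T a₀) ^ N = (p ^ n) • c at hnil
  have hσadd : ∀ j k b, σ j (σ k b) = σ (j + k) b := fun j k b => by
    simp only [σ, pow_add, mul_inv_rev, Units.val_mul, mul_assoc]
  have hσp : ∀ b, Commute ((z : A) ^ p) b → σ p b = b := fun b hb => by
    simp only [σ, Units.val_pow_eq_pow_val]
    rw [hb.eq, mul_assoc, ← Units.val_pow_eq_pow_val, Units.mul_inv, mul_one]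
  have hσmod : ∀ k b, Commute ((z : A) ^ p) b → σ k b = σ (k % p) b := by
    intro k b hb
    conv_lhs => rw [← Nat.mod_add_div k p]
    induction k / p with
    | zero => rw [Nat.mul_zero, Nat.add_zero]
    | succ t ih => rw [Nat.mul_succ, ← Nat.add_assoc, ← hσadd, hσp b hb, ih]
  have hshift : ∀ b, Commute ((z : A) ^ p) b → ∀ i : ZMod p,
      σ 1 (σ i.val b) = σ (i + 1).val b := by
    intro b hb i
    rw [hσadd, hσmod _ b hb, ZMod.val_add, ZMod.val_one, Nat.add_comm]
  have hTfix : ∀ b, Commute ((z : A) ^ p) b → Commute (z : A) (T b) := by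
    intro b hb
    have h1 : σ 1 (T b) = T b := by
      have : σ 1 (T b) = ∑ i : ZMod p, σ 1 (σ i.val b) := by
        simp only [T, σ, Finset.mul_sum, Finset.sum_mul]
      rw [this]
      exact Fintype.sum_equiv (Equiv.addRight (1 : ZMod p)) _ _ (hshift b hb)
    have h2 := congrArg (· * (z : A)) h1
    simp only [σ, pow_one, Units.inv_mul_cancel_right] at h2
    exact h2
  have hTmul : ∀ b c, Commute (z : A) c → T b * c = T (b * c) := by
    intro b c hc
    simp only [T, Finset.sum_mul]
    refine Finset.sum_congr rfl fun i _ => ?_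
    have : Commute (↑(z ^ i.val)⁻¹ : A) c :=
      (show Commute ((z ^ i.val : Aˣ) : A) c by
        rw [Units.val_pow_eq_pow_val]; exact hc.pow_left _).units_inv_left
    simp only [σ]
    rw [mul_assoc (_ * b), this.eq]; simp only [mul_assoc]
  have hmulT : ∀ b c, Commute (z : A) c → c * T b = T (c * b) := by
    intro b c hc
    simp only [T, Finset.mul_sum]
    refine Finset.sum_congr rfl fun i _ => ?_
    have : Commute (↑(z ^ i.val) : A) c := by
      rw [Units.val_pow_eq_pow_val]; exact hc.pow_left _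
    simp only [σ, ← mul_assoc, this.eq]
  have hTadd : ∀ b c, T b + T c = T (b + c) := by
    intro b c
    simp only [T, σ, mul_add, add_mul, Finset.sum_add_distrib]
  set m := E - T a₀ with hm
  have hzm : Commute (z : A) m := hzE.sub_right (hTfix a₀ hza)
  have hEm : E = T a₀ + m := by rw [hm]; abel
  have key : ∀ N : ℕ, ∃ b, Commute ((z : A) ^ p) b ∧ E = T b + m ^ (N + 1) := by
    intro N
    induction N with
    | zero => exact ⟨a₀, hza, by rw [pow_one]; exact hEm⟩
    | succ N ih =>
      obtain ⟨b, hb, hEb⟩ := ih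
      refine ⟨b * E + m ^ (N + 1) * a₀, ?_, ?_⟩
      · exact (hb.mul_right (hzE.pow_left p)).add_right
          (((hzm.pow_right _).pow_left p).mul_right hza)
      · calc E = (T b + m ^ (N + 1)) * E := by rw [← hEb, hE]
          _ = T b * E + m ^ (N + 1) * (T a₀ + m) := by rw [add_mul, ← hEm]
          _ = T (b * E) + T (m ^ (N + 1) * a₀) + m ^ (N + 1 + 1) := by
            rw [hTmul b E hzE, mul_add, hmulT a₀ _ (hzm.pow_right _), ← pow_succ, add_assoc (T _)]
          _ = _ := by rw [hTadd]
  obtain ⟨N, c, hc⟩ := hnil n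
  obtain ⟨b, hb, hEb⟩ := key N
  rw [pow_succ, hc, smul_mul_assoc] at hEb
  obtain ⟨d, hd⟩ := exists_pow_add_smul (p ^ n) (T b) (c * m) (p ^ n)
  have hidem : IsIdempotentElem E := hE
  have hEpow : E = T b ^ (p ^ n) + (p ^ n) • d := by
    rw [← hd, ← hEb, hidem.pow_eq (pow_ne_zero n hp.out.ne_zero)]
  rw [hEpow, mul_add, mul_smul_comm, map_add, map_nsmul, nsmul_eq_mul, Nat.cast_pow]
  refine dvd_add ?_ (dvd_mul_right _ _)
  refine (pow_dvd_pow _ n.le_succ).trans ?_
  refine trace_mul_sum_pow_dvd p tr htr (fun i : ZMod p => σ i.val b) (z : A)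
    (Equiv.addRight (1 : ZMod p)) ?_ n 1 n ?_ ?_
  · intro i
    have h := hshift b hb i
    rw [Equiv.coe_addRight, ← h]
    simp only [σ, pow_one, Units.inv_mul_cancel_right]
  · intro i
    simp
  · intro l hl hfix
    exfalso
    rw [← hl, twistRot_iterate_length] at hfix
    rcases l with _ | ⟨i, t⟩
    · exact pow_ne_zero n hp.out.ne_zero hl.symm
    · simp at hfix

end CoreRing

section GroupAlgebra

variable {G R : Type*} [Group G] [CommRing R]

/-- The functional on the group algebra attached to a function on the group. -/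
noncomputable def coeffSum [Fintype G] (θ : G → R) : MonoidAlgebra R G →+ R where
  toFun a := ∑ g, a.coeff g * θ g
  map_zero' := by simp
  map_add' a b := by simp [add_mul, Finset.sum_add_distrib]

theorem coeffSum_apply [Fintype G] (θ : G → R) (a : MonoidAlgebra R G) :
    coeffSum θ a = ∑ g, a.coeff g * θ g := rfl

@[simp] theorem coeffSum_single [Fintype G] (θ : G → R) (g : G) (r : R) :
    coeffSum θ (single g r) = r * θ g := by
  classical
  simp [coeffSum_apply, Finsupp.single_apply]

theorem coeffSum_mul_comm [Fintype G] (θ : G → R) (hθ : ∀ g h, θ (h * g * h⁻¹) = θ g)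
    (a b : MonoidAlgebra R G) : coeffSum θ (a * b) = coeffSum θ (b * a) := by
  have hcomm : ∀ g h, θ (g * h) = θ (h * g) := fun g h => by
    simpa [mul_assoc] using (hθ (g * h) h).symm
  induction a using MonoidAlgebra.induction_linear with
  | zero => simp
  | add u v hu hv => simp [add_mul, mul_add, hu, hv]
  | single g r =>
    induction b using MonoidAlgebra.induction_linear with
    | zero => simp
    | add u v hu hv => simp [add_mul, mul_add, hu, hv]
    | single h s => rw [single_mul_single, single_mul_single, coeffSum_single, coeffSum_single,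
        hcomm, mul_comm r s]

theorem eq_sum_single [Fintype G] (a : MonoidAlgebra R G) :
    a = ∑ g, single g (a.coeff g) := by
  classical
  ext g
  simp

theorem prod_map_single (f : G → R) (l : List G) :
    (l.map fun g => single g (f g)).prod = single l.prod (l.map f).prod := by
  induction l with
  | nil => simp [MonoidAlgebra.one_def]
  | cons g t ih => simp [ih]

/-- A high enough `p`-power of any element has order prime to `p`. -/
theorem not_dvd_orderOf_pow_prime_pow [Finite G] (p : ℕ) [hp : Fact p.Prime] (g : G) {t : ℕ}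
    (ht : (Nat.card G).factorization p ≤ t) : ¬ p ∣ orderOf (g ^ (p ^ t)) := by
  have hle : (orderOf g).factorization p ≤ t :=
    le_trans ((Nat.factorization_le_iff_dvd (orderOf_pos g).ne' Nat.card_pos.ne').mpr
      (orderOf_dvd_natCard g) p) ht
  rw [orderOf_pow' g (pow_ne_zero _ hp.out.ne_zero)]
  have hgcd : Nat.gcd (orderOf g) (p ^ t) = p ^ (orderOf g).factorization p := by
    refine Nat.dvd_antisymm ?_ (Nat.dvd_gcd (Nat.ordProj_dvd _ _) (pow_dvd_pow _ hle))
    obtain ⟨k, -, hk⟩ := (Nat.dvd_prime_pow hp.out).mp (Nat.gcd_dvd_right (orderOf g) (p ^ t))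
    rw [hk]
    exact pow_dvd_pow _ ((hp.out.pow_dvd_iff_le_factorization (orderOf_pos g).ne').mp
      (hk ▸ Nat.gcd_dvd_left _ _))
  rw [hgcd]
  exact Nat.not_dvd_ordCompl hp.out (orderOf_pos g).ne'

/-- Class sums of an idempotent over `p`-singular classes are divisible by every power of `p`. -/
theorem coeffSum_idempotent_dvd [Fintype G] (p : ℕ) [hp : Fact p.Prime]
    (e : MonoidAlgebra R G) (he : e * e = e) (θ : G → R) (hθ : ∀ g h, θ (h * g * h⁻¹) = θ g)
    (hreg : ∀ g : G, ¬ p ∣ orderOf g → θ g = 0) (m : ℕ) : (p : R) ^ m ∣ coeffSum θ e := by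
  classical
  refine (pow_dvd_pow _ m.le_succ).trans ?_
  set a := (Nat.card G).factorization p
  have hidem : IsIdempotentElem e := he
  have h : e = (∑ g, single g (e.coeff g)) ^ (p ^ (m + a)) := by
    rw [← eq_sum_single, hidem.pow_eq (pow_ne_zero _ hp.out.ne_zero)]
  rw [h, ← one_mul ((∑ g, single g (e.coeff g)) ^ _)]
  refine trace_mul_sum_pow_dvd p (coeffSum θ) (coeffSum_mul_comm θ hθ) _ 1 (Equiv.refl G)
    (fun i => by simp) (m + a) 0 m (fun i => by simp) ?_
  intro l hl hfix
  rw [one_mul, prod_map_single, coeffSum_single]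
  obtain ⟨Q, hQ⟩ := Nat.exists_eq_succ_of_ne_zero (pow_ne_zero a hp.out.ne_zero)
  have hlen : l.length = p ^ m * (Q + 1) := by rw [hl, pow_add, hQ]
  have hperiodic := prod_map_of_rot_fixed (fun g : G => g) l hlen hfix
  rw [List.map_id'] at hperiodic
  rw [hperiodic, ← Nat.succ_eq_add_one, ← hQ, hreg _ (not_dvd_orderOf_pow_prime_pow p _ le_rfl),
    mul_zero]

/-- In characteristic `p`, trace functionals of `p`-power powers. -/
theorem coeffSum_pow_prime_pow [Fintype G] (p : ℕ) [hp : Fact p.Prime] (hpR : (p : R) = 0)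
    (θ : G → R) (hθ : ∀ g h, θ (h * g * h⁻¹) = θ g) (a : MonoidAlgebra R G) (m : ℕ) :
    coeffSum θ (a ^ (p ^ m)) = ∑ g, a.coeff g ^ (p ^ m) * θ (g ^ (p ^ m)) := by
  classical
  have h := trace_mul_sum_pow_sub_dvd p (coeffSum θ) (coeffSum_mul_comm θ hθ)
    (fun g => single g (a.coeff g)) 1 (Equiv.refl G) (fun i => by simp) m 0 0 (fun i => by simp)
  rw [← eq_sum_single, one_mul, zero_add, pow_one, hpR, zero_dvd_iff, sub_eq_zero] at h
  rw [h, ← Finset.sum_filter]
  have hn : 0 < p ^ m := pow_pos hp.out.pos m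
  have hrep : ∀ l : List G, l.length = p ^ m → (twistRot (⇑(Equiv.refl G)))^[1] l = l →
      ∃ g, l = List.replicate (p ^ m) g := by
    intro l hl hfix
    obtain ⟨g, t, rfl⟩ := List.exists_cons_of_ne_nil (List.length_pos_iff.mp (hl ▸ hn))
    refine ⟨g, ?_⟩
    simp only [iterate_one, twistRot, Equiv.refl_apply] at hfix
    have ht := eq_flatten_replicate_of_append_comm t.length [g] t rfl (by simp) hfix
    rw [← hl, List.length_cons, List.replicate_succ, List.flatten_replicate_singleton] at *
    rw [ht]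
    simp
  let _ : Inhabited G := ⟨1⟩
  obtain ⟨k, hk⟩ := Nat.exists_eq_succ_of_ne_zero hn.ne'
  have hrot : ∀ g : G, (twistRot (⇑(Equiv.refl G)))^[p ^ 0]
      (List.Vector.replicate (p ^ m) g).toList = (List.Vector.replicate (p ^ m) g).toList := by
    intro g
    show (twistRot (⇑(Equiv.refl G)))^[p ^ 0] (List.replicate (p ^ m) g) =
      List.replicate (p ^ m) g
    rw [pow_zero, iterate_one, hk, List.replicate_succ]
    show List.replicate k g ++ [g] = g :: List.replicate k g
    rw [← List.replicate_succ', List.replicate_succ]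
  refine (Finset.sum_bij' (fun (g : G) _ => List.Vector.replicate (p ^ m) g)
    (fun v _ => v.toList.headI) ?_ ?_ ?_ ?_ ?_).symm
  · intro g _
    exact Finset.mem_filter.mpr ⟨Finset.mem_univ _, hrot g⟩
  · simp
  · intro g _
    show (List.replicate (p ^ m) g).headI = g
    rw [hk, List.replicate_succ, List.headI_cons]
  · intro v hv
    have hv' := (Finset.mem_filter.mp hv).2
    rw [pow_zero] at hv'
    obtain ⟨g, hg⟩ := hrep _ v.toList_length hv'
    apply Subtype.ext
    show List.replicate (p ^ m) v.toList.headI = v.toList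
    rw [hg, hk]
    simp [List.replicate_succ]
  · intro g _
    show _ = coeffSum θ (1 * (List.map _ (List.replicate (p ^ m) g)).prod)
    rw [one_mul, prod_map_single, coeffSum_single, List.map_replicate, List.prod_replicate,
      List.prod_replicate]

theorem pow_coeff_mem_pow {J : Ideal R} {a : MonoidAlgebra R G} (ha : ∀ g, a.coeff g ∈ J) :
    ∀ (N : ℕ) (g : G), (a ^ N).coeff g ∈ J ^ N := by
  intro N
  induction N with
  | zero => intro g; simp
  | succ N ih =>
    intro g
    rw [pow_succ a, coeff_mul_apply_left, pow_succ J]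
    exact Submodule.sum_mem _ fun h _ => Ideal.mul_mem_mul (ih h) (ha _)

/-- An element all whose coefficients are divisible by `q` is a multiple of `q`. -/
theorem exists_eq_smul_of_coeff_dvd [Finite G] (q : ℕ) (a : MonoidAlgebra R G)
    (h : ∀ g, (q : R) ∣ a.coeff g) : ∃ c, a = q • c := by
  choose f hf using h
  refine ⟨MonoidAlgebra.ofCoeff (Finsupp.equivFunOnFinite.symm f), ?_⟩
  ext g
  rw [hf, coeff_smul_apply, nsmul_eq_mul]
  simp

/-- The heart of Brauer's second main theorem. -/
theorem coeffSum_mul_idempotent_dvd [Fintype G] (p : ℕ) [hp : Fact p.Prime] (θ : G → R)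
    (hθ : ∀ g h, θ (h * g * h⁻¹) = θ g) {x y : G} {k : ℕ} (hx : orderOf x = p ^ k)
    (hy : ¬ p ∣ orderOf y) (hxy : Commute x y) (E : MonoidAlgebra R G) (hE : E * E = E)
    (hzE : Commute (single (x * y) (1 : R)) E)
    (hI : ∀ g, Commute g x → E.coeff g ∈ (Ideal.span {(p : R)}).radical) (n : ℕ) :
    (p : R) ^ n ∣ coeffSum θ (single (x * y) (1 : R) * E) := by
  classical
  have : NeZero p := ⟨hp.out.ne_zero⟩
  set z := x * y with hz
  let uz : (MonoidAlgebra R G)ˣ := Units.map (of R G) (toUnits z)
  have huz : ∀ j : ℤ, ((uz ^ j : (MonoidAlgebra R G)ˣ) : MonoidAlgebra R G) = single (z ^ j) 1 := by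
    intro j
    rw [← map_zpow, ← map_zpow]
    rfl
  have huzn : ∀ j : ℕ, ((uz ^ j : (MonoidAlgebra R G)ˣ) : MonoidAlgebra R G) = single (z ^ j) 1 :=
    fun j => by simpa using huz j
  have huzi : ∀ j : ℕ, (((uz ^ j)⁻¹ : (MonoidAlgebra R G)ˣ) : MonoidAlgebra R G)
      = single ((z ^ j)⁻¹) 1 := fun j => by simpa using huz (-j)
  have hzx : Commute z x := (Commute.refl x).mul_left hxy.symm
  -- coefficients of E are constant on orbits of z
  have hEinv : ∀ (j : ℤ) (g : G), E.coeff (z ^ j * g * z ^ (-j)) = E.coeff g := by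
    intro j g
    have hc : Commute ((uz ^ j : (MonoidAlgebra R G)ˣ) : MonoidAlgebra R G) E :=
      Commute.units_zpow_left (show Commute (uz : MonoidAlgebra R G) E from hzE) j
    rw [huz] at hc
    have := congrArg (fun a => MonoidAlgebra.coeff a (z ^ j * g)) hc.eq
    simp only [coeff_single_mul_apply, coeff_mul_single_apply, one_mul, mul_one,
      inv_mul_cancel_left] at this
    rw [this, zpow_neg]
  have hCx : ∀ (j : ℤ) (g : G), Commute (z ^ j * g * z ^ (-j)) x ↔ Commute g x := by
    intro j g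
    have h1 : Commute (z ^ j) x := hzx.zpow_left j
    have h2 : Commute (z ^ (-j)) x := hzx.zpow_left _
    refine ⟨fun h => ?_, fun h => (h1.mul_left h).mul_left h2⟩
    have := (h2.mul_left h).mul_left h1
    simpa [mul_assoc] using this
  -- a p-th root choice on each orbit
  let conjS : Setoid G :=
    { r := fun g h => ∃ j : ℤ, h = z ^ j * g * z ^ (-j)
      iseqv :=
        ⟨fun g => ⟨0, by simp⟩,
         fun {g h} ⟨j, hj⟩ => ⟨-j, by rw [hj]; simp [mul_assoc]⟩,
         fun {g h l} ⟨j, hj⟩ ⟨i, hi⟩ =>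
          ⟨i + j, by rw [hi, hj, neg_add_rev, zpow_add, zpow_add]; simp [mul_assoc]⟩⟩ }
  let rep : G → G := fun g => (Quotient.mk conjS g).out
  have hrep : ∀ g, ∃ j : ℤ, g = z ^ j * rep g * z ^ (-j) := fun g =>
    Quotient.mk_out (s := conjS) g
  have hrep_conj : ∀ (j : ℤ) g, rep (z ^ j * g * z ^ (-j)) = rep g := fun j g => by
    have : Quotient.mk conjS (z ^ j * g * z ^ (-j)) = Quotient.mk conjS g :=
      Quotient.sound ⟨-j, by simp [mul_assoc]⟩
    simp only [rep, this]
  let sel : G → Prop := fun g =>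
    ¬ Commute g x ∧ ∃ j : ℤ, (p : ℤ) ∣ j ∧ g = z ^ j * rep g * z ^ (-j)
  let a₀ : MonoidAlgebra R G :=
    ofCoeff (Finsupp.equivFunOnFinite.symm fun g => if sel g then E.coeff g else 0)
  have ha₀ : ∀ g, a₀.coeff g = if sel g then E.coeff g else 0 := fun g => by simp [a₀]
  have hza : Commute ((uz : MonoidAlgebra R G) ^ p) a₀ := by
    rw [← Units.val_pow_eq_pow_val, huzn]
    show _ * _ = _ * _
    ext g
    rw [coeff_single_mul_apply, coeff_mul_single_apply, one_mul, mul_one, ha₀, ha₀]
    have hg : g * (z ^ p)⁻¹ = z ^ (p : ℤ) * ((z ^ p)⁻¹ * g) * z ^ (-(p : ℤ)) := by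
      simp [mul_assoc]
    rw [hg, hEinv]
    have hsel : sel (z ^ (p : ℤ) * ((z ^ p)⁻¹ * g) * z ^ (-(p : ℤ))) ↔ sel ((z ^ p)⁻¹ * g) := by
      simp only [sel, hCx, hrep_conj]
      refine and_congr_right fun _ => ⟨?_, ?_⟩
      · rintro ⟨j, hj, e⟩
        refine ⟨-p + j, dvd_add (dvd_neg.mpr dvd_rfl) hj, ?_⟩
        rw [zpow_add, neg_add_rev, zpow_add]
        calc (z ^ p)⁻¹ * g
            = z ^ (-(p : ℤ)) * (z ^ (p : ℤ) * ((z ^ p)⁻¹ * g) * z ^ (-(p : ℤ))) * z ^ (p : ℤ) := by
              simp [mul_assoc]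
          _ = _ := by rw [e]; simp [mul_assoc]
      · rintro ⟨j, hj, e⟩
        refine ⟨p + j, dvd_add dvd_rfl hj, ?_⟩
        rw [zpow_add, neg_add_rev, zpow_add]
        conv_lhs => rw [e]
        simp [mul_assoc]
    simp only [hsel]
  have hT : ∀ g, (∑ i : ZMod p, ((uz ^ i.val : (MonoidAlgebra R G)ˣ) : MonoidAlgebra R G) * a₀ *
      (((uz ^ i.val)⁻¹ : (MonoidAlgebra R G)ˣ) : MonoidAlgebra R G)).coeff g
        = if Commute g x then 0 else E.coeff g := by
    intro g
    have hterm : ∀ i : ZMod p, (((uz ^ i.val : (MonoidAlgebra R G)ˣ) : MonoidAlgebra R G) * a₀ *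
        (((uz ^ i.val)⁻¹ : (MonoidAlgebra R G)ˣ) : MonoidAlgebra R G)).coeff g =
        if sel (z ^ (-(i.val : ℤ)) * g * z ^ (- -(i.val : ℤ))) then E.coeff g else 0 := by
      intro i
      rw [huzn, huzi, coeff_mul_single_apply, coeff_single_mul_apply, one_mul, mul_one, ha₀,
        show (z ^ i.val)⁻¹ * (g * (z ^ i.val)⁻¹⁻¹)
          = z ^ (-(i.val : ℤ)) * g * z ^ (- -(i.val : ℤ)) by
            rw [neg_neg, zpow_neg, zpow_natCast, inv_inv, mul_assoc], hEinv]
    rw [MonoidAlgebra.coeff_sum, Finsupp.finsetSum_apply, Finset.sum_congr rfl fun i _ => hterm i]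
    by_cases hgx : Commute g x
    · rw [if_pos hgx]
      exact Finset.sum_eq_zero fun i _ => if_neg fun h => h.1 ((hCx _ g).mpr hgx)
    rw [if_neg hgx]
    obtain ⟨j, hj⟩ := hrep g
    have hval : ∀ i : ZMod p, sel (z ^ (-(i.val : ℤ)) * g * z ^ (- -(i.val : ℤ))) ↔
        i = (j : ZMod p) := by
      intro i
      simp only [sel, hCx, hgx, hrep_conj, not_false_eq_true, true_and]
      constructor
      · rintro ⟨l, ⟨l', rfl⟩, hl⟩
        -- z ^ t fixes rep g with t = j - i - l
        by_contra hne
        set t : ℤ := j - i.val - p * l' with ht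
        have hfix : z ^ t * rep g * z ^ (-t) = rep g := by
          have h1 : z ^ (-(i.val : ℤ)) * (z ^ j * rep g * z ^ (-j)) * z ^ (- -(i.val : ℤ))
              = z ^ ((p : ℤ) * l') * rep g * z ^ (-((p : ℤ) * l')) := by rw [← hj]; exact hl
          have h2 := congrArg (fun w => z ^ (-((p : ℤ) * l')) * w * z ^ ((p : ℤ) * l')) h1
          simp only [mul_assoc, ← zpow_add, neg_add_cancel, zpow_zero, mul_one] at h2
          simp only [← mul_assoc, ← zpow_add, neg_add_cancel, zpow_zero, one_mul] at h2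
          rw [ht]
          convert h2 using 3 <;> ring_nf
        have hpt : ¬ (p : ℤ) ∣ t := by
          intro hd
          apply hne
          rw [← ZMod.intCast_zmod_eq_zero_iff_dvd] at hd
          simp [ht, sub_eq_zero] at hd
          exact hd.symm
        have hzt : Commute (z ^ t) (rep g) := by
          have := congrArg (· * z ^ t) hfix
          show _ * _ = _ * _
          simpa [mul_assoc, ← zpow_add] using this
        have hord : Commute (x ^ (t * orderOf y)) (rep g) := by
          have : z ^ (t * orderOf y) = x ^ (t * orderOf y) := by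
            rw [hz, hxy.mul_zpow, mul_comm t, zpow_mul y, zpow_natCast, pow_orderOf_eq_one,
              one_zpow, mul_one]
          rw [← this, zpow_mul, zpow_natCast]
          exact hzt.pow_left _
        have hcop : IsCoprime (t * orderOf y) ((p : ℤ) ^ k) := by
          refine IsCoprime.pow_right ?_
          have hpp : Prime (p : ℤ) := Nat.prime_iff_prime_int.mp hp.out
          refine (hpp.coprime_iff_not_dvd.mpr fun hd => ?_).symm
          rcases hpp.dvd_or_dvd hd with h | h
          · exact hpt h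
          · exact hy (Int.natCast_dvd_natCast.mp h)
        obtain ⟨u, v, huv⟩ := hcop
        have hxeq : x = (x ^ (t * orderOf y)) ^ u := by
          rw [← zpow_mul]
          calc x = x ^ (u * (t * orderOf y) + v * (p : ℤ) ^ k) := by rw [huv, zpow_one]
            _ = _ := by
              rw [zpow_add, mul_comm v, zpow_mul x ((p : ℤ) ^ k), ← Nat.cast_pow, zpow_natCast,
                ← hx, pow_orderOf_eq_one, one_zpow, mul_one, mul_comm u]
        have hxr : Commute (rep g) x := by
          rw [hxeq]; exact (hord.zpow_left u).symm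
        exact hgx (hj ▸ (hCx j (rep g)).mpr hxr)
      · rintro rfl
        refine ⟨j - (((j : ZMod p).val : ℕ) : ℤ), ?_, ?_⟩
        · rw [← ZMod.intCast_zmod_eq_zero_iff_dvd]; simp
        · conv_lhs => rw [hj]
          rw [sub_eq_add_neg, add_comm, zpow_add, neg_add_rev, zpow_add]
          simp [mul_assoc]
    simp only [hval, Finset.sum_ite_eq', Finset.mem_univ, if_true]
  have hnil : ∀ n : ℕ, ∃ (N : ℕ) (c : MonoidAlgebra R G),
      (E - ∑ i : ZMod p, ((uz ^ i.val : (MonoidAlgebra R G)ˣ) : MonoidAlgebra R G) * a₀ *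
        (((uz ^ i.val)⁻¹ : (MonoidAlgebra R G)ˣ) : MonoidAlgebra R G)) ^ N = (p ^ n) • c := by
    intro n
    set m := E - ∑ i : ZMod p, ((uz ^ i.val : (MonoidAlgebra R G)ˣ) : MonoidAlgebra R G) * a₀ *
        (((uz ^ i.val)⁻¹ : (MonoidAlgebra R G)ˣ) : MonoidAlgebra R G)
    let J : Ideal R := Ideal.span (Set.range fun g => m.coeff g)
    have hJ : J ≤ (Ideal.span {(p : R)}).radical := by
      rw [Ideal.span_le]
      rintro _ ⟨g, rfl⟩
      simp only [m, coeff_sub, Finsupp.sub_apply, hT, SetLike.mem_coe]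
      split_ifs with hgx
      · simpa using hI g hgx
      · simp
    obtain ⟨N, hN⟩ := Ideal.exists_pow_le_of_le_radical_of_fg hJ
      (Submodule.fg_span (Set.finite_range _))
    refine ⟨N * n, ?_⟩
    refine exists_eq_smul_of_coeff_dvd (p ^ n) _ (fun g => ?_) |>.imp fun c hc => hc
    have hmem := pow_coeff_mem_pow (J := J) (fun g => Ideal.subset_span ⟨g, rfl⟩) (N * n) g
    have hle : J ^ (N * n) ≤ Ideal.span {((p ^ n : ℕ) : R)} := by
      rw [pow_mul, Nat.cast_pow, ← Ideal.span_singleton_pow]
      exact Ideal.pow_right_mono hN n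
    exact Ideal.mem_span_singleton.mp (hle hmem)
  exact trace_mul_idempotent_dvd p (coeffSum θ) (coeffSum_mul_comm θ hθ) uz E a₀ hE hzE hza
    hnil n

/-- The sum of all elements of `p`-power order. -/
noncomputable def pElemSum (R G : Type*) [Group G] [Finite G] [CommRing R] (p : ℕ) :
    MonoidAlgebra R G :=
  ofCoeff (Finsupp.equivFunOnFinite.symm fun g =>
    Set.indicator {g : G | ∃ k : ℕ, orderOf g = p ^ k} (fun _ => (1 : R)) g)

/-- Kuelshammer's identity: the sum of all `p`-elements times a central element. -/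
theorem pElemSum_mul_coeff_pow [Fintype G] (p : ℕ) [hp : Fact p.Prime] (hpR : (p : R) = 0)
    (w : MonoidAlgebra R G) (hw : ∀ a, Commute w a) {m : ℕ}
    (hm : (Nat.card G).factorization p ≤ m) (x : G) :
    (pElemSum R G p * w).coeff x ^ (p ^ m) = (w ^ (p ^ m)).coeff (x ^ (p ^ m)) := by
  classical
  have hone : ∀ g : G, g ^ (p ^ m) = 1 ↔ ∃ k : ℕ, orderOf g = p ^ k := by
    intro g
    refine ⟨fun h => ?_, fun ⟨k, hk⟩ => ?_⟩
    · obtain ⟨k, -, hk⟩ := (Nat.dvd_prime_pow hp.out).mp (orderOf_dvd_of_pow_eq_one h)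
      exact ⟨k, hk⟩
    · refine orderOf_dvd_iff_pow_eq_one.mp (hk ▸ pow_dvd_pow _ (le_trans ?_ hm))
      exact (hp.out.pow_dvd_iff_le_factorization Nat.card_pos.ne').mp (hk ▸ orderOf_dvd_natCard g)
  let θ : G → R := fun g => if g = 1 then 1 else 0
  have hθ : ∀ g h, θ (h * g * h⁻¹) = θ g := fun g h => by simp [θ]
  have hcharp := coeffSum_pow_prime_pow p hpR θ hθ (w * single x⁻¹ 1) m
  rw [(hw _).mul_pow, single_pow, one_pow] at hcharp
  have hl : coeffSum θ (w ^ p ^ m * single (x⁻¹ ^ p ^ m) 1) = (w ^ (p ^ m)).coeff (x ^ (p ^ m)) := by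
    simp [coeffSum_apply, θ]
  rw [hl] at hcharp
  rw [hcharp]
  have hU : (pElemSum R G p * w).coeff x =
      ∑ g : G, if g ^ (p ^ m) = 1 then (w * single x⁻¹ 1).coeff g else 0 := by
    rw [coeff_mul_apply_left, Finsupp.sum_fintype _ _ (fun i => by simp)]
    refine Fintype.sum_equiv (Equiv.inv G) _ _ fun u => ?_
    have hu : u⁻¹ ^ (p ^ m) = 1 ↔ u ^ (p ^ m) = 1 := by simp
    simp only [pElemSum, Equiv.inv_apply, hu, hone, coeff_mul_single_apply, inv_inv, mul_one,
      coeff_ofCoeff, Finsupp.equivFunOnFinite_symm_apply_apply, Set.indicator_apply,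
      Set.mem_ofPred_eq]
    split_ifs <;> simp
  rw [hU]
  rcases subsingleton_or_nontrivial R with hsub | hnt
  · exact Subsingleton.elim _ _
  have : CharP R p := (CharP.charP_iff_prime_eq_zero hp.out).mpr hpR
  rw [sum_pow_char_pow]
  refine Finset.sum_congr rfl fun g _ => ?_
  simp only [θ]
  split_ifs with h
  · rw [mul_one]
  · rw [zero_pow (pow_ne_zero _ hp.out.ne_zero), mul_zero]

end GroupAlgebra

end CfsgLib.BlocksLocal
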