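import Cfsg.Agent.Blocks.LocalRing
import Cfsg.Agent.BlocksLocal.PowerTrace

/-!
# The exact trace lemmas over the local ring at `M`

The local ring at `M` has no element other than zero divisible by every power of `p`, and every
element of its maximal ideal lies in the radical of `(p)`.  Hence the divisibility lemmas of
`PowerTrace` become exact vanishing statements for complex class functions:

* `sum_coeff_mul_eq_zero_of_idempotent`: for an idempotent `e` of the group algebra over the local
  ring and a class function `θ` vanishing on all `p`-regular elements, `∑ g, e g * θ g = 0`;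
* `sum_coeff_mul_eq_zero_second_main`: for an idempotent `E` commuting with `z = x * y`, `x` the
  `p`-part, whose coefficients on the centraliser of `x` lie in the maximal ideal,
  `∑ g, E g * θ (z * g) = 0` for every class function `θ`.
-/

set_option autoImplicit false

namespace CfsgLib.BlocksLocal

open Cfsg MonoidAlgebra CfsgLib.Blocks

variable {M : Ideal AlgInt} [M.IsPrime] {p : ℕ}

/-- A local integer divisible by all powers of `p` is zero. -/
theorem eq_zero_of_forall_pow_dvd (hM : Cfsg.IsPModular p M) (x : localRing M)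
    (h : ∀ n : ℕ, (p : localRing M) ^ n ∣ x) : x = 0 := by
  obtain ⟨a, b, hb, hab⟩ := exists_mul_ofAlgInt x
  by_contra hx
  have ha : a ≠ 0 := by
    rintro rfl
    rw [map_zero] at hab
    exact hx ((isUnit_ofAlgInt hb).mul_left_eq_zero.mp hab)
  have halg : IsAlgebraic ℤ a := (Algebra.IsIntegral.isIntegral (R := ℤ) a).isAlgebraic
  obtain ⟨c, hc, d, hd⟩ := halg.exists_nonzero_dvd (mem_nonZeroDivisors_of_ne_zero ha)
  have hp : Nat.Prime p := hM.1
  obtain ⟨e, c', hc', hcc⟩ := Nat.exists_eq_pow_mul_and_not_dvd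
    (Int.natAbs_ne_zero.mpr hc) p hp.ne_one
  have hdvd : (p : localRing M) ^ (e + 1) ∣ ((c.natAbs : ℕ) : localRing M) := by
    have h1 : (p : localRing M) ^ (e + 1) ∣ (c : localRing M) := by
      have : (c : localRing M) = x * (ofAlgInt M b * ofAlgInt M d) := by
        rw [← mul_assoc, hab, ← map_mul, ← hd, eq_intCast, map_intCast]
      rw [this]
      exact dvd_mul_of_dvd_left (h _) _
    rcases Int.natAbs_eq c with hh | hh <;> rw [hh] at h1 <;> simpa using h1
  rw [hcc, Nat.cast_mul, Nat.cast_pow, pow_succ] at hdvd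
  have hp0 : (p : localRing M) ≠ 0 := Nat.cast_ne_zero.mpr hp.ne_zero
  have hpu : IsUnit (p : localRing M) :=
    isUnit_of_dvd_unit ((mul_dvd_mul_iff_left (pow_ne_zero e hp0)).mp hdvd)
      (isUnit_natCast hM hc')
  rw [← red_ne_zero_iff, map_natCast] at hpu
  exact hpu ((red_natCast_eq_zero_iff hM p).mpr dvd_rfl)

/-- Every element of the maximal ideal lies in the radical of `(p)`. -/
theorem mem_radical_of_red_eq_zero (hM : Cfsg.IsPModular p M) {x : localRing M}
    (hx : red M x = 0) : x ∈ (Ideal.span {(p : localRing M)}).radical := by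
  rw [Ideal.radical_eq_sInf, Ideal.mem_sInf]
  rintro P ⟨hpP, hP⟩
  have hp : Nat.Prime p := hM.1
  obtain ⟨a, b, hb, hab⟩ := exists_mul_ofAlgInt x
  have haM : a ∈ M := by
    rw [← red_ofAlgInt_eq_zero_iff, ← hab, map_mul, hx, zero_mul]
  set P' := P.comap (ofAlgInt M) with hP'
  have hpP' : (p : AlgInt) ∈ P' := by
    rw [hP', Ideal.mem_comap, map_natCast]
    exact hpP (Ideal.mem_span_singleton_self _)
  have hsub : P' ≤ M := by
    intro u hu
    by_contra huM
    exact hP.ne_top (Ideal.eq_top_of_isUnit_mem _ hu (isUnit_ofAlgInt huM))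
  have hprime : P'.IsPrime := hP.comap _
  have hcomap : (P'.comap (algebraMap ℤ AlgInt)).IsMaximal := by
    have hprime' : (P'.comap (algebraMap ℤ AlgInt)).IsPrime := hprime.comap _
    refine hprime'.isMaximal fun hbot => ?_
    have : (p : ℤ) ∈ P'.comap (algebraMap ℤ AlgInt) := by
      rw [Ideal.mem_comap, map_natCast]; exact hpP'
    rw [hbot, Ideal.mem_bot] at this
    exact hp.ne_zero (by exact_mod_cast this)
  have hmax : P'.IsMaximal := Ideal.isMaximal_of_isIntegral_of_isMaximal_comap P' hcomap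
  have hMtop : M ≠ ⊤ := (inferInstance : M.IsPrime).ne_top
  have heq : P' = M := hmax.eq_of_le hMtop hsub
  have hxb : x * ofAlgInt M b ∈ P := by
    rw [hab]; exact (heq ▸ haM : a ∈ P')
  exact (hP.mem_or_mem hxb).resolve_right fun hbP =>
    hP.ne_top (Ideal.eq_top_of_isUnit_mem _ hbP (isUnit_ofAlgInt hb))

variable {G : Type*} [Group G] [Fintype G]

open scoped Classical in
theorem sum_classFun_eq_zero (hM : Cfsg.IsPModular p M) (θ : G → ℂ)
    (hθ : ∀ g h : G, θ (h * g * h⁻¹) = θ g) (a : G → localRing M)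
    (h : ∀ C : ConjClasses G, (∃ g, ConjClasses.mk g = C ∧ θ g ≠ 0) → ∀ n : ℕ,
      (p : localRing M) ^ n ∣ ∑ g, if ConjClasses.mk g = C then a g else 0) :
    ∑ g, (a g : ℂ) * θ g = 0 := by
  classical
  rw [← Finset.sum_fiberwise (s := Finset.univ) (g := fun g : G => ConjClasses.mk g)]
  refine Finset.sum_eq_zero fun C _ => ?_
  by_cases hC : ∃ g, ConjClasses.mk g = C ∧ θ g ≠ 0
  · obtain ⟨g₀, hg₀, -⟩ := id hC
    have hval : ∀ g ∈ Finset.univ.filter (fun g : G => ConjClasses.mk g = C),
        (a g : ℂ) * θ g = (a g : ℂ) * θ g₀ := by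
      intro g hg
      simp only [Finset.mem_filter, Finset.mem_univ, true_and] at hg
      rw [← hg₀, eq_comm, ConjClasses.mk_eq_mk_iff_isConj, isConj_iff] at hg
      obtain ⟨c, rfl⟩ := hg
      rw [hθ]
    rw [Finset.sum_congr rfl hval, ← Finset.sum_mul]
    have h0 := eq_zero_of_forall_pow_dvd hM _ (h C hC)
    rw [← Finset.sum_filter] at h0
    have h1 := congrArg Subtype.val h0
    rw [AddSubmonoidClass.coe_finsetSum] at h1
    rw [h1, Subring.coe_zero, zero_mul]
  · push Not at hC
    refine Finset.sum_eq_zero fun g hg => ?_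
    simp only [Finset.mem_filter, Finset.mem_univ, true_and] at hg
    rw [hC g hg, mul_zero]

/-- Class sums of an idempotent over `p`-singular classes vanish. -/
theorem sum_coeff_mul_eq_zero_of_idempotent (hM : Cfsg.IsPModular p M)
    (e : MonoidAlgebra (localRing M) G) (he : e * e = e) (θ : G → ℂ)
    (hθ : ∀ g h : G, θ (h * g * h⁻¹) = θ g) (hreg : ∀ g : G, ¬ p ∣ orderOf g → θ g = 0) :
    ∑ g, (e.coeff g : ℂ) * θ g = 0 := by
  classical
  have : Fact p.Prime := ⟨hM.1⟩
  refine sum_classFun_eq_zero hM θ hθ _ fun C ⟨g₀, hg₀, hne⟩ n => ?_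
  have h := coeffSum_idempotent_dvd p e he
    (fun g => if ConjClasses.mk g = C then 1 else 0) ?_ ?_ n
  · simpa [coeffSum_apply] using h
  · intro g x
    rw [show ConjClasses.mk (x * g * x⁻¹) = ConjClasses.mk g from
      ConjClasses.mk_eq_mk_iff_isConj.2 (isConj_iff.2 ⟨x⁻¹, by group⟩)]
  · intro g hg
    refine if_neg fun hgC => hne (hreg g₀ ?_)
    rw [← hgC, ConjClasses.mk_eq_mk_iff_isConj, isConj_iff] at hg₀
    obtain ⟨c, hc⟩ := hg₀
    rw [← hc, show c * g₀ * c⁻¹ = MulAut.conj c g₀ from rfl, MulEquiv.orderOf_eq] at hg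
    exact hg

/-- The heart of Brauer's second main theorem over the local ring. -/
theorem sum_coeff_mul_eq_zero_second_main (hM : Cfsg.IsPModular p M) {x y : G} {k : ℕ}
    (hx : orderOf x = p ^ k) (hy : ¬ p ∣ orderOf y) (hxy : Commute x y)
    (E : MonoidAlgebra (localRing M) G) (hE : E * E = E)
    (hzE : Commute (single (x * y) (1 : localRing M)) E)
    (hI : ∀ g, Commute g x → Cfsg.MemLocalIdeal M (E.coeff g : ℂ)) (θ : G → ℂ)
    (hθ : ∀ g h : G, θ (h * g * h⁻¹) = θ g) :
    ∑ g, (E.coeff g : ℂ) * θ (x * y * g) = 0 := by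
  classical
  have : Fact p.Prime := ⟨hM.1⟩
  have key : ∑ g, (((single (x * y) (1 : localRing M) * E).coeff g : localRing M) : ℂ) * θ g = 0 := by
    refine sum_classFun_eq_zero hM θ hθ _ fun C _ n => ?_
    have h := coeffSum_mul_idempotent_dvd p
      (fun g => if ConjClasses.mk g = C then (1 : localRing M) else 0) ?_ hx hy hxy E hE hzE
      (fun g hg => mem_radical_of_red_eq_zero hM (red_eq_zero_iff.2 (hI g hg))) n
    · simpa [coeffSum_apply] using h
    · intro g u
      rw [show ConjClasses.mk (u * g * u⁻¹) = ConjClasses.mk g from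
        ConjClasses.mk_eq_mk_iff_isConj.2 (isConj_iff.2 ⟨u⁻¹, by group⟩)]
  rw [← key]
  exact Fintype.sum_equiv (Equiv.mulLeft (x * y)) _ _ fun g => by simp [mul_assoc]

end CfsgLib.BlocksLocal
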