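import Mathlib

/-!
# Normalisers of abelian 2-subgroups with few involutions

An element normalising an abelian 2-subgroup, with an odd power centralising it and centralising all
its involutions, centralises it.  Consequences for a Sylow 2-subgroup isomorphic to
`Z/2^m × Z/2^m` (three involutions, inertial index 1 or 3).
-/

set_option autoImplicit false
set_option linter.style.haveILetI false

namespace CfsgLib.BlocksLocal

variable {G : Type*} [Group G]

/-- An element acting on an abelian 2-subgroup with odd order and fixing its involutions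
centralises it. -/
theorem mem_centralizer_of_fix_involutions {P : Subgroup G} (hP : IsPGroup 2 P)
    (hab : ∀ a ∈ P, ∀ b ∈ P, a * b = b * a) {g : G} (hg : g ∈ Subgroup.normalizer (P : Set G))
    {k : ℕ} (hk : Odd k) (hgk : g ^ k ∈ Subgroup.centralizer (P : Set G))
    (hfix : ∀ t ∈ P, t * t = 1 → g * t * g⁻¹ = t) :
    g ∈ Subgroup.centralizer (P : Set G) := by
  have key : ∀ (j : ℕ) (x : G), x ∈ P → x ^ 2 ^ j = 1 → g * x * g⁻¹ = x := by
    intro j
    induction j with
    | zero => intro x _ hx; rw [pow_zero, pow_one] at hx; subst hx; simp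
    | succ j ih =>
      intro x hx hxj
      have hsq : g * x ^ 2 * g⁻¹ = x ^ 2 :=
        ih _ (P.pow_mem hx 2) (by rw [← pow_mul, ← pow_succ']; exact hxj)
      have hgx : g * x * g⁻¹ ∈ P := (Subgroup.mem_normalizer_iff.1 hg x).1 hx
      set t := g * x * g⁻¹ * x⁻¹ with ht
      have htP : t ∈ P := P.mul_mem hgx (P.inv_mem hx)
      have hc : Commute (g * x * g⁻¹) x⁻¹ := hab _ hgx _ (P.inv_mem hx)
      have ht2 : t * t = 1 := by
        rw [ht, ← sq, hc.mul_pow, conj_pow, hsq, inv_pow, mul_inv_cancel]
      have hgt := hfix t htP ht2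
      have hiter : ∀ i : ℕ, g ^ i * x * (g ^ i)⁻¹ = t ^ i * x := by
        intro i
        induction i with
        | zero => simp
        | succ i ihi =>
          calc g ^ (i + 1) * x * (g ^ (i + 1))⁻¹ = g * (g ^ i * x * (g ^ i)⁻¹) * g⁻¹ := by
                simp [pow_succ', mul_assoc]
            _ = (g * t * g⁻¹) ^ i * (g * x * g⁻¹) := by
                rw [ihi, conj_pow]; simp [mul_assoc]
            _ = t ^ (i + 1) * x := by rw [hgt, pow_succ, ht]; simp [mul_assoc]
      have h1 := hiter k
      rw [← (hgk x hx : x * g ^ k = g ^ k * x)] at h1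
      simp only [mul_inv_cancel_right] at h1
      obtain ⟨l, rfl⟩ := hk
      rw [pow_succ, pow_mul, sq, ht2, one_pow, one_mul] at h1
      rw [ht, inv_mul_cancel_right] at h1
      exact h1.symm
  rw [Subgroup.mem_centralizer_iff]
  intro x hx
  obtain ⟨j, hj⟩ := hP ⟨x, hx⟩
  have h := key j x hx (by simpa using congrArg Subtype.val hj)
  rw [mul_inv_eq_iff_eq_mul] at h
  exact h.symm

theorem two_torsion_zmod_two_pow (m : ℕ) (a : ZMod (2 ^ m)) (ha : a + a = 0) :
    a = 0 ∨ a = ((2 ^ (m - 1) : ℕ) : ZMod (2 ^ m)) := by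
  have : NeZero (2 ^ m) := ⟨by positivity⟩
  rcases (ZMod.neg_eq_self_iff a).1 (neg_eq_of_add_eq_zero_left ha) with h | h
  · exact Or.inl h
  · right
    rcases m with _ | m
    · simp at h
    · have hpow : 2 ^ (m + 1) = 2 ^ m * 2 := pow_succ 2 m
      have hval : a.val = 2 ^ m := by omega
      rw [Nat.add_sub_cancel, ← hval, ZMod.natCast_zmod_val]

/-- The involutions of `Z/2^m × Z/2^m` number at most three. -/
theorem card_involutions_le_three {P : Subgroup G} (m : ℕ)
    (e : P ≃* Multiplicative (ZMod (2 ^ m) × ZMod (2 ^ m))) :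
    Nat.card {t : G // t ∈ P ∧ t * t = 1 ∧ t ≠ 1} ≤ 3 := by
  classical
  set h : ZMod (2 ^ m) := ((2 ^ (m - 1) : ℕ) : ZMod (2 ^ m))
  let s : Finset (ZMod (2 ^ m) × ZMod (2 ^ m)) :=
    (({0, h} : Finset (ZMod (2 ^ m))) ×ˢ ({0, h} : Finset (ZMod (2 ^ m)))).erase 0
  let f : {t : G // t ∈ P ∧ t * t = 1 ∧ t ≠ 1} → s := fun t =>
    ⟨(e ⟨t.1, t.2.1⟩).toAdd, by
      have h2 : (⟨t.1, t.2.1⟩ : P) * ⟨t.1, t.2.1⟩ = 1 := Subtype.ext t.2.2.1
      have h3 := congrArg Multiplicative.toAdd (congrArg e h2)
      rw [map_mul, map_one, toAdd_mul, toAdd_one] at h3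
      refine Finset.mem_erase.2 ⟨fun h0 => t.2.2.2 ?_, ?_⟩
      · have : e ⟨t.1, t.2.1⟩ = e 1 := by
          rw [map_one]; exact Multiplicative.toAdd.injective h0
        exact congrArg Subtype.val (e.injective this)
      · rw [Finset.mem_product]
        refine ⟨?_, ?_⟩
        · rw [Finset.mem_insert, Finset.mem_singleton]
          exact two_torsion_zmod_two_pow m _ (congrArg Prod.fst h3)
        · rw [Finset.mem_insert, Finset.mem_singleton]
          exact two_torsion_zmod_two_pow m _ (congrArg Prod.snd h3)⟩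
  have hf : Function.Injective f := fun a b hab => by
    have h1 := Multiplicative.toAdd.injective (congrArg Subtype.val hab)
    have h2 := congrArg Subtype.val (e.injective h1)
    exact Subtype.ext h2
  refine (Nat.card_le_card_of_injective f hf).trans ?_
  rw [Nat.card_eq_fintype_card, Fintype.card_coe]
  have h4 : ({0, h} ×ˢ {0, h} : Finset (ZMod (2 ^ m) × ZMod (2 ^ m))).card ≤ 4 := by
    rw [Finset.card_product]
    exact Nat.mul_le_mul Finset.card_le_two Finset.card_le_two
  have h0 : (0 : ZMod (2 ^ m) × ZMod (2 ^ m)) ∈ ({0, h} ×ˢ {0, h} : Finset _) := by simp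
  simp only [s, Finset.card_erase_of_mem h0]
  omega

section Sylow

variable [Finite G] (P : Sylow 2 G) {m : ℕ}
  (e : (P : Subgroup G) ≃* Multiplicative (ZMod (2 ^ m) × ZMod (2 ^ m)))

include e

omit [Finite G] in
theorem commute_of_homocyclic : ∀ a ∈ (P : Subgroup G), ∀ b ∈ (P : Subgroup G), a * b = b * a :=
  fun a ha b hb => congrArg Subtype.val (e.injective (by rw [map_mul, map_mul, mul_comm]) :
    (⟨a, ha⟩ : (P : Subgroup G)) * ⟨b, hb⟩ = ⟨b, hb⟩ * ⟨a, ha⟩)

omit [Finite G] in
theorem le_centralizer_of_homocyclic :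
    (P : Subgroup G) ≤ Subgroup.centralizer ((P : Subgroup G) : Set G) :=
  fun a ha b hb => commute_of_homocyclic P e b hb a ha

theorem odd_relIndex_of_homocyclic :
    Odd ((Subgroup.centralizer ((P : Subgroup G) : Set G)).relIndex
      (Subgroup.normalizer ((P : Subgroup G) : Set G))) := by
  have hd := Subgroup.relIndex_dvd_of_le_left (Subgroup.normalizer ((P : Subgroup G) : Set G))
    (le_centralizer_of_homocyclic P e)
  have hd2 : ((P : Subgroup G)).relIndex (Subgroup.normalizer ((P : Subgroup G) : Set G)) ∣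
      (P : Subgroup G).index := Subgroup.relIndex_dvd_index_of_le Subgroup.le_normalizer
  exact Nat.Coprime.odd_of_left (Nat.Coprime.coprime_dvd_right (hd.trans hd2)
    ((Nat.Prime.coprime_iff_not_dvd Nat.prime_two).2 P.not_dvd_index))

/-- Either the inertial index is one, or it is three and every element of the normaliser that
does not centralise the subgroup permutes the three involutions transitively. -/
theorem inertial_dichotomy :
    (Subgroup.centralizer ((P : Subgroup G) : Set G)).relIndex
        (Subgroup.normalizer ((P : Subgroup G) : Set G)) = 1 ∨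
      ((Subgroup.centralizer ((P : Subgroup G) : Set G)).relIndex
          (Subgroup.normalizer ((P : Subgroup G) : Set G)) = 3 ∧
        ∀ n ∈ Subgroup.normalizer ((P : Subgroup G) : Set G),
          n ∉ Subgroup.centralizer ((P : Subgroup G) : Set G) →
            (∀ z ∈ (P : Subgroup G), n * z * n⁻¹ = z → z = 1) ∧
            ∀ s t : G, s ∈ (P : Subgroup G) → orderOf s = 2 → t ∈ (P : Subgroup G) →
              orderOf t = 2 → IsConj s t) := by
  classical
  set N := Subgroup.normalizer ((P : Subgroup G) : Set G) with hN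
  set C := Subgroup.centralizer ((P : Subgroup G) : Set G) with hC
  let X := {t : G // t ∈ (P : Subgroup G) ∧ t * t = 1 ∧ t ≠ 1}
  have hX : Nat.card X ≤ 3 := card_involutions_le_three m e
  letI act : MulAction N X :=
    { smul := fun n t => ⟨(n : G) * t.1 * (n : G)⁻¹,
        (Subgroup.mem_normalizer_iff.1 n.2 t.1).1 t.2.1,
        by
          show MulAut.conj (n : G) t.1 * MulAut.conj (n : G) t.1 = 1
          rw [← map_mul, t.2.2.1, map_one],
        fun h => t.2.2.2 (conj_eq_one_iff.1 h)⟩
      one_smul := fun t => Subtype.ext (by show ((1 : N) : G) * t.1 * _ = _; simp)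
      mul_smul := fun n n' t => Subtype.ext (by
        show ((n * n' : N) : G) * t.1 * ((n * n' : N) : G)⁻¹
          = (n : G) * ((n' : G) * t.1 * (n' : G)⁻¹) * (n : G)⁻¹
        simp [mul_assoc]) }
  set φ := MulAction.toPermHom N X with hφ
  have hodd := odd_relIndex_of_homocyclic P e
  have hCn : (C.subgroupOf N).Normal := by
    refine ⟨fun c hc n => ?_⟩
    rw [Subgroup.mem_subgroupOf] at hc ⊢
    rw [hC, Subgroup.mem_centralizer_iff] at hc ⊢
    intro a ha
    have := hc _ ((Subgroup.mem_normalizer_iff''.1 n.2 a).1 ha)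
    simp only [Subgroup.coe_mul, InvMemClass.coe_inv]
    calc a * ((n : G) * c * (n : G)⁻¹) = (n : G) * (((n : G)⁻¹ * a * n) * c) * (n : G)⁻¹ := by
          group
      _ = (n : G) * c * (n : G)⁻¹ * a := by rw [this]; group
  have hker : φ.ker = C.subgroupOf N := by
    ext n
    rw [MonoidHom.mem_ker, Subgroup.mem_subgroupOf]
    constructor
    · intro h
      refine mem_centralizer_of_fix_involutions P.isPGroup' (commute_of_homocyclic P e) n.2 hodd
        ?_ ?_
      · exact Subgroup.mem_subgroupOf.1 (Subgroup.pow_index_mem (C.subgroupOf N) n)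
      · intro t ht ht2
        by_cases ht1 : t = 1
        · simp [ht1]
        · exact congrArg Subtype.val (DFunLike.congr_fun h (⟨t, ht, ht2, ht1⟩ : X))
    · intro h
      ext t
      show (n : G) * t.1 * (n : G)⁻¹ = t.1
      rw [← (Subgroup.mem_centralizer_iff.1 h t.1 t.2.1), mul_inv_cancel_right]
  have hcard : Nat.card φ.range = C.relIndex N := by
    rw [Subgroup.relIndex, ← hker, Subgroup.index_ker]
  have hdvd : C.relIndex N ∣ 6 := by
    rw [← hcard]
    refine (Subgroup.card_subgroup_dvd_card _).trans ?_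
    rw [Nat.card_perm]
    exact Nat.factorial_dvd_factorial hX
  have h13 : C.relIndex N = 1 ∨ C.relIndex N = 3 := by
    have : C.relIndex N ∈ Nat.divisors 6 := Nat.mem_divisors.2 ⟨hdvd, by norm_num⟩
    rw [show Nat.divisors 6 = {1, 2, 3, 6} by decide] at this
    simp only [Finset.mem_insert, Finset.mem_singleton] at this
    rcases this with h | h | h | h
    · exact Or.inl h
    · rw [h] at hodd; exact absurd hodd (by decide)
    · exact Or.inr h
    · rw [h] at hodd; exact absurd hodd (by decide)
  rcases h13 with h1 | h3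
  · exact Or.inl h1
  refine Or.inr ⟨h3, fun n hn hnC => ?_⟩
  have hσ3 : φ ⟨n, hn⟩ * φ ⟨n, hn⟩ * φ ⟨n, hn⟩ = 1 := by
    have h := pow_card_eq_one' (x := (⟨φ ⟨n, hn⟩, _, rfl⟩ : φ.range))
    rw [hcard, h3, pow_succ, sq] at h
    exact congrArg Subtype.val h
  have hne : φ ⟨n, hn⟩ ≠ 1 := fun h => hnC (by
    have : (⟨n, hn⟩ : N) ∈ φ.ker := h
    rw [hker] at this
    exact Subgroup.mem_subgroupOf.1 this)
  set σ := φ ⟨n, hn⟩
  obtain ⟨a, ha⟩ : ∃ a, σ a ≠ a := by
    by_contra h
    exact hne (Equiv.ext fun a => not_not.1 fun ha => h ⟨a, ha⟩)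
  have h3a : σ (σ (σ a)) = a := DFunLike.congr_fun hσ3 a
  have hab : σ (σ a) ≠ a := fun h => ha (by
    conv_rhs => rw [← h3a, h])
  have hall : ∀ x : X, x = a ∨ x = σ a ∨ x = σ (σ a) := by
    intro x
    by_contra h
    push Not at h
    obtain ⟨hx1, hx2, hx3⟩ := h
    have : Fintype X := Fintype.ofFinite X
    have hs : ({x, a, σ a, σ (σ a)} : Finset X).card = 4 := by
      rw [Finset.card_insert_of_notMem (by simp [hx1, hx2, hx3]),
        Finset.card_insert_of_notMem (by simp [Ne.symm ha, Ne.symm hab]),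
        Finset.card_insert_of_notMem (by simpa using fun h => ha (σ.injective h).symm),
        Finset.card_singleton]
    have hle := Finset.card_le_univ ({x, a, σ a, σ (σ a)} : Finset X)
    rw [hs, ← Nat.card_eq_fintype_card] at hle
    omega
  have hmove : ∀ x : X, σ x ≠ x := by
    intro x hx
    rcases hall x with rfl | rfl | rfl
    · exact ha hx
    · exact ha (σ.injective hx)
    · exact ha (σ.injective (σ.injective hx))
  constructor
  · intro z hz hnz
    by_contra hz1
    obtain ⟨j, hj⟩ := P.isPGroup'.exists_card_eq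
    obtain ⟨i, -, hord⟩ := (Nat.dvd_prime_pow Nat.prime_two).1
      (hj ▸ Subgroup.orderOf_dvd_natCard (P : Subgroup G) hz)
    obtain ⟨i, rfl⟩ := Nat.exists_eq_succ_of_ne_zero (n := i) (by
      rintro rfl; rw [pow_zero, orderOf_eq_one_iff] at hord; exact hz1 hord)
    set t := z ^ 2 ^ i with ht
    have ht2 : t * t = 1 := by
      rw [ht, ← pow_add, ← two_mul, ← pow_succ', ← hord, pow_orderOf_eq_one]
    have ht1 : t ≠ 1 := fun h => by
      have := Nat.le_of_dvd (by positivity) (orderOf_dvd_of_pow_eq_one (h : z ^ 2 ^ i = 1))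
      rw [hord] at this
      exact absurd this (not_le.2 (Nat.pow_lt_pow_right one_lt_two (Nat.lt_succ_self i)))
    refine hmove ⟨t, pow_mem hz _, ht2, ht1⟩ (Subtype.ext ?_)
    show n * t * n⁻¹ = t
    rw [ht, ← conj_pow, hnz]
  · intro s t hs hs2 ht ht2
    have key : ∀ x : X, IsConj a.1 x.1 := by
      intro x
      have hc : ∀ y : X, IsConj y.1 (σ y).1 := fun y => isConj_iff.2 ⟨n, rfl⟩
      rcases hall x with rfl | rfl | rfl
      · exact IsConj.refl _
      · exact hc a
      · exact (hc a).trans (hc _)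
    have hmk : ∀ u : G, u ∈ (P : Subgroup G) → orderOf u = 2 → IsConj a.1 u := fun u hu hu2 =>
      key ⟨u, hu, by rw [← sq, ← hu2, pow_orderOf_eq_one],
        fun h => by simp [h] at hu2⟩
    exact (hmk s hs hs2).symm.trans (hmk t ht ht2)

end Sylow

end CfsgLib.BlocksLocal
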