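import Cfsg.Agent.Blocks.Idempotent
import Cfsg.Agent.BlocksLocal.OverLocalRing

/-!
# Block idempotents are supported on `p`-regular elements; weak orthogonality

* `blockCoeff_eq_zero_of_dvd`: the coefficients of a union of blocks vanish at `p`-singular
  elements;
* `sum_coeff_mul_translate_eq_zero`: for an idempotent `e` of the group algebra over the local
  ring, a `p`-regular `u` commuting with it and a class function `θ` vanishing at `p`-regular
  elements, `∑ g, e g * θ (g * u) = 0`;
* `blockProj`: `u ↦ ∑ g, blockCoeff A g * θ (g * u)` fixes the members of `A` and kills the other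
  irreducible characters, and its values at regular elements only see `θ` at regular elements;
* `sum_regular_mul_conj_eq_zero`: weak orthogonality of irreducible characters in different blocks.
-/

set_option autoImplicit false
set_option linter.unusedSectionVars false

namespace CfsgLib.BlocksLocal

open Cfsg MonoidAlgebra CfsgLib.Blocks
open scoped ComplexConjugate

universe u

variable {G : Type u} [Group G] [Fintype G] {M : Ideal AlgInt} [M.IsPrime] {p : ℕ}

/-- The coefficients of a union of blocks, as an element over the local ring, form an idempotent. -/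
theorem setIdemO_mul_self {A : Set (IrrCharacter G)}
    (h : ∀ g, Cfsg.MemLocalRing M (Cfsg.blockCoeff A g)) :
    (setIdemO M A h : MonoidAlgebra (localRing M) G) * setIdemO M A h = setIdemO M A h := by
  classical
  refine congrArg Subtype.val (ctr_ext_omegaO (M := M) (a := setIdemO M A h * setIdemO M A h)
    (b := setIdemO M A h) fun ψ => ?_)
  rw [map_mul, omegaO_setIdemO]
  split_ifs <;> simp

theorem coe_coeff_setIdemO {A : Set (IrrCharacter G)}
    (h : ∀ g, Cfsg.MemLocalRing M (Cfsg.blockCoeff A g)) (g : G) :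
    (((setIdemO M A h : MonoidAlgebra (localRing M) G).coeff g : localRing M) : ℂ) =
      Cfsg.blockCoeff A g := by
  simp [setIdemO]

theorem orderOf_eq_of_isConj {g h : G} (hgh : IsConj g h) : orderOf h = orderOf g := by
  obtain ⟨c, rfl⟩ := isConj_iff.1 hgh
  exact MulEquiv.orderOf_eq (MulAut.conj c) g

/-- Block idempotents are supported on `p`-regular elements. -/
theorem blockCoeff_eq_zero_of_dvd (hM : Cfsg.IsPModular p M) {A : Set (IrrCharacter G)}
    (hA : IsBlockUnion M A) {g : G} (hg : p ∣ orderOf g) : Cfsg.blockCoeff A g = 0 := by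
  classical
  have h := sum_coeff_mul_eq_zero_of_idempotent hM _
    (setIdemO_mul_self (memLocalRing_blockCoeff hA))
    (fun x => if ConjClasses.mk x = ConjClasses.mk g then (1 : ℂ) else 0) ?_ ?_
  · simp only [coe_coeff_setIdemO, mul_ite, mul_one, mul_zero] at h
    rw [← Finset.sum_filter, Finset.sum_congr rfl (g := fun _ => Cfsg.blockCoeff A g) (fun x hx => ?_),
      Finset.sum_const, nsmul_eq_mul, mul_eq_zero, Nat.cast_eq_zero, Finset.card_eq_zero] at h
    · refine h.resolve_left fun h0 => ?_
      have hmem : g ∈ Finset.univ.filter (fun x => ConjClasses.mk x = ConjClasses.mk g) := by simp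
      rw [h0] at hmem
      exact Finset.notMem_empty _ hmem
    · exact blockCoeff_isConj A (ConjClasses.mk_eq_mk_iff_isConj.1 (Finset.mem_filter.1 hx).2)
  · intro x c
    rw [show ConjClasses.mk (c * x * c⁻¹) = ConjClasses.mk x from
      ConjClasses.mk_eq_mk_iff_isConj.2 (isConj_iff.2 ⟨c⁻¹, by group⟩)]
  · intro x hx
    refine if_neg fun hxg => hx ?_
    rwa [← orderOf_eq_of_isConj (ConjClasses.mk_eq_mk_iff_isConj.1 hxg)]

theorem not_dvd_of_blockCoeff_ne_zero (hM : Cfsg.IsPModular p M) {A : Set (IrrCharacter G)}
    (hA : IsBlockUnion M A) {g : G} (hg : Cfsg.blockCoeff A g ≠ 0) : ¬ p ∣ orderOf g :=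
  fun h => hg (blockCoeff_eq_zero_of_dvd hM hA h)

/-- Averaging an idempotent over a cyclic group of order prime to `p`. -/
theorem sum_coeff_mul_avg_eq_zero (hM : Cfsg.IsPModular p M) {H : Type*} [Group H] [Fintype H]
    (e : MonoidAlgebra (localRing M) H) (he : e * e = e) (w : H) {m : ℕ} (hwm : w ^ m = 1)
    (hm : ¬ p ∣ m) (hew : Commute (single w (1 : localRing M)) e) (θ : H → ℂ)
    (hθ : ∀ g h : H, θ (h * g * h⁻¹) = θ g) (hreg : ∀ g : H, ¬ p ∣ orderOf g → θ g = 0) :
    ∑ g, (e.coeff g : ℂ) * ∑ i ∈ Finset.range m, θ (g * w ^ i) = 0 := by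
  set W := single w (1 : localRing M) with hW
  have hWm : W ^ m = 1 := by rw [hW, single_pow, hwm, one_pow, MonoidAlgebra.one_def]
  set A := ∑ i ∈ Finset.range m, W ^ i with hA
  have hWA : W * A = A := by
    have h1 := mul_geom_sum W m
    rw [hWm, sub_self, sub_mul, one_mul, sub_eq_zero] at h1
    exact h1
  have hAA : A * A = m • A := by
    have hpow : ∀ i : ℕ, W ^ i * A = A := by
      intro i
      induction i with
      | zero => rw [pow_zero, one_mul]
      | succ i ih => rw [pow_succ, mul_assoc, hWA, ih]
    conv_lhs => arg 1; rw [hA]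
    rw [Finset.sum_mul, Finset.sum_congr rfl fun i _ => hpow i, Finset.sum_const,
      Finset.card_range]
  have hAe : Commute A e := Commute.sum_left _ _ _ fun i _ => hew.pow_left i
  obtain ⟨c, hc⟩ := (isUnit_natCast hM hm).exists_left_inv
  have hE : (c • (e * A)) * (c • (e * A)) = c • (e * A) := by
    rw [smul_mul_smul_comm, mul_assoc e A, ← mul_assoc A, hAe.eq, mul_assoc e A, hAA,
      ← mul_assoc, he, mul_smul_comm, ← Nat.cast_smul_eq_nsmul (localRing M), smul_smul,
      mul_assoc, hc, mul_one]
  have key := sum_coeff_mul_eq_zero_of_idempotent hM _ hE θ hθ hreg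
  have hcoeff : ∀ g : H, ((c • (e * A)).coeff g : ℂ) =
      (c : ℂ) * ∑ i ∈ Finset.range m, (e.coeff (g * (w ^ i)⁻¹) : ℂ) := by
    intro g
    rw [coeff_smul_apply, smul_eq_mul, Subring.coe_mul, hA, Finset.mul_sum,
      MonoidAlgebra.coeff_sum, Finsupp.finsetSum_apply, AddSubmonoidClass.coe_finsetSum]
    congr 1
    refine Finset.sum_congr rfl fun i _ => ?_
    rw [hW, single_pow, one_pow, coeff_mul_single_apply, mul_one]
  simp only [hcoeff, mul_assoc, ← Finset.mul_sum] at key
  have hc0 : (c : ℂ) ≠ 0 := fun h => by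
    rw [show c = 0 from Subtype.ext h, zero_mul] at hc
    exact zero_ne_one hc
  have key' := (mul_eq_zero.1 key).resolve_left hc0
  simp only [Finset.sum_mul] at key'
  rw [Finset.sum_comm] at key'
  rw [← key']
  simp only [Finset.mul_sum]
  rw [Finset.sum_comm]
  refine Finset.sum_congr rfl fun i _ => ?_
  exact Fintype.sum_equiv (Equiv.mulRight (w ^ i)) _ _ fun g => by simp

/-- Translating an idempotent by a regular element: class functions vanishing on regular elements
still vanish. -/
theorem sum_coeff_mul_translate_eq_zero (hM : Cfsg.IsPModular p M)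
    (e : MonoidAlgebra (localRing M) G) (he : e * e = e) {u : G} (hu : ¬ p ∣ orderOf u)
    (heu : Commute (single u (1 : localRing M)) e) (θ : G → ℂ)
    (hθ : ∀ g h : G, θ (h * g * h⁻¹) = θ g) (hreg : ∀ g : G, ¬ p ∣ orderOf g → θ g = 0) :
    ∑ g, (e.coeff g : ℂ) * θ (g * u) = 0 := by
  classical
  set m := orderOf u with hm
  have hm0 : 0 < m := orderOf_pos u
  have : NeZero m := ⟨hm0.ne'⟩
  set ι : G →* G × Multiplicative (ZMod m) := MonoidHom.inl G (Multiplicative (ZMod m)) with hι
  set w : G × Multiplicative (ZMod m) := (u, Multiplicative.ofAdd 1) with hw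
  set e₀ := MonoidAlgebra.mapDomainRingHom (localRing M) ι e with he₀
  have hwm : w ^ m = 1 := by
    refine Prod.ext (pow_orderOf_eq_one u) ?_
    show (Multiplicative.ofAdd (1 : ZMod m)) ^ m = 1
    rw [← ofAdd_nsmul, nsmul_one, ZMod.natCast_self, ofAdd_zero]
  have hwE : Commute (single w (1 : localRing M)) e₀ := by
    have h1 : single w (1 : localRing M) =
        MonoidAlgebra.mapDomainRingHom (localRing M) ι (single u 1) *
          single ((1 : G), Multiplicative.ofAdd (1 : ZMod m)) 1 := by
      simp [hw, hι]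
    rw [h1]
    refine (heu.map (MonoidAlgebra.mapDomainRingHom (localRing M) ι)).mul_left ?_
    rw [eq_sum_single e, map_sum]
    refine Commute.sum_right _ _ _ fun g _ => ?_
    rw [MonoidAlgebra.mapDomainRingHom_apply, MonoidAlgebra.mapDomain_single]
    exact single_commute_single (Prod.ext (by simp [hι]) (mul_comm _ _)) (Commute.all _ _)
  set θ' : G × Multiplicative (ZMod m) → ℂ :=
    fun x => if x.2 = Multiplicative.ofAdd 1 then θ x.1 else 0 with hθ'
  have key := sum_coeff_mul_avg_eq_zero hM e₀ (by rw [he₀, ← map_mul, he]) w hwm hu hwE θ' ?_ ?_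
  · let L : MonoidAlgebra (localRing M) (G × Multiplicative (ZMod m)) →+ ℂ :=
      { toFun := fun a => ∑ x, (a.coeff x : ℂ) * ∑ i ∈ Finset.range m, θ' (x * w ^ i)
        map_zero' := by simp
        map_add' := fun a b => by simp [add_mul, Finset.sum_add_distrib] }
    have hL : ∀ x r, L (single x r) = (r : ℂ) * ∑ i ∈ Finset.range m, θ' (x * w ^ i) := by
      intro x r
      show ∑ y, ((single x r).coeff y : ℂ) * _ = _
      rw [Finset.sum_eq_single x]
      · simp
      · intro y _ hy; simp [hy.symm]
      · simp
    have key' : L e₀ = 0 := key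
    rw [he₀, eq_sum_single e, map_sum, map_sum] at key'
    rw [← key']
    refine Finset.sum_congr rfl fun g _ => ?_
    rw [MonoidAlgebra.mapDomainRingHom_apply, MonoidAlgebra.mapDomain_single, hL,
      Finset.sum_eq_single (1 % m)]
    · have hpow : w ^ (1 % m) = w := by
        conv_rhs => rw [← pow_one w, ← Nat.mod_add_div 1 m, pow_add, pow_mul, hwm, one_pow, mul_one]
      rw [hpow]
      simp [hθ', hι, hw]
    · intro i hi hne
      refine if_neg fun h => hne ?_
      have h2 : ((i : ZMod m)) = 1 := by
        simp [hι, hw, ← ofAdd_nsmul] at h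
        exact h
      have h3 := congrArg ZMod.val h2
      rwa [ZMod.val_natCast, ZMod.val_one_eq_one_mod, Nat.mod_eq_of_lt (Finset.mem_range.1 hi)]
        at h3
    · intro h
      exact absurd (Finset.mem_range.2 (Nat.mod_lt 1 hm0)) h
  · intro g h
    simp only [hθ', Prod.fst_mul, Prod.snd_mul, Prod.fst_inv, Prod.snd_inv, hθ]
    rw [mul_comm h.2, mul_inv_cancel_right]
  · intro x hx
    simp only [hθ']
    split_ifs with h
    · refine hreg _ fun hd => hx (hd.trans ?_)
      exact orderOf_map_dvd (MonoidHom.fst G (Multiplicative (ZMod m))) x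
    · rfl

/-- The projection of a function to a set of irreducible characters, by the idempotent. -/
noncomputable def blockProj (A : Set (IrrCharacter G)) (θ : G → ℂ) (u : G) : ℂ :=
  ∑ g, Cfsg.blockCoeff A g * θ (g * u)

open Classical in
theorem blockProj_irr (A : Set (IrrCharacter G)) (χ : IrrCharacter G) (u : G) :
    blockProj A (χ : G → ℂ) u = if χ ∈ A then (χ : G → ℂ) u else 0 := by
  have h := evalFun_central_mul χ (setIdemC A) (single u 1)
  have hR : ∀ v : G, evalFun (χ : G → ℂ) (single v (1 : ℂ)) = (χ : G → ℂ) v := by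
    intro v
    rw [evalFun, Finset.sum_eq_single v]
    · simp
    · intro b _ hb; simp [hb.symm]
    · simp
  have hL : evalFun (χ : G → ℂ) ((setIdemC A : MonoidAlgebra ℂ G) * single u 1) =
      blockProj A (χ : G → ℂ) u := by
    refine (Fintype.sum_equiv (Equiv.mulRight u) _ _ fun g => ?_).symm
    simp
  rw [hL, hR, omega_setIdemC] at h
  rw [h]
  split_ifs <;> simp

/-- At regular elements the projection to a union of blocks only depends on the values at regular
elements. -/
theorem blockProj_congr_regular (hM : Cfsg.IsPModular p M) {A : Set (IrrCharacter G)}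
    (hA : IsBlockUnion M A) {θ η : G → ℂ} (hθ : Cfsg.IsClassFunction G θ)
    (hη : Cfsg.IsClassFunction G η) (h : ∀ g, ¬ p ∣ orderOf g → θ g = η g) {u : G}
    (hu : ¬ p ∣ orderOf u) : blockProj A θ u = blockProj A η u := by
  have h0 := sum_coeff_mul_translate_eq_zero hM _ (setIdemO_mul_self (memLocalRing_blockCoeff hA))
    hu (Subring.mem_center_iff.1 (setIdemO M A (memLocalRing_blockCoeff hA)).2 _)
    (fun g => θ g - η g) (fun g x => by rw [hθ, hη]) (fun g hg => by rw [h g hg, sub_self])
  simp only [coe_coeff_setIdemO, mul_sub, Finset.sum_sub_distrib] at h0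
  exact sub_eq_zero.1 h0

theorem blockProj_eq_sum (A : Set (IrrCharacter G)) [DecidablePred (· ∈ A)] {θ : G → ℂ}
    (hθ : Cfsg.IsClassFunction G θ) (u : G) :
    blockProj A θ u = ∑ χ : IrrCharacter G,
      if χ ∈ A then Cfsg.classInner θ (χ : G → ℂ) * (χ : G → ℂ) u else 0 := by
  classical
  have hexp := Characters.classFunction_expansion hθ
  calc blockProj A θ u
      = blockProj A (∑ χ : IrrCharacter G, Cfsg.classInner θ (χ : G → ℂ) • (χ : G → ℂ)) u := by
        rw [← hexp]
    _ = ∑ χ : IrrCharacter G, Cfsg.classInner θ (χ : G → ℂ) * blockProj A (χ : G → ℂ) u := by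
        simp only [blockProj, Finset.sum_apply, Pi.smul_apply, smul_eq_mul, Finset.mul_sum]
        rw [Finset.sum_comm]
        exact Finset.sum_congr rfl fun χ _ => Finset.sum_congr rfl fun g _ => by ring
    _ = _ := Finset.sum_congr rfl fun χ _ => by
        rw [blockProj_irr]
        split_ifs <;> simp

/-- The part of a function at regular elements. -/
noncomputable def regPart (p : ℕ) (θ : G → ℂ) : G → ℂ :=
  fun g => if p ∣ orderOf g then 0 else θ g

theorem isClassFunction_regPart {θ : G → ℂ} (hθ : Cfsg.IsClassFunction G θ) :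
    Cfsg.IsClassFunction G (regPart p θ) := by
  intro g h
  simp only [regPart, show h * g * h⁻¹ = MulAut.conj h g from rfl, MulEquiv.orderOf_eq]
  rw [show θ (MulAut.conj h g) = θ g from hθ g h]

open Classical in
/-- Weak orthogonality, rows: irreducible characters in different blocks are orthogonal on the
regular elements. -/
theorem classInner_regPart_eq_zero (hM : Cfsg.IsPModular p M) {χ ψ : IrrCharacter G}
    (h : ¬ Cfsg.SameBlock M (χ : G → ℂ) (ψ : G → ℂ)) :
    Cfsg.classInner (regPart p (χ : G → ℂ)) (ψ : G → ℂ) = 0 := by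
  set B := Cfsg.blockOf M (ψ : G → ℂ)
  set φ := regPart p (χ : G → ℂ)
  have hB : IsBlockUnion M B := isBlockUnion_of_isPBlock (isPBlock_blockOf ψ)
  have hφ : Cfsg.IsClassFunction G φ :=
    isClassFunction_regPart (Characters.isClassFunction_of_isIrr χ.2)
  have hzero : ∀ u : G, ¬ p ∣ orderOf u →
      ∑ η : IrrCharacter G, (if η ∈ B then Cfsg.classInner φ (η : G → ℂ) * (η : G → ℂ) u else 0)
        = 0 := by
    intro u hu
    rw [← blockProj_eq_sum B hφ, blockProj_congr_regular hM hB hφ
      (Characters.isClassFunction_of_isIrr χ.2) (fun g hg => if_neg hg) hu, blockProj_irr,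
      if_neg (show χ ∉ B from fun hh => h (sameBlock_symm hh))]
  have hsum : ∑ η : IrrCharacter G,
      (if η ∈ B then Cfsg.classInner φ (η : G → ℂ) * conj (Cfsg.classInner φ (η : G → ℂ)) else 0)
        = 0 := by
    calc _ = (Nat.card G : ℂ)⁻¹ * ∑ g : G, (∑ η : IrrCharacter G,
          (if η ∈ B then Cfsg.classInner φ (η : G → ℂ) * (η : G → ℂ) g else 0)) * conj (φ g) := by
            simp only [Finset.sum_mul, Finset.mul_sum]
            rw [Finset.sum_comm]
            refine Finset.sum_congr rfl fun η _ => ?_
            split_ifs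
            · rw [← Characters.classInner_conj_symm]
              simp only [Cfsg.classInner, Finset.mul_sum]
              exact Finset.sum_congr rfl fun g _ => by ring
            · simp
      _ = 0 := by
        rw [Finset.sum_eq_zero, mul_zero]
        intro g _
        by_cases hg : p ∣ orderOf g
        · simp [φ, regPart, hg]
        · rw [hzero g hg, zero_mul]
  have hre : ∑ η : IrrCharacter G,
      (if η ∈ B then Complex.normSq (Cfsg.classInner φ (η : G → ℂ)) else 0) = 0 := by
    have := congrArg Complex.re hsum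
    rw [Complex.re_sum, Complex.zero_re] at this
    refine Eq.trans (Finset.sum_congr rfl fun η _ => ?_) this
    split_ifs
    · rw [Complex.mul_conj, Complex.ofReal_re]
    · simp
  have := (Finset.sum_eq_zero_iff_of_nonneg (fun η _ => by
    split_ifs
    · exact Complex.normSq_nonneg _
    · exact le_rfl)).1 hre ψ (Finset.mem_univ ψ)
  rwa [if_pos (mem_blockOf_self ψ), Complex.normSq_eq_zero] at this

theorem sum_regular_mul_conj_eq_zero (hM : Cfsg.IsPModular p M) {χ ψ : IrrCharacter G}
    (h : ¬ Cfsg.SameBlock M (χ : G → ℂ) (ψ : G → ℂ)) :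
    ∑ᶠ x ∈ {x : G | ¬ p ∣ orderOf x}, (χ : G → ℂ) x * conj ((ψ : G → ℂ) x) = 0 := by
  classical
  have h0 := classInner_regPart_eq_zero hM h
  rw [Cfsg.classInner, mul_eq_zero] at h0
  have h1 := h0.resolve_left (inv_ne_zero Characters.natCard_ne_zero)
  rw [finsum_mem_def, finsum_eq_sum_of_fintype]
  rw [← h1]
  refine Finset.sum_congr rfl fun x _ => ?_
  simp only [Set.indicator_apply, Set.mem_ofPred_eq, regPart]
  split_ifs <;> simp_all

end CfsgLib.BlocksLocal
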