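import Cfsg.Agent.Blocks.Sections
import Cfsg.Agent.Blocks.RegularForm
import Cfsg.Agent.PrincipalBlock.Basic

/-!
# The principal block on a p-section

Values of principal block characters on the section of a p-element `x` come from the principal
block of `C(x)`; the corresponding sums of products agree.
-/

set_option autoImplicit false
set_option linter.style.haveILetI false
set_option linter.unusedSectionVars false

namespace CfsgLib.BlocksLocal

open Cfsg CfsgLib.Blocks CfsgLib.PrincipalBlock
open scoped ComplexConjugate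

universe u

variable {G : Type u} [Group G] [Fintype G] {M : Ideal AlgInt} [M.IsPrime] {p : ℕ} [Fact p.Prime]

theorem blockHeight_trivChar :
    Cfsg.blockHeight p (Cfsg.blockOf M ((trivChar G : IrrCharacter G) : G → ℂ))
      ((trivChar G : IrrCharacter G) : G → ℂ) = 0 := by
  simp [Cfsg.blockHeight, Cfsg.charDegree, trivChar]

theorem isInducedBlock_principal_iff (hM : Cfsg.IsPModular p M) {H : Subgroup G} [Fintype H]
    {e : Set (IrrCharacter H)} (he : Cfsg.InducedBlockDefined M H e) :
    Cfsg.IsInducedBlock M H e (Cfsg.principalBlock M G) ↔ e = Cfsg.principalBlock M H := by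
  rw [principalBlock_eq (G := G), principalBlock_eq (G := H)]
  exact third_main hM (trivChar G) (trivChar H) (fun _ => rfl) blockHeight_trivChar
    blockHeight_trivChar he

/-- The blocks of the centralizer of a p-element under the principal block: only the principal
one. -/
theorem overSet_principal (hM : Cfsg.IsPModular p M) {x : G} (hx : ∃ k, orderOf x = p ^ k)
    [Fintype (Subgroup.centralizer ({x} : Set G))] :
    overSet M (Subgroup.centralizer ({x} : Set G)) (Cfsg.principalBlock M G)
        (isBlockUnion_of_isPBlock isPBlock_principalBlock) =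
      Cfsg.principalBlock M (Subgroup.centralizer ({x} : Set G)) := by
  classical
  refine Set.ext fun ξ => ⟨fun hξ => ?_, fun hξ => ?_⟩
  · have h := isInducedBlock_of_mem_overSet hM hx isPBlock_principalBlock hξ
    rw [← (isInducedBlock_principal_iff hM ⟨_, h⟩).1 h]
    exact mem_blockOf_self ξ
  · obtain ⟨B', hB'⟩ := induced_setup hM hx ξ
    have he : Cfsg.blockOf M (ξ : _ → ℂ) =
        Cfsg.principalBlock M (Subgroup.centralizer ({x} : Set G)) :=
      isPBlock_eq_of_mem (isPBlock_blockOf ξ) isPBlock_principalBlock (mem_blockOf_self ξ) hξ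
    have hind := (isInducedBlock_principal_iff hM ⟨B', hB'⟩).2 he
    show omegaBar M ξ (resCtr _ (idemBar M (Cfsg.principalBlock M G)
        (isBlockUnion_of_isPBlock isPBlock_principalBlock))) ≠ 0
    rw [(isInducedBlock_iff _ hind.1 isPBlock_principalBlock (mem_blockOf_self ξ) trivChar_mem).1
      hind, omegaBar_idemBar, if_pos trivChar_mem]
    exact one_ne_zero

open Classical in
/-- Values on the section of `x` through the principal block of the centralizer. -/
theorem blockPart_principal_translate (hM : Cfsg.IsPModular p M) {x : G}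
    (hx : ∃ k, orderOf x = p ^ k) [Fintype (Subgroup.centralizer ({x} : Set G))]
    (χ : IrrCharacter G) {y : Subgroup.centralizer ({x} : Set G)} (hy : ¬ p ∣ orderOf y) :
    Cfsg.blockPart (Cfsg.principalBlock M (Subgroup.centralizer ({x} : Set G)))
      (fun c : Subgroup.centralizer ({x} : Set G) => (χ : G → ℂ) (x * (c : G))) y =
        if χ ∈ Cfsg.principalBlock M G then (χ : G → ℂ) (x * (y : G)) else 0 := by
  rw [← overSet_principal hM hx]
  exact blockPart_overSet hM hx isPBlock_principalBlock χ hy

open Classical in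
/-- Products of principal block values on the section of `x` are those in the principal block of
its centralizer. -/
theorem sum_principal_section_mul_conj (hM : Cfsg.IsPModular p M) {x : G}
    (hx : ∃ k, orderOf x = p ^ k) [Fintype (Subgroup.centralizer ({x} : Set G))]
    {c c' : Subgroup.centralizer ({x} : Set G)} (hc : ¬ p ∣ orderOf c) (hc' : ¬ p ∣ orderOf c') :
    ∑ χ : IrrCharacter G, (if χ ∈ Cfsg.principalBlock M G then
        (χ : G → ℂ) (x * (c : G)) * conj ((χ : G → ℂ) (x * (c' : G))) else 0) =
      ∑ ξ : IrrCharacter (Subgroup.centralizer ({x} : Set G)),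
        (if ξ ∈ Cfsg.principalBlock M (Subgroup.centralizer ({x} : Set G)) then
          (ξ : _ → ℂ) c * conj ((ξ : _ → ℂ) c') else 0) := by
  set b₀ := Cfsg.principalBlock M (Subgroup.centralizer ({x} : Set G))
  have hb : IsBlockUnion M b₀ := isBlockUnion_of_isPBlock isPBlock_principalBlock
  set w : IrrCharacter G → ℂ := fun χ => conj ((χ : G → ℂ) (x * (c' : G)))
  set a : IrrCharacter (Subgroup.centralizer ({x} : Set G)) → ℂ := fun ξ =>
    ∑ χ : IrrCharacter G,
      Cfsg.classInner (fun d : (Subgroup.centralizer ({x} : Set G)) => (χ : G → ℂ) (x * (d : G))) (ξ : (Subgroup.centralizer ({x} : Set G)) → ℂ) * w χ with ha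
  have hsum : ∀ z : (Subgroup.centralizer ({x} : Set G)), ∑ ξ, a ξ * (ξ : (Subgroup.centralizer ({x} : Set G)) → ℂ) z =
      ∑ χ : IrrCharacter G, (χ : G → ℂ) (x * (z : G)) * w χ := by
    intro z
    simp only [ha, Finset.sum_mul]
    rw [Finset.sum_comm]
    refine Finset.sum_congr rfl fun χ _ => ?_
    have := congrFun (Characters.classFunction_expansion
      (isClassFunction_translate (χ : G → ℂ) (Characters.isClassFunction_of_isIrr χ.2) x)) z
    rw [Finset.sum_apply] at this
    simp only [Pi.smul_apply, smul_eq_mul] at this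
    rw [this, Finset.sum_mul]
    exact Finset.sum_congr rfl fun ξ _ => by ring
  have hcount : ∀ z : (Subgroup.centralizer ({x} : Set G)), ¬ p ∣ orderOf z →
      ∑ χ : IrrCharacter G, (χ : G → ℂ) (x * (z : G)) * w χ =
        ∑ ξ : IrrCharacter (Subgroup.centralizer ({x} : Set G)), (ξ : (Subgroup.centralizer ({x} : Set G)) → ℂ) z * conj ((ξ : (Subgroup.centralizer ({x} : Set G)) → ℂ) c') := by
    intro z hz
    rw [Characters.sum_irr_mul_conj, Characters.sum_irr_mul_conj]
    congr 1
    have hpart : ∀ d : (Subgroup.centralizer ({x} : Set G)), ¬ p ∣ orderOf d → Cfsg.IsPPart p (x * (d : G)) x := fun d hd =>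
      isPPart_of_mul (Subgroup.mem_centralizer_singleton_iff.1 d.2).symm hx
        (by rwa [Subgroup.orderOf_coe])
    refine Nat.card_congr
      { toFun := fun g => ⟨⟨g.1, ?_⟩, ?_⟩
        invFun := fun h => ⟨(h.1 : G), ?_⟩
        left_inv := fun g => rfl
        right_inv := fun h => rfl }
    · have h1 := isPPart_conj (hpart z hz) g.1
      rw [g.2] at h1
      have h2 := isPPart_unique (Fact.out : p.Prime) h1 (hpart c' hc')
      exact Subgroup.mem_centralizer_singleton_iff.2 (mul_inv_eq_iff_eq_mul.1 h2)
    · refine Subtype.ext ?_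
      have h1 := isPPart_conj (hpart z hz) g.1
      rw [g.2] at h1
      have h2 := isPPart_unique (Fact.out : p.Prime) h1 (hpart c' hc')
      have h3 : g.1 * x * g.1⁻¹ * (g.1 * (z : G) * g.1⁻¹) = x * (c' : G) :=
        (show g.1 * x * g.1⁻¹ * (g.1 * (z : G) * g.1⁻¹) = g.1 * (x * (z : G)) * g.1⁻¹ by
          group).trans g.2
      rw [h2] at h3
      exact mul_left_cancel h3
    · have h1 := congrArg Subtype.val h.2
      simp only [Subgroup.coe_mul, Subgroup.coe_inv] at h1
      have h2 : ((h.1 : (Subgroup.centralizer ({x} : Set G))) : G) * x = x * ((h.1 : (Subgroup.centralizer ({x} : Set G))) : G) :=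
        Subgroup.mem_centralizer_singleton_iff.1 h.1.2
      calc ((h.1 : (Subgroup.centralizer ({x} : Set G))) : G) * (x * (z : G)) * ((h.1 : (Subgroup.centralizer ({x} : Set G))) : G)⁻¹
          = ((h.1 : (Subgroup.centralizer ({x} : Set G))) : G) * x * ((z : G) * ((h.1 : (Subgroup.centralizer ({x} : Set G))) : G)⁻¹) := by group
        _ = x * ((h.1 : (Subgroup.centralizer ({x} : Set G))) : G) * ((z : G) * ((h.1 : (Subgroup.centralizer ({x} : Set G))) : G)⁻¹) := by rw [h2]
        _ = x * (((h.1 : (Subgroup.centralizer ({x} : Set G))) : G) * (z : G) * ((h.1 : (Subgroup.centralizer ({x} : Set G))) : G)⁻¹) := by group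
        _ = x * (c' : G) := by rw [h1]
  have key := sum_union_eq_zero hM hb (fun ξ => a ξ - conj ((ξ : (Subgroup.centralizer ({x} : Set G)) → ℂ) c')) (fun z hz => by
    simp only [sub_mul, Finset.sum_sub_distrib, hsum, hcount z hz]
    rw [sub_eq_zero]
    exact Finset.sum_congr rfl fun ξ _ => mul_comm _ _) hc
  have hleft : ∑ χ : IrrCharacter G, (if χ ∈ Cfsg.principalBlock M G then
        (χ : G → ℂ) (x * (c : G)) * w χ else 0) =
      ∑ ξ : IrrCharacter (Subgroup.centralizer ({x} : Set G)), (if ξ ∈ b₀ then a ξ * (ξ : (Subgroup.centralizer ({x} : Set G)) → ℂ) c else 0) := by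
    calc _ = ∑ χ : IrrCharacter G,
          Cfsg.blockPart b₀ (fun d : (Subgroup.centralizer ({x} : Set G)) => (χ : G → ℂ) (x * (d : G))) c * w χ := by
            refine Finset.sum_congr rfl fun χ _ => ?_
            rw [blockPart_principal_translate hM hx χ hc]
            split_ifs <;> simp
      _ = _ := by
        simp only [Cfsg.blockPart, finsum_irr_mem, Finset.sum_mul]
        rw [show Fintype.ofFinite (Subgroup.centralizer ({x} : Set G)) = (inferInstance : Fintype (Subgroup.centralizer ({x} : Set G))) from Subsingleton.elim _ _,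
          Finset.sum_comm]
        refine Finset.sum_congr rfl fun ξ _ => ?_
        by_cases hξ : ξ ∈ b₀
        · simp only [if_pos hξ, ha, Finset.sum_mul]
          exact Finset.sum_congr rfl fun χ _ => by ring
        · simp [hξ]
  rw [hleft, ← sub_eq_zero, ← Finset.sum_sub_distrib]
  refine Eq.trans ?_ key
  refine Finset.sum_congr rfl fun ξ _ => ?_
  split_ifs <;> ring

/-- The principal block idempotent of a group with a normal p-complement. -/
theorem blockCoeff_principal_of_normal_complement (hM : Cfsg.IsPModular p M) (K : Subgroup G)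
    [K.Normal] (hK : ¬ p ∣ Nat.card K) (hidx : ∃ k, K.index = p ^ k) (g : G) :
    (Nat.card G : ℂ) * Cfsg.blockCoeff (Cfsg.principalBlock M G) g =
      (K.index : ℂ) * Set.indicator (K : Set G) (fun _ => (1 : ℂ)) g := by
  classical
  have hmem : ∀ χ : IrrCharacter G, χ ∈ Cfsg.principalBlock M G ↔ K ≤ charKer χ := by
    intro χ
    refine ⟨fun h => le_charKer_of_mem hM K hK h, fun h => ?_⟩
    obtain ⟨k, hk⟩ := hidx
    obtain ⟨P⟩ := (inferInstance : Nonempty (Sylow p G))
    refine mem_principalBlock_of_ker hM K (P : Subgroup G) ⊤ hK P.2 ?_ le_top h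
    refine Subgroup.eq_top_of_card_eq _ (Nat.dvd_antisymm (Subgroup.card_subgroup_dvd_card _) ?_)
    rw [← Subgroup.card_mul_index K, hk]
    refine Nat.Coprime.mul_dvd_of_dvd_of_dvd ?_ (Subgroup.card_dvd_of_le le_sup_left) ?_
    · exact ((Fact.out : p.Prime).coprime_iff_not_dvd.2 hK).symm.pow_right k
    · refine dvd_trans ?_ (Subgroup.card_dvd_of_le le_sup_right)
      rw [Sylow.card_eq_multiplicity]
      refine pow_dvd_pow p (((Fact.out : p.Prime).pow_dvd_iff_le_factorization Nat.card_pos.ne').1 ?_)
      exact ⟨Nat.card K, by rw [← hk, mul_comm, Subgroup.card_mul_index]⟩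
  let e : Ctr ℂ G := scalar ((Nat.card K : ℂ)⁻¹) *
    ⟨indOf ℂ K, indOf_mem_ctr K⟩
  have he : setIdemC (Cfsg.principalBlock M G) = e := by
    refine ctr_ext_omega fun χ => ?_
    rw [omega_setIdemC, map_mul, omega_scalar]
    have hv : omega χ ⟨indOf ℂ K, indOf_mem_ctr K⟩ =
        if K ≤ charKer χ then (Nat.card K : ℂ) else 0 := by
      rw [omega_apply, Finset.sum_congr rfl
        (g := fun x => if x ∈ K then (χ : G → ℂ) x else 0)]
      · split_ifs with h
        · rw [← Finset.sum_filter, Finset.sum_congr rfl fun x hx =>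
            mem_charKer.mp (h (Finset.mem_filter.mp hx).2), Finset.sum_const, nsmul_eq_mul,
            mul_div_cancel_right₀ _ (Characters.irr_one_ne_zero χ.2), ← Fintype.card_subtype,
            Nat.card_eq_fintype_card]
        · rw [sum_normal_eq_zero K χ h, zero_div]
      · intro x _
        show ((indOf ℂ K).coeff x) * _ = _
        rw [coeff_indOf]
        split_ifs <;> simp
    rw [hv]
    simp only [hmem χ]
    split_ifs
    · rw [inv_mul_cancel₀ (Nat.cast_ne_zero.2 Nat.card_pos.ne')]
    · rw [mul_zero]
  have hK0 : (Nat.card K : ℂ) ≠ 0 := Nat.cast_ne_zero.2 Nat.card_pos.ne'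
  rw [← coeff_setIdemC, he, Subring.coe_mul, coe_scalar, MonoidAlgebra.coeff_single_mul_apply,
    inv_one, one_mul]
  show _ * (_ * (indOf ℂ K).coeff g) = _
  rw [coeff_indOf, ← Subgroup.card_mul_index K, Nat.cast_mul, Set.indicator_apply]
  simp only [SetLike.mem_coe]
  split_ifs with h
  · field_simp
  · simp

end CfsgLib.BlocksLocal
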