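import Cfsg.Agent.BlocksLocal.HomocyclicColumns
import Cfsg.Agent.BlocksLocal.Homocyclic
import Cfsg.Agent.BlocksLocal.PrincipalSection
import Cfsg.Agent.Blocks.Height
import Cfsg.Agent.InvolColumn.Basic
import Cfsg.Agent.CharactersDeep.LinearChar
import Cfsg.Agent.Characters.Linear
import Cfsg.Agent.PLocal.Cores

/-!
# Brauer: a homocyclic Sylow 2-subgroup of rank two and exponent at least four is normal modulo
the odd core

The principal block has a second linear character, trivial on the Sylow subgroup; induction on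
its kernel finishes.
-/

set_option autoImplicit false
set_option linter.style.haveILetI false
set_option linter.unusedSectionVars false

namespace CfsgLib.BlocksLocal.HomocyclicSylow

open Cfsg CfsgLib.Blocks CfsgLib.BlocksLocal CfsgLib.PrincipalBlock
open scoped ComplexConjugate

universe u

variable {G : Type u} [Group G] [Finite G]

/-- A group with a central-in-normalizer Sylow 2-subgroup has odd core of index its order. -/
theorem index_pPrimeCore (Q : Sylow 2 G)
    (hN : Subgroup.normalizer ((Q : Subgroup G) : Set G) ≤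
      Subgroup.centralizer ((Q : Subgroup G) : Set G)) :
    (Cfsg.pPrimeCore 2 G).index = Nat.card (Q : Subgroup G) := by
  haveI : Fact (Nat.Prime 2) := ⟨Nat.prime_two⟩
  have hc := MonoidHom.ker_transferSylow_isComplement' Q hN
  set L := (MonoidHom.transferSylow Q hN).ker
  have hLi : L.index = Nat.card (Q : Subgroup G) := hc.symm.index_eq_card
  have hLo : ¬ 2 ∣ Nat.card L := by
    rw [← hc.index_eq_card]
    exact Q.not_dvd_index
  refine Nat.dvd_antisymm
    (hLi ▸ Subgroup.index_dvd_of_le (PLocal.le_pPrimeCore (PLocal.not_dvd_iff_coprime.2 hLo))) ?_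
  have hco : (Nat.card (Q : Subgroup G)).Coprime (Nat.card (Cfsg.pPrimeCore 2 G)) := by
    obtain ⟨j, hj⟩ := IsPGroup.iff_card.1 Q.isPGroup'
    rw [hj]
    exact (PLocal.coprime_card_pPrimeCore 2 G).symm.pow_left j
  refine hco.dvd_of_dvd_mul_left ?_
  rw [Subgroup.card_mul_index]
  exact Subgroup.card_subgroup_dvd_card _

/-- Groups without odd normal subgroups pass that on to their normal subgroups. -/
theorem eq_bot_of_normal_odd (hO : ∀ N : Subgroup G, N.Normal → Odd (Nat.card N) → N = ⊥)
    (K : Subgroup G) [K.Normal] (N : Subgroup K) (hN : N.Normal) (hNo : Odd (Nat.card N)) :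
    N = ⊥ := by
  have hco : (Nat.card N).Coprime 2 := Nat.coprime_two_right.2 hNo
  have h1 : N ≤ Cfsg.pPrimeCore 2 K := PLocal.le_pPrimeCore hco
  have h2 : (Cfsg.pPrimeCore 2 K).map K.subtype = ⊥ := by
    refine hO _ inferInstance ?_
    rw [Subgroup.card_map_of_injective K.subtype_injective]
    exact Nat.coprime_two_right.1 (PLocal.coprime_card_pPrimeCore 2 K)
  rw [Subgroup.map_eq_bot_iff_of_injective _ K.subtype_injective] at h2
  exact le_bot_iff.1 (h1.trans h2.le)

variable (P : Sylow 2 G) {m : ℕ}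

open Classical in
/-- The core of Brauer's argument. -/
theorem exists_proper_normal_ge (e : (P : Subgroup G) ≃* Multiplicative (ZMod (2 ^ m) × ZMod (2 ^ m))) (hm : 2 ≤ m)
    (h3 : (Subgroup.centralizer ((P : Subgroup G) : Set G)).relIndex
      (Subgroup.normalizer ((P : Subgroup G) : Set G)) = 3) :
    ∃ K : Subgroup G, K.Normal ∧ K ≠ ⊤ ∧ (P : Subgroup G) ≤ K := by
  haveI := Fintype.ofFinite G
  haveI : Fact (Nat.Prime 2) := ⟨Nat.prime_two⟩
  obtain ⟨M, hM⟩ := exists_isPModular 2 Nat.prime_two
  haveI : M.IsPrime := IsPModular.isPrime hM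
  haveI : NeZero (2 ^ m) := ⟨by positivity⟩
  haveI : IsMulCommutative (P : Subgroup G) :=
    ⟨⟨fun a b => Subtype.ext (commute_of_homocyclic P e a a.2 b b.2)⟩⟩
  set N := Subgroup.normalizer ((P : Subgroup G) : Set G) with hNdef
  set C := Subgroup.centralizer ((P : Subgroup G) : Set G) with hCdef
  have hfix := ((inertial_dichotomy P e).resolve_left (by rw [h3]; omega)).2
  -- an element of the normaliser inducing the automorphism of order three
  obtain ⟨n, hnN, hnC⟩ : ∃ n ∈ N, n ∉ C := by
    by_contra hcon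
    push Not at hcon
    rw [Subgroup.relIndex_eq_one.2 hcon] at h3
    omega
  haveI : (C.subgroupOf N).Normal := Subgroup.normal_subgroupOf_centralizer_normalizer _
  have hidx : (C.subgroupOf N).index = 3 := h3
  have hn3 : n * n * n ∈ C := by
    have h := Subgroup.pow_index_mem (C.subgroupOf N) ⟨n, hnN⟩
    rw [hidx] at h
    have h' : n ^ 3 ∈ C := h
    rwa [pow_succ, pow_two] at h'
  -- the Sylow subgroup as an additive group
  let V := ZMod (2 ^ m) × ZMod (2 ^ m)
  let ι : V → G := fun v => ((e.symm (Multiplicative.ofAdd v) : (P : Subgroup G)) : G)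
  have hιmem : ∀ v, ι v ∈ (P : Subgroup G) := fun v => SetLike.coe_mem _
  have hιinj : Function.Injective ι := fun a b h =>
    Multiplicative.ofAdd.injective (e.symm.injective (Subtype.ext h))
  have hιadd : ∀ a b, ι (a + b) = ι a * ι b := fun a b => by
    simp [ι, ofAdd_add, map_mul]
  have hι0 : ι 0 = 1 := by simp [ι]
  have hι1 : ∀ v, v ≠ 0 → ι v ≠ 1 := fun v hv h => hv (hιinj (h.trans hι0.symm))
  let π : (g : G) → g ∈ (P : Subgroup G) → V := fun g h => (e ⟨g, h⟩).toAdd
  have hιπ : ∀ g h, ι (π g h) = g := fun g h => by simp [ι, π]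
  have hnP : ∀ v, n * ι v * n⁻¹ ∈ (P : Subgroup G) := fun v =>
    (Subgroup.mem_normalizer_iff.1 hnN _).1 (hιmem v)
  have hnP' : ∀ v, n⁻¹ * ι v * n ∈ (P : Subgroup G) := fun v =>
    (Subgroup.mem_normalizer_iff''.1 hnN _).1 (hιmem v)
  let α : V ≃+ V :=
    { toFun := fun v => π _ (hnP v)
      invFun := fun v => π _ (hnP' v)
      left_inv := fun v => hιinj (by simp only [hιπ]; group)
      right_inv := fun v => hιinj (by simp only [hιπ]; group)
      map_add' := fun a b => hιinj (by simp only [hιπ, hιadd]; group) }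
  have hια : ∀ v, ι (α v) = n * ι v * n⁻¹ := fun v => hιπ _ _
  have hα3 : ∀ v, α (α (α v)) = v := fun v => hιinj (by
    rw [hια, hια, hια]
    calc n * (n * (n * ι v * n⁻¹) * n⁻¹) * n⁻¹ = n * n * n * ι v * (n * n * n)⁻¹ := by group
      _ = ι v := by
        rw [← Subgroup.mem_centralizer_iff.1 hn3 _ (hιmem v), mul_inv_cancel_right])
  have hfpf : ∀ v, α v = v → v = 0 := fun v hv => hιinj (by
    rw [hι0]
    exact (hfix n hnN hnC).1 _ (hιmem v) (by rw [← hια, hv]))
  have hfusion : ∀ v w, IsConj (ι v) (ι w) → w = v ∨ w = α v ∨ w = α (α v) := by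
    intro v w hc
    obtain ⟨g, hg⟩ := isConj_iff.1 hc
    obtain ⟨k, hk, hke⟩ := P.conj_eq_normalizer_conj_of_mem (ι v) g⁻¹ (hιmem v)
      (by rw [inv_inv, hg]; exact hιmem w)
    rw [inv_inv, hg] at hke
    set k' : N := ⟨k⁻¹, Subgroup.inv_mem _ hk⟩
    set n' : N := ⟨n, hnN⟩
    have hord : orderOf (n' : N ⧸ C.subgroupOf N) = 3 := by
      haveI : Fact (Nat.Prime 3) := ⟨Nat.prime_three⟩
      refine orderOf_eq_prime ?_ fun h => hnC ((QuotientGroup.eq_one_iff n').1 h)
      rw [← QuotientGroup.mk_pow, QuotientGroup.eq_one_iff]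
      show n ^ 3 ∈ C
      rwa [pow_succ, pow_two]
    have htop : Subgroup.zpowers (n' : N ⧸ C.subgroupOf N) = ⊤ := by
      refine Subgroup.eq_top_of_card_eq _ ?_
      rw [Nat.card_zpowers, hord, ← Subgroup.index_eq_card, hidx]
    have hmem : (k' : N ⧸ C.subgroupOf N) ∈ Subgroup.zpowers (n' : N ⧸ C.subgroupOf N) :=
      htop ▸ Subgroup.mem_top _
    rw [mem_zpowers_iff_mem_range_orderOf, hord, Finset.mem_image] at hmem
    obtain ⟨i, hi, hie⟩ := hmem
    rw [← QuotientGroup.mk_pow, QuotientGroup.eq] at hie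
    have hcm : (n ^ i)⁻¹ * k⁻¹ ∈ C := hie
    have hcomm := Subgroup.mem_centralizer_iff.1 hcm _ (hιmem v)
    have hw : ι w = n ^ i * ι v * (n ^ i)⁻¹ := by
      calc ι w = k⁻¹ * ι v * k := hke
        _ = n ^ i * (((n ^ i)⁻¹ * k⁻¹) * ι v) * k := by group
        _ = n ^ i * (ι v * ((n ^ i)⁻¹ * k⁻¹)) * k := by rw [hcomm]
        _ = n ^ i * ι v * (n ^ i)⁻¹ := by group
    have hi3 : i < 3 := Finset.mem_range.1 hi
    interval_cases i
    · exact Or.inl (hιinj (by simpa using hw))
    · exact Or.inr (Or.inl (hιinj (by rw [hια]; simpa using hw)))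
    · refine Or.inr (Or.inr (hιinj ?_))
      rw [hw, hια, hια, pow_two]
      group
  -- the principal block
  set B := Cfsg.principalBlock M G with hB
  have hBb : Cfsg.IsPBlock M B := isPBlock_principalBlock
  have hBu := isBlockUnion_of_isPBlock hBb
  let I := {χ : IrrCharacter G // χ ∈ B}
  have hsum : ∀ g : IrrCharacter G → ℂ, ∑ i : I, g i.1 = ∑ χ, if χ ∈ B then g χ else 0 := by
    intro g
    rw [← Finset.sum_filter, Finset.sum_subtype (p := (· ∈ B)) (Finset.univ.filter (· ∈ B))
      (fun χ => by simp) g]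
  have hinv : ∀ (χ : IrrCharacter G) v, (χ : G → ℂ) (ι (α v)) = (χ : G → ℂ) (ι v) := fun χ v => by
    rw [hια]; exact Characters.isClassFunction_of_isIrr χ.2 _ _
  have hord2 : ∀ v, ∃ k, orderOf (ι v) = 2 ^ k := fun v => by
    obtain ⟨k, hk⟩ := IsPGroup.iff_orderOf.1 P.isPGroup' ⟨ι v, hιmem v⟩
    exact ⟨k, by rwa [Subgroup.orderOf_mk] at hk⟩
  have hsing : ∀ v, v ≠ 0 → 2 ∣ orderOf (ι v) := fun v hv => by
    obtain ⟨k, hk⟩ := hord2 v
    rcases k with _ | k
    · rw [pow_zero, orderOf_eq_one_iff] at hk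
      exact absurd hk (hι1 v hv)
    · rw [hk, pow_succ]; exact Dvd.intro_left _ rfl
  have hpart : ∀ v, Cfsg.IsPPart 2 (ι v) (ι v) := fun v =>
    ⟨1, mul_one _, Commute.one_right _, hord2 v, by rw [orderOf_one]; norm_num⟩
  have hnorm : ∀ v, v ≠ 0 →
      ∑ χ : IrrCharacter G, (if χ ∈ B then (χ : G → ℂ) (ι v) * conj ((χ : G → ℂ) (ι v)) else 0)
        = (Nat.card (P : Subgroup G) : ℂ) := by
    intro v hv
    set z := ι v
    haveI := Fintype.ofFinite (Subgroup.centralizer ({z} : Set G))
    have hPC : (P : Subgroup G) ≤ Subgroup.centralizer ({z} : Set G) := fun u hu =>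
      Subgroup.mem_centralizer_singleton_iff.2 (commute_of_homocyclic P e u hu z (hιmem v))
    let P' : Sylow 2 (Subgroup.centralizer ({z} : Set G)) := P.subtype hPC
    have hN' : Subgroup.normalizer
          ((P' : Subgroup (Subgroup.centralizer ({z} : Set G))) :
            Set (Subgroup.centralizer ({z} : Set G))) ≤
        Subgroup.centralizer ((P' : Subgroup (Subgroup.centralizer ({z} : Set G))) :
            Set (Subgroup.centralizer ({z} : Set G))) := by
      intro c hc
      rw [Sylow.coe_subtype] at hc ⊢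
      have hc' : (c : G) ∈ N := by
        rw [hNdef, Subgroup.mem_normalizer_iff]
        intro u
        constructor
        · intro hu
          exact (Subgroup.mem_normalizer_iff.1 hc ⟨u, hPC hu⟩).1 hu
        · intro hu
          have hmem : u ∈ Subgroup.centralizer ({z} : Set G) := by
            have := mul_mem (mul_mem (Subgroup.inv_mem _ c.2) (hPC hu)) c.2
            simpa [mul_assoc] using this
          exact (Subgroup.mem_normalizer_iff.1 hc ⟨u, hmem⟩).2 hu
      have hcC : (c : G) ∈ C := by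
        by_contra hcC
        refine hι1 v hv ((hfix _ hc' hcC).1 z (hιmem v) ?_)
        rw [Subgroup.mem_centralizer_singleton_iff.1 c.2, mul_inv_cancel_right]
      exact Subgroup.mem_centralizer_iff.2 fun u hu =>
        Subtype.ext (Subgroup.mem_centralizer_iff.1 hcC (u : G) hu)
    have hK := index_pPrimeCore P' hN'
    have hcard : Nat.card (P' : Subgroup (Subgroup.centralizer ({z} : Set G))) =
        Nat.card (P : Subgroup G) := by
      rw [Sylow.coe_subtype, Nat.card_congr (Subgroup.subgroupOfEquivOfLe hPC).toEquiv]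
    have h1 := sum_principal_section_mul_conj hM (x := z) (hord2 v)
      (c := 1) (c' := 1) (by rw [orderOf_one]; norm_num) (by rw [orderOf_one]; norm_num)
    have hKo : ¬ 2 ∣ Nat.card (Cfsg.pPrimeCore 2 (Subgroup.centralizer ({z} : Set G))) :=
      PLocal.not_dvd_iff_coprime.1 (PLocal.coprime_card_pPrimeCore 2 _)
    obtain ⟨j, hj⟩ := IsPGroup.iff_card.1 P.isPGroup'
    have h2 := blockCoeff_principal_of_normal_complement
      (G := Subgroup.centralizer ({z} : Set G)) (M := M) hM _ hKo
      ⟨j, hK.trans (hcard.trans hj)⟩ 1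
    rw [blockCoeff_eq_sum, ← mul_assoc, mul_inv_cancel₀ Characters.natCard_ne_zero, one_mul,
      Set.indicator_of_mem (SetLike.mem_coe.2 (Subgroup.one_mem _)), mul_one] at h2
    rw [h2] at h1
    simp only [OneMemClass.coe_one, mul_one] at h1
    rw [h1, hK, hcard]
  have hVcard : Fintype.card V = Nat.card (P : Subgroup G) := by
    rw [← Nat.card_eq_fintype_card]
    exact (Nat.card_congr (e.toEquiv.trans Multiplicative.toAdd)).symm
  have hone2 : (1 : ZMod (2 ^ m)) + 1 ≠ 0 := by
    rw [one_add_one_eq_two]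
    intro h
    have h' : ((2 : ℕ) : ZMod (2 ^ m)) = 0 := by exact_mod_cast h
    rw [ZMod.natCast_eq_zero_iff] at h'
    have h4 : 2 ^ 2 ≤ 2 ^ m := Nat.pow_le_pow_right two_pos hm
    have := Nat.le_of_dvd two_pos h'
    omega
  let h₀ : ZMod (2 ^ m) := ((2 ^ (m - 1) : ℕ) : ZMod (2 ^ m))
  have hh₀ : h₀ ≠ 0 := by
    rw [Ne, ZMod.natCast_eq_zero_iff]
    intro h
    have := Nat.le_of_dvd (by positivity) h
    have := Nat.pow_lt_pow_right one_lt_two (show m - 1 < m by omega)
    omega
  have hh₀2 : h₀ + h₀ = 0 := by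
    rw [← Nat.cast_add, ← two_mul, ← pow_succ', show m - 1 + 1 = m by omega, ZMod.natCast_self]
  set t : V := (h₀, 0)
  set u : V := (1, 0)
  have ht : t ≠ 0 := fun h => hh₀ (congrArg Prod.fst h)
  have ht2 : t + t = 0 := Prod.ext hh₀2 (add_zero 0)
  have hu : u ≠ 0 := fun h => hone2 (by
    have : (1 : ZMod (2 ^ m)) = 0 := congrArg Prod.fst h
    rw [this, add_zero])
  have hu2 : u + u ≠ 0 := fun h => hone2 (congrArg Prod.fst h)
  -- no involution inverts `ι u`
  have hnoinv : ∀ g : G, (g * ι t * g⁻¹) * ι u * (g * ι t * g⁻¹)⁻¹ ≠ (ι u)⁻¹ := by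
    intro g hg
    have hneg : ι (-u) = (ι u)⁻¹ :=
      eq_inv_of_mul_eq_one_left (by rw [← hιadd, neg_add_cancel, hι0])
    rw [← hneg] at hg
    rcases hfusion u (-u) (isConj_iff.2 ⟨_, hg⟩) with h | h | h
    · exact hu2 (by nth_rw 1 [← h]; exact neg_add_cancel u)
    · refine hu (hfpf u ?_)
      have h2 : α (α u) = u := by rw [← h, map_neg, ← h, neg_neg]
      conv_lhs => rw [← h2, hα3]
    · have h' : α (-u) = u := by rw [h, hα3]
      rw [map_neg] at h'
      have h2 : α (α u) = u := by
        rw [show α u = -u from neg_eq_iff_eq_neg.1 h', map_neg, h']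
      refine hu (hfpf u ?_)
      conv_lhs => rw [← h2, hα3]
  have htord : orderOf (ι t) = 2 :=
    orderOf_eq_prime (by rw [pow_two, ← hιadd, ht2, hι0]) (hι1 t ht)
  have hstr := (InvolColumn.three_relations hM hBb htord (hord2 u) hnoinv).1
  obtain ⟨i, hi, hdeg1, htriv⟩ := Columns.exists_second_trivial_row α hα3 hfpf
    (I := I) (fun i => Cfsg.charDegree ((i.1 : IrrCharacter G) : G → ℂ))
    (fun i v => (i.1 : G → ℂ) (ι v))
    (fun i => Nat.pos_of_ne_zero (charDegree_ne_zero i.1))
    (fun i => by rw [hι0, charDegree_cast])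
    (by
      rw [hVcard, Nat.card_congr (e.toEquiv.trans Multiplicative.toAdd), Nat.card_prod,
        Nat.card_zmod, ← pow_add]
      exact pow_dvd_pow 2 (show 4 ≤ m + m by omega))
    (fun i v => hinv i.1 v)
    (fun i ψ => by
      let F : (P : Subgroup G) →* ℂˣ :=
        (ψ.toMonoidHom.comp e.toMonoidHom).toHomUnits
      haveI := Fintype.ofFinite (P : Subgroup G)
      obtain ⟨k, hk⟩ := Characters.classInner_characters
        (Characters.isCharacter_restrict (P : Subgroup G) (Characters.isCharacter_of_isIrr i.1.2))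
        (CharactersDeep.LinearChar.isCharacter_hom F)
      refine ⟨(k : ℤ), ?_⟩
      rw [Cfsg.classInner, inv_mul_eq_iff_eq_mul₀ Characters.natCard_ne_zero] at hk
      rw [hVcard, Int.cast_natCast, ← hk]
      refine Fintype.sum_equiv (Multiplicative.ofAdd.trans e.symm.toEquiv) _ _ fun w => ?_
      simp [F, ι])
    ⟨trivChar G, trivChar_mem⟩ (fun v => rfl)
    (fun v w hv hw => by
      rw [hsum fun χ => (χ : G → ℂ) (ι v) * conj ((χ : G → ℂ) (ι w))]
      split_ifs with h
      · rw [hVcard, ← hnorm v hv]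
        refine Finset.sum_congr rfl fun χ _ => ?_
        rcases h with rfl | rfl | rfl <;> simp [hinv]
      · have hnc : ¬ IsConj (ι v) (ι w) := fun hc => h (hfusion v w hc)
        refine Eq.trans (Finset.sum_congr rfl fun χ _ => ?_)
          (sum_block_mul_inv_eq_zero hM (hpart v) (hpart w) hnc hBb)
        rw [Characters.character_inv (Characters.isCharacter_of_isIrr χ.2)])
    (fun v hv => by
      rw [hsum fun χ => (Cfsg.charDegree (χ : G → ℂ) : ℂ) * (χ : G → ℂ) (ι v)]
      have h := congrArg conj (sum_union_mul_conj_eq_zero hM hBu (x := (1 : G)) (y := ι v)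
        (by rw [orderOf_one]; norm_num) (hsing v hv))
      rw [map_zero, map_sum] at h
      refine Eq.trans (Finset.sum_congr rfl fun χ _ => ?_) h
      rw [← charDegree_cast χ]
      split_ifs <;> simp)
    (t := t) (u := u) ht ht2 hu hu2
    (by
      rw [hsum fun χ => (χ : G → ℂ) (ι t) ^ 2 / (Cfsg.charDegree (χ : G → ℂ) : ℂ) *
        (χ : G → ℂ) (ι u)]
      refine Eq.trans (Finset.sum_congr rfl fun χ _ => ?_) hstr
      rw [charDegree_cast])
  -- the kernel of the linear character
  obtain ⟨F, hF⟩ := Characters.exists_hom_of_degree_one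
    (Characters.isCharacter_of_isIrr i.1.2) (by rw [← charDegree_cast, hdeg1, Nat.cast_one])
  refine ⟨F.ker, inferInstance, fun htop => hi ?_, fun x hx => ?_⟩
  · refine Subtype.ext (Subtype.ext (funext fun g => ?_))
    have hg : F g = 1 := MonoidHom.mem_ker.1 (htop ▸ Subgroup.mem_top g)
    rw [hF]
    show (F g : ℂ) = 1
    rw [hg, Units.val_one]
  · rw [MonoidHom.mem_ker]
    refine Units.ext ?_
    have h := htriv (π x hx)
    rw [hιπ, hF] at h
    exact h

/-- Brauer's theorem. -/
theorem normal_of_homocyclic : ∀ (k : ℕ) (G : Type u) [Group G] [Finite G] (P : Sylow 2 G) (m : ℕ),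
    2 ≤ m → ((P : Subgroup G) ≃* Multiplicative (ZMod (2 ^ m) × ZMod (2 ^ m))) →
    (∀ N : Subgroup G, N.Normal → Odd (Nat.card N) → N = ⊥) → Nat.card G < k →
      (P : Subgroup G).Normal := by
  intro k
  induction k with
  | zero => intro G _ _ P m _ _ _ h; omega
  | succ k ih =>
    intro G _ _ P m hm e hO hk
    haveI : Fact (Nat.Prime 2) := ⟨Nat.prime_two⟩
    rcases inertial_dichotomy P e with h1 | ⟨h3, -⟩
    · -- a normal complement
      have hN := Subgroup.relIndex_eq_one.1 h1
      have hK : (Cfsg.pPrimeCore 2 G) = ⊥ := hO _ inferInstance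
        (Nat.coprime_two_right.1 (PLocal.coprime_card_pPrimeCore 2 G))
      have h := index_pPrimeCore P hN
      rw [hK, Subgroup.index_bot] at h
      rw [Subgroup.eq_top_of_card_eq _ h.symm]
      infer_instance
    · obtain ⟨K, hKn, hKtop, hPK⟩ := exists_proper_normal_ge P e hm h3
      haveI := hKn
      let P' : Sylow 2 K := P.subtype hPK
      have hcard : Nat.card K < Nat.card G := lt_of_le_of_ne
        (Nat.le_of_dvd Nat.card_pos (Subgroup.card_subgroup_dvd_card _))
        fun h => hKtop (Subgroup.eq_top_of_card_eq _ h)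
      have e' : (P' : Subgroup K) ≃* Multiplicative (ZMod (2 ^ m) × ZMod (2 ^ m)) := by
        rw [Sylow.coe_subtype]
        exact (Subgroup.subgroupOfEquivOfLe hPK).trans e
      have hP' := ih K P' m hm e' (eq_bot_of_normal_odd hO K) (by omega)
      haveI := Sylow.characteristic_of_normal P' hP'
      have : (P : Subgroup G) = (P' : Subgroup K).map K.subtype := by
        rw [Sylow.coe_subtype, Subgroup.subgroupOf_map_subtype, inf_of_le_left hPK]
      rw [this]
      infer_instance

end CfsgLib.BlocksLocal.HomocyclicSylow
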