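import Cfsg.Agent.BlockPairing.Subsections
import Cfsg.Agent.BlockPairs.Contributions
import Cfsg.Agent.BlocksCharsC.SmallCentralizer
import Cfsg.Agent.CentralDefect.Basic
import Cfsg.Agent.Codegree.Sums
import Cfsg.Agent.Characters.Linear

/-!
# A block and a central subgroup of order `p`

The restrictions to the p-regular elements of a block are combinations of those of its members with
the subgroup in the kernel; these members lie in one block of the quotient, of smaller defect.
-/

set_option autoImplicit false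
set_option linter.unusedSectionVars false
set_option linter.style.haveILetI false

namespace CfsgLib.BlocksLocal.CentralQuotient

open Cfsg CfsgLib.Blocks CfsgLib.BlockPairing
open CfsgLib.Codegree (KerContains sum_coset_eq_zero)
open scoped ComplexConjugate

universe u

variable {H : Type u} [Group H] [Fintype H] {M : Ideal AlgInt} [M.IsPrime] {p : ℕ}
  [hp : Fact p.Prime] (Q : Subgroup H) [Q.Normal]

/-- Inflation from the quotient. -/
noncomputable def infl (ψ : IrrCharacter (H ⧸ Q)) : IrrCharacter H :=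
  ⟨fun g : H => (ψ : H ⧸ Q → ℂ) (g : H ⧸ Q), Characters.isIrr_comp (QuotientGroup.mk' Q)
    (QuotientGroup.mk'_surjective Q) ψ.2⟩

theorem infl_injective : Function.Injective (infl Q) := fun a b h => Subtype.ext (funext fun x => by
  obtain ⟨g, rfl⟩ := QuotientGroup.mk_surjective x
  exact congrArg (fun χ : IrrCharacter H => (χ : H → ℂ) g) h)

theorem charDegree_infl (ψ : IrrCharacter (H ⧸ Q)) :
    Cfsg.charDegree (infl Q ψ : H → ℂ) = Cfsg.charDegree (ψ : H ⧸ Q → ℂ) := by
  simp [Cfsg.charDegree, infl]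

theorem exists_infl {χ : IrrCharacter H} (h : KerContains χ Q) :
    ∃ ψ : IrrCharacter (H ⧸ Q), infl Q ψ = χ := by
  obtain ⟨ψ, hψ, hψχ⟩ := Characters.exists_irr_quotient Q χ.2 h
  exact ⟨⟨ψ, hψ⟩, Subtype.ext (funext fun g => (hψχ g).symm)⟩

variable (hQc : Q ≤ Subgroup.center H) (hQp : Nat.card Q = p)
include hQc hQp

theorem isPGroup : IsPGroup p Q := IsPGroup.of_card (n := 1) (by rw [hQp, pow_one])

open Classical in
/-- On the p-regular elements a class function is a combination of the characters of the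
quotient. -/
theorem regular_expansion {f : H → ℂ} (hf : Cfsg.IsClassFunction H f) {x : H}
    (hx : ¬ p ∣ orderOf x) :
    f x = ∑ ψ : IrrCharacter H,
      if KerContains ψ Q then (p : ℂ) * regInner p f ψ * (ψ : H → ℂ) x else 0 := by
  haveI := Fintype.ofFinite Q
  have hQ := isPGroup (p := p) Q hQc hQp
  set F := Cfsg.pRegularPart p f with hF
  have hFc : Cfsg.IsClassFunction H F := isClassFunction_pRegularPart p hf
  set h : H → ℂ := fun g => ∑ q : Q, F (g * q) with hh
  have hhc : Cfsg.IsClassFunction H h := by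
    intro g c
    simp only [hh]
    refine Finset.sum_congr rfl fun q _ => ?_
    rw [← hFc (g * (q : H)) c]
    congr 1
    have : c * (q : H) = (q : H) * c := Subgroup.mem_center_iff.1 (hQc q.2) c
    calc c * g * c⁻¹ * q = c * g * (c⁻¹ * (q * c)) * c⁻¹ := by group
      _ = c * (g * q) * c⁻¹ := by rw [← this]; group
  have hhx : h x = f x := by
    simp only [hh]
    rw [Finset.sum_eq_single (1 : Q) (fun q _ hq => ?_) (by simp)]
    · simp [hF, pRegularPart_apply, hx]
    · rw [hF, pRegularPart_apply, if_pos]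
      by_contra hr
      refine hq (Subtype.ext ?_)
      have := BlocksCharsC.SmallCent.regular_eq_of_mk_eq Q hQ hQc hx hr
        (QuotientGroup.eq.2 (by simp))
      simpa using this.symm
  have hinner : ∀ ψ : IrrCharacter H, Cfsg.classInner h (ψ : H → ℂ) =
      if KerContains ψ Q then (p : ℂ) * regInner p f ψ else 0 := by
    intro ψ
    have e : Cfsg.classInner h (ψ : H → ℂ) =
        (Nat.card H : ℂ)⁻¹ * ∑ y : H, F y * conj (∑ q : Q, (ψ : H → ℂ) (y * q)) := by
      simp only [Cfsg.classInner, hh, Finset.sum_mul, map_sum, Finset.mul_sum]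
      rw [Finset.sum_comm, Finset.sum_comm (γ := H)]
      refine Fintype.sum_equiv (Equiv.inv Q) _ _ fun q => ?_
      refine Fintype.sum_equiv (Equiv.mulRight (q : H)) _ _ fun g => ?_
      simp
    rw [e]
    split_ifs with hk
    · obtain ⟨η, rfl⟩ := exists_infl Q hk
      have hsum : ∀ y : H, (∑ q : Q, (infl Q η : H → ℂ) (y * q)) =
          (p : ℂ) * (infl Q η : H → ℂ) y := by
        intro y
        rw [Finset.sum_congr rfl fun (q : Q) _ => show (infl Q η : H → ℂ) (y * q) = (infl Q η : H → ℂ) y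
          from congrArg (η : H ⧸ Q → ℂ) (QuotientGroup.eq.2 (by simp)),
          Finset.sum_const, Finset.card_univ, ← Nat.card_eq_fintype_card, hQp, nsmul_eq_mul]
      simp only [hsum, map_mul, map_natCast]
      rw [← classInner_pRegularPart, Cfsg.classInner, ← hF]
      simp only [Finset.mul_sum]
      exact Finset.sum_congr rfl fun y _ => by ring
    · simp [sum_coset_eq_zero ψ Q hk]
  conv_lhs => rw [← hhx, Characters.classFunction_expansion hhc]
  rw [Finset.sum_apply]
  refine Finset.sum_congr rfl fun ψ _ => ?_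
  rw [Pi.smul_apply, smul_eq_mul, hinner]
  split_ifs <;> ring

variable {B : Set (IrrCharacter H)}

/-- The members of `B` with `Q` in the kernel. -/
def kerPart (B : Set (IrrCharacter H)) : Set (IrrCharacter H) := {ψ ∈ B | KerContains ψ Q}

open Classical in
theorem regular_expansion_block (hM : Cfsg.IsPModular p M) (hB : Cfsg.IsPBlock M B)
    {χ : IrrCharacter H} (hχ : χ ∈ B) {x : H} (hx : ¬ p ∣ orderOf x) :
    (χ : H → ℂ) x = ∑ ψ ∈ (kerPart Q B).toFinset,
      (p : ℂ) * regInner p (χ : H → ℂ) ψ * (ψ : H → ℂ) x := by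
  rw [regular_expansion Q hQc hQp (Characters.isClassFunction_of_isIrr χ.2) hx, ← Finset.sum_filter]
  refine (Finset.sum_subset (fun ψ hψ => ?_) fun ψ hψ hn => ?_).symm
  · exact Finset.mem_filter.2 ⟨Finset.mem_univ _, (Set.mem_toFinset.1 hψ).2⟩
  · rw [Contributions.regInner_eq_zero hM hB hχ
      (fun h => hn (Set.mem_toFinset.2 ⟨h, (Finset.mem_filter.1 hψ).2⟩)), mul_zero, zero_mul]

theorem pRegularPart_mem_span (hM : Cfsg.IsPModular p M) (hB : Cfsg.IsPBlock M B)
    {χ : IrrCharacter H} (hχ : χ ∈ B) :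
    Cfsg.pRegularPart p (χ : H → ℂ) ∈ Submodule.span ℂ (Set.range fun ψ : kerPart Q B =>
      Cfsg.pRegularPart p ((ψ : IrrCharacter H) : H → ℂ)) := by
  classical
  have he : Cfsg.pRegularPart p (χ : H → ℂ) = ∑ ψ ∈ (kerPart Q B).toFinset,
      ((p : ℂ) * regInner p (χ : H → ℂ) ψ) • Cfsg.pRegularPart p (ψ : H → ℂ) := by
    funext x
    rw [Finset.sum_apply]
    by_cases hx : p ∣ orderOf x
    · simp [pRegularPart_apply, hx]
    · simp only [Pi.smul_apply, smul_eq_mul, pRegularPart_apply, if_neg hx]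
      exact regular_expansion_block Q hQc hQp hM hB hχ hx
  rw [he]
  exact Submodule.sum_mem _ fun ψ hψ => Submodule.smul_mem _ _
    (Submodule.subset_span ⟨⟨ψ, Set.mem_toFinset.1 hψ⟩, rfl⟩)

theorem blockRank_le_span (hM : Cfsg.IsPModular p M) (hB : Cfsg.IsPBlock M B) :
    Cfsg.blockRank p B ≤ Module.finrank ℂ (Submodule.span ℂ (Set.range fun ψ : kerPart Q B =>
      Cfsg.pRegularPart p ((ψ : IrrCharacter H) : H → ℂ))) := by
  rw [Cfsg.blockRank]
  refine Submodule.finrank_mono (Submodule.span_le.2 ?_)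
  rintro _ ⟨χ, hχ, rfl⟩
  exact pRegularPart_mem_span Q hQc hQp hM hB hχ

theorem blockRank_le_card (hM : Cfsg.IsPModular p M) (hB : Cfsg.IsPBlock M B) :
    Cfsg.blockRank p B ≤ Nat.card (kerPart Q B) := by
  classical
  refine (blockRank_le_span Q hQc hQp hM hB).trans ?_
  rw [Nat.card_eq_fintype_card]
  exact finrank_range_le_card _

/-- Characters in one block of the quotient inflate into one block. -/
theorem sameBlock_infl {η ξ : IrrCharacter (H ⧸ Q)}
    (h : Cfsg.SameBlock M (η : H ⧸ Q → ℂ) (ξ : H ⧸ Q → ℂ)) :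
    Cfsg.SameBlock M (infl Q η : H → ℂ) (infl Q ξ : H → ℂ) := by
  intro g
  have hle : Subgroup.centralizer ({g} : Set H) ≤
      (Subgroup.centralizer ({(g : H ⧸ Q)} : Set (H ⧸ Q))).comap (QuotientGroup.mk' Q) := by
    intro c hc
    rw [Subgroup.mem_comap, Subgroup.mem_centralizer_singleton_iff, QuotientGroup.mk'_apply,
      ← QuotientGroup.mk_mul, ← QuotientGroup.mk_mul, Subgroup.mem_centralizer_singleton_iff.1 hc]
  obtain ⟨m, hm⟩ := Subgroup.index_dvd_of_le hle
  rw [Subgroup.index_comap_of_surjective _ (QuotientGroup.mk'_surjective Q)] at hm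
  have e : ∀ ψ : IrrCharacter (H ⧸ Q), Cfsg.centralChar (infl Q ψ : H → ℂ) g =
      (m : ℂ) * Cfsg.centralChar (ψ : H ⧸ Q → ℂ) (g : H ⧸ Q) := by
    intro ψ
    simp only [Cfsg.centralChar, infl, hm, Nat.cast_mul, QuotientGroup.mk_one]
    ring
  rw [e, e, ← mul_sub]
  exact memLocalIdeal_mul_left (memLocalRing_natCast m) (h g)

/-- Members with `Q` in the kernel lie in one block of the quotient, of smaller defect. -/
theorem exists_quotient_block (hM : Cfsg.IsPModular p M) (hB : Cfsg.IsPBlock M B) :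
    ∃ Bq : Set (IrrCharacter (H ⧸ Q)), Cfsg.IsPBlock M Bq ∧
      Cfsg.blockDefect p Bq < Cfsg.blockDefect p B ∧ Nat.card (kerPart Q B) ≤ Nat.card Bq := by
  haveI := Fintype.ofFinite (H ⧸ Q)
  have hQ := isPGroup (p := p) Q hQc hQp
  obtain ⟨θ, hθ, hθk⟩ := CentralDefect.exists_kerContains hM hB Q hQ
  obtain ⟨θ', hθ'⟩ := exists_infl Q hθk
  set Bq := Cfsg.blockOf M (θ' : H ⧸ Q → ℂ)
  have hBq : Cfsg.IsPBlock M Bq := isPBlock_blockOf θ'
  have hBθ := eq_blockOf_of_mem hB hθ
  refine ⟨Bq, hBq, ?_, ?_⟩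
  · obtain ⟨φ, hφ, hmin, hdef⟩ := exists_minimal (p := p) hBq
    have hφB : infl Q φ ∈ B := by
      rw [hBθ, ← hθ']
      exact mem_blockOf.2 (sameBlock_infl Q hQc hQp (mem_blockOf.1 hφ))
    have hcard : (Nat.card H).factorization p = (Nat.card (H ⧸ Q)).factorization p + 1 := by
      rw [Subgroup.card_eq_card_quotient_mul_card_subgroup Q, hQp,
        Nat.factorization_mul Nat.card_pos.ne' hp.out.ne_zero, Finsupp.add_apply,
        hp.out.factorization_self]
    have hv : (Cfsg.charDegree (φ : H ⧸ Q → ℂ)).factorization p ≤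
        (Nat.card (H ⧸ Q)).factorization p :=
      (Nat.factorization_le_iff_dvd (charDegree_ne_zero φ) Nat.card_pos.ne').2
        (charDegree_dvd_card φ) p
    have hsinf : sInf ((fun χ : IrrCharacter H => (Cfsg.charDegree (χ : H → ℂ)).factorization p) '' B)
        ≤ (Cfsg.charDegree (φ : H ⧸ Q → ℂ)).factorization p := by
      rw [← charDegree_infl Q φ]
      exact Nat.sInf_le ⟨_, hφB, rfl⟩
    rw [hdef, Cfsg.blockDefect]
    omega
  · have key : ∀ ψ : kerPart Q B, ∃ η, η ∈ Bq ∧ infl Q η = (ψ : IrrCharacter H) := by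
      rintro ⟨ψ, hψB, hψk⟩
      obtain ⟨η, hη⟩ := exists_infl Q hψk
      refine ⟨η, mem_blockOf.2 ?_, hη⟩
      refine BlocksCharsC.sameBlock_of_regular hM fun z hz => ?_
      obtain ⟨g, hg, rfl⟩ := BlocksCharsC.SmallCent.exists_regular_lift Q hz
      have hi := BlocksCharsC.SmallCent.index_centralizer_mk Q hQ hQc hg
      have e : ∀ ρ : IrrCharacter (H ⧸ Q), Cfsg.centralChar (infl Q ρ : H → ℂ) g =
          Cfsg.centralChar (ρ : H ⧸ Q → ℂ) (g : H ⧸ Q) := fun ρ => by
        simp only [Cfsg.centralChar, infl, QuotientGroup.mk_one, hi]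
      rw [← e, ← e, hθ', hη]
      rw [hBθ] at hψB
      exact hψB g
    choose f hf hfi using key
    exact Nat.card_le_card_of_injective (fun ψ => (⟨f ψ, hf ψ⟩ : Bq)) fun a b h => Subtype.ext
      ((hfi a).symm.trans ((congrArg (fun η : Bq => infl Q (η : IrrCharacter (H ⧸ Q))) h).trans
        (hfi b)))

end CfsgLib.BlocksLocal.CentralQuotient
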