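import Mathlib.LinearAlgebra.Matrix.SchurComplement
import Mathlib.LinearAlgebra.Matrix.PosDef
import Mathlib.Analysis.Matrix.PosDef
import Mathlib.LinearAlgebra.FreeModule.PID
import Mathlib.Data.Matrix.ColumnRowPartitioned
import Mathlib.Algebra.Module.Projective
import Mathlib.RingTheory.Int.Basic

/-!
# Integral scaled projections of rank one modulo `p`

An integral matrix of independent columns without zero rows has Gram determinant more than the
excess of rows over columns.  If `M` is symmetric with `M * M = p • M`, its diagonal is prime to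
`p` and it has rank one modulo `p`, then the kernel lattice has Gram determinant dividing `p`; hence
a vector `a = M w ≠ 0` has squared length at least `p` times the corank of the kernel.
-/

set_option autoImplicit false
set_option linter.unusedSectionVars false

namespace CfsgLib.BlocksLocal.GramBound

open Matrix

variable {ι κ : Type*} [Fintype κ] [DecidableEq κ]

/-- The Gram matrix of some rows. -/
def gram (A : ι → κ → ℤ) (s : Finset ι) : Matrix κ κ ℤ := ∑ x ∈ s, vecMulVec (A x) (A x)

/-- The rows span over the reals. -/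
def Spans (A : ι → κ → ℤ) (s : Finset ι) : Prop :=
  ∀ c : κ → ℝ, (∀ x ∈ s, ∑ j, (A x j : ℝ) * c j = 0) → c = 0

theorem quad_gram (A : ι → κ → ℤ) (s : Finset ι) (c : κ → ℝ) :
    c ⬝ᵥ ((gram A s).map (Int.cast : ℤ → ℝ) *ᵥ c) = ∑ x ∈ s, (∑ j, (A x j : ℝ) * c j) ^ 2 := by
  simp only [dotProduct, mulVec, gram, Matrix.map_apply, Matrix.sum_apply, vecMulVec_apply,
    Int.cast_sum, Int.cast_mul, Finset.sum_mul, Finset.mul_sum]
  rw [Finset.sum_congr rfl fun i _ => Finset.sum_comm, Finset.sum_comm]
  refine Finset.sum_congr rfl fun x _ => ?_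
  rw [sq, Finset.sum_mul_sum]
  exact Finset.sum_congr rfl fun i _ => Finset.sum_congr rfl fun j _ => by ring

theorem posDef_gram {A : ι → κ → ℤ} {s : Finset ι} (h : Spans A s) :
    ((gram A s).map (Int.cast : ℤ → ℝ)).PosDef := by
  refine Matrix.PosDef.of_dotProduct_mulVec_pos ?_ fun c hc => ?_
  · refine Matrix.IsHermitian.ext fun i j => ?_
    simp [gram, Matrix.sum_apply, vecMulVec_apply, mul_comm]
  · rw [star_trivial, quad_gram]
    refine lt_of_le_of_ne (Finset.sum_nonneg fun x _ => sq_nonneg _) fun h0 => hc (h c fun x hx => ?_)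
    exact pow_eq_zero_iff two_ne_zero |>.1
      ((Finset.sum_eq_zero_iff_of_nonneg fun x _ => sq_nonneg _).1 h0.symm x hx)

theorem det_map_cast (N : Matrix κ κ ℤ) :
    (N.map (Int.cast : ℤ → ℝ)).det = (N.det : ℝ) :=
  ((Int.castRingHom ℝ).map_det N).symm

theorem det_gram_pos {A : ι → κ → ℤ} {s : Finset ι} (h : Spans A s) : 0 < (gram A s).det := by
  have h1 := (posDef_gram h).det_pos
  rw [det_map_cast] at h1
  exact_mod_cast h1

/-- A further row increases the determinant. -/
theorem det_gram_lt [DecidableEq ι] {A : ι → κ → ℤ} {s : Finset ι} {x : ι} (hx : x ∈ s)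
    (hA : A x ≠ 0) (h : Spans A (s.erase x)) : (gram A (s.erase x)).det < (gram A s).det := by
  set N := (gram A (s.erase x)).map (Int.cast : ℤ → ℝ) with hN
  set v : κ → ℝ := fun j => (A x j : ℝ) with hv
  have hpd := posDef_gram h
  have hdet : 0 < N.det := hpd.det_pos
  have hu : IsUnit N.det := isUnit_iff_ne_zero.2 hdet.ne'
  have hs : (gram A s).map (Int.cast : ℤ → ℝ) = N + replicateCol Unit v * replicateRow Unit v := by
    rw [← vecMulVec_eq]
    ext i j
    simp only [hN, hv, gram, ← Finset.sum_erase_add s _ hx, Matrix.map_apply, Matrix.add_apply,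
      vecMulVec_apply, Int.cast_add, Int.cast_mul]
  have hq : (replicateRow Unit v * N⁻¹ * replicateCol Unit v) () () = v ⬝ᵥ (N⁻¹ *ᵥ v) := by
    rw [dotProduct_mulVec, ← replicateRow_vecMul, replicateRow_mul_replicateCol_apply]
  have hpos : 0 < v ⬝ᵥ (N⁻¹ *ᵥ v) := by
    have hw : N *ᵥ (N⁻¹ *ᵥ v) = v := by rw [mulVec_mulVec, mul_nonsing_inv _ hu, one_mulVec]
    have hne : N⁻¹ *ᵥ v ≠ 0 := fun h0 => hA (funext fun j => by
      rw [h0, mulVec_zero] at hw
      have h1 : v j = 0 := (congrFun hw j).symm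
      simpa [hv] using h1)
    have := hpd.dotProduct_mulVec_pos hne
    rwa [star_trivial, hw, dotProduct_comm] at this
  have key : ((gram A s).det : ℝ) = N.det * (1 + v ⬝ᵥ (N⁻¹ *ᵥ v)) := by
    rw [← det_map_cast, hs, det_add_replicateCol_mul_replicateRow hu, det_unique (n := Unit), Matrix.add_apply,
      Matrix.one_apply_eq]
    exact congrArg (fun t => N.det * (1 + t)) hq
  have : ((gram A (s.erase x)).det : ℝ) < ((gram A s).det : ℝ) := by
    rw [key, ← det_map_cast]
    nlinarith [hdet, hpos]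
  exact_mod_cast this

/-- The Gram determinant is at least the number of rows minus the number of columns plus one. -/
theorem card_lt_det_gram {A : ι → κ → ℤ} (hA : ∀ x, A x ≠ 0) (s : Finset ι) (h : Spans A s) :
    (s.card : ℤ) < (gram A s).det + Fintype.card κ := by
  classical
  induction s using Finset.strongInduction with
  | _ s ih =>
    by_cases hcard : s.card ≤ Fintype.card κ
    · have := det_gram_pos h
      omega
    obtain ⟨g, hg, x, hx, hgx⟩ : ∃ g : ι → ℝ, ∑ y ∈ s, g y • (fun j => (A y j : ℝ)) = 0 ∧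
        ∃ x ∈ s, g x ≠ 0 := by
      by_contra hcon
      push Not at hcon
      have hli : LinearIndependent ℝ fun y : s => fun j => (A (y : ι) j : ℝ) := by
        refine Fintype.linearIndependent_iff.2 fun g hg y => ?_
        let g' : ι → ℝ := fun y => if hy : y ∈ s then g ⟨y, hy⟩ else 0
        have h1 := hcon g' (by
          rw [← Finset.sum_coe_sort s fun y => g' y • fun j => (A y j : ℝ)]
          exact (Finset.sum_congr rfl fun y _ => by simp [g']).trans hg) y y.2
        simpa [g'] using h1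
      have := hli.fintype_card_le_finrank
      rw [Module.finrank_fintype_fun_eq_card, Fintype.card_coe] at this
      exact hcard this
    have hspan : Spans A (s.erase x) := by
      intro c hc
      refine h c fun y hy => ?_
      by_cases hyx : y = x
      · subst hyx
        have h1 := congrArg (fun f : κ → ℝ => ∑ j, f j * c j) hg
        simp only [Finset.sum_apply, Pi.smul_apply, smul_eq_mul, Pi.zero_apply, zero_mul,
          Finset.sum_const_zero, Finset.sum_mul] at h1
        rw [Finset.sum_comm, Finset.sum_eq_single y (fun z hz hzy => ?_) (fun hn => absurd hy hn)]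
          at h1
        · simp only [mul_assoc, ← Finset.mul_sum] at h1
          exact (mul_eq_zero.1 h1).resolve_left hgx
        · simp only [mul_assoc, ← Finset.mul_sum]
          rw [hc z (Finset.mem_erase.2 ⟨hzy, hz⟩), mul_zero]
      · exact hc y (Finset.mem_erase.2 ⟨hyx, hy⟩)
    have h1 := ih _ (Finset.erase_ssubset hx) hspan
    have h2 := det_gram_lt hx (hA x) hspan
    rw [Finset.card_erase_of_mem hx] at h1
    omega

theorem gram_univ [Fintype ι] (A : Matrix ι κ ℤ) : gram A Finset.univ = Aᵀ * A := by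
  ext i j
  simp [gram, Matrix.sum_apply, vecMulVec_apply, Matrix.mul_apply]

variable [Fintype ι] [DecidableEq ι]

set_option maxHeartbeats 800000 in
/-- A vector in the image of an integral scaled projection of rank one modulo `p` is long. -/
theorem exists_kernel_bound {p : ℕ} (hp : p.Prime) (M : Matrix ι ι ℤ) (hsym : Mᵀ = M)
    (hsq : M * M = (p : ℤ) • M) (hdiag : ∀ x, ¬ (p : ℤ) ∣ M x x)
    (hrank : ∀ x y e, (p : ℤ) ∣ M x y * M e e - M x e * M y e)
    (a : ι → ℤ) (ha : M *ᵥ a = (p : ℤ) • a) (ha0 : a ≠ 0)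
    (har : ∀ x e, (p : ℤ) ∣ a x * M e e - a e * M x e) :
    ∃ (t : ℕ) (N : Matrix ι (Fin t) ℤ), M * N = 0 ∧
      (∀ c : Fin t → ℂ, (N.map (Int.cast : ℤ → ℂ)) *ᵥ c = 0 → c = 0) ∧
      (p : ℤ) * ((Fintype.card ι : ℤ) - t) ≤ a ⬝ᵥ a := by
  classical
  have hp0 : (p : ℤ) ≠ 0 := Int.natCast_ne_zero.2 hp.ne_zero
  obtain ⟨e, -⟩ : ∃ e, a e ≠ 0 := Function.ne_iff.1 ha0
  obtain ⟨i0, j0, hbez⟩ : IsCoprime (M e e) (p : ℤ) :=
    ((Nat.prime_iff_prime_int.1 hp).coprime_iff_not_dvd.2 (hdiag e)).symm
  have hdot : ∀ x y : ι → ℤ, x ⬝ᵥ (M *ᵥ y) = (M *ᵥ x) ⬝ᵥ y := fun x y => by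
    rw [dotProduct_mulVec, ← mulVec_transpose, hsym]
  -- a basis of the kernel, a direct summand
  set L := LinearMap.ker M.mulVecLin with hL
  let b := Module.finBasis ℤ L
  set t := Module.finrank ℤ L
  set N : Matrix ι (Fin t) ℤ := Matrix.of fun x j => ((b j : L) : ι → ℤ) x with hN
  have hNmem : ∀ j, M *ᵥ (fun x => N x j) = 0 := fun j => LinearMap.mem_ker.1 (b j).2
  have hMN : M * N = 0 := by
    ext x j
    exact congrFun (hNmem j) x
  have hNrep : ∀ v, M *ᵥ v = 0 → ∃ c, N *ᵥ c = v := by
    intro v hv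
    refine ⟨b.repr ⟨v, LinearMap.mem_ker.2 hv⟩, ?_⟩
    have h1 := congrArg Subtype.val (b.sum_repr ⟨v, LinearMap.mem_ker.2 hv⟩)
    funext x
    refine Eq.trans ?_ (congrFun h1 x)
    simp only [N, mulVec, dotProduct, Matrix.of_apply, Submodule.coe_sum, SetLike.val_smul,
      Finset.sum_apply, Pi.smul_apply, smul_eq_mul]
    exact Finset.sum_congr rfl fun i _ => mul_comm _ _
  obtain ⟨sec, hsec⟩ := Module.projective_lifting_property M.mulVecLin.rangeRestrict LinearMap.id
    M.mulVecLin.surjective_rangeRestrict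
  let r : (ι → ℤ) →ₗ[ℤ] L := (LinearMap.id - sec.comp M.mulVecLin.rangeRestrict).codRestrict L
    fun v => LinearMap.mem_ker.2 (by
      have h1 := congrArg Subtype.val (LinearMap.congr_fun hsec (M.mulVecLin.rangeRestrict v))
      simp only [LinearMap.comp_apply, LinearMap.id_apply] at h1
      change M.mulVecLin (sec (M.mulVecLin.rangeRestrict v)) = M.mulVecLin v at h1
      simp only [LinearMap.sub_apply, LinearMap.id_apply, LinearMap.comp_apply, map_sub, h1,
        sub_self])
  have hr : ∀ l : L, r l = l := by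
    intro l
    apply Subtype.ext
    have h0 : M.mulVecLin.rangeRestrict (l : ι → ℤ) = 0 := Subtype.ext (LinearMap.mem_ker.1 l.2)
    simp [r, h0]
  have hlift : ∀ f : Fin t → ℤ, ∃ v, Nᵀ *ᵥ v = f := by
    intro f
    let φ : (ι → ℤ) →ₗ[ℤ] ℤ := (b.constr ℤ f).comp r
    refine ⟨fun x => φ (Pi.single x 1), ?_⟩
    funext j
    have h1 : φ (fun x => N x j) = f j := by
      show b.constr ℤ f (r (b j : L)) = f j
      rw [hr, Module.Basis.constr_basis]
    rw [← h1]
    conv_rhs => rw [pi_eq_sum_univ' (fun x => N x j), map_sum]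
    simp only [map_smul, smul_eq_mul, mulVec, dotProduct, transpose_apply]
  set G := Nᵀ * N with hG
  -- `Nᵀ v` is a multiple of `Nᵀ eₑ` modulo the image of `G`
  have horth : ∀ {y v : ι → ℤ}, M *ᵥ v = (p : ℤ) • y → Nᵀ *ᵥ y = 0 := by
    intro y v h
    funext j
    have h1 : (p : ℤ) * ((fun x => N x j) ⬝ᵥ y) = 0 := by
      rw [← smul_eq_mul, ← dotProduct_smul, ← h, hdot, hNmem, zero_dotProduct]
    exact (mul_eq_zero.1 h1).resolve_left hp0
  have hdiv : ∀ v : ι → ℤ, (p : ℤ) ∣ (fun x => M x e) ⬝ᵥ v → ∃ c, Nᵀ *ᵥ v = G *ᵥ c := by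
    intro v hv
    have hall : ∀ x, (p : ℤ) ∣ (M *ᵥ v) x := by
      intro x
      have h1 : (p : ℤ) ∣ (M *ᵥ v) x * M e e - M x e * ((fun y => M y e) ⬝ᵥ v) := by
        simp only [mulVec, dotProduct, Finset.sum_mul, Finset.mul_sum, ← Finset.sum_sub_distrib]
        exact Finset.dvd_sum fun y _ => by
          have := (hrank x y e).mul_right (v y)
          convert this using 1; ring
      have h2 : (p : ℤ) ∣ (M *ᵥ v) x * M e e := by simpa using dvd_add h1 (hv.mul_left (M x e))
      exact ((Nat.prime_iff_prime_int.1 hp).dvd_or_dvd h2).resolve_right (hdiag e)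
    choose y hy using hall
    have hMv : M *ᵥ v = (p : ℤ) • y := funext fun x => by rw [hy x]; rfl
    have hMy : M *ᵥ y = (p : ℤ) • y := by
      refine smul_right_injective _ hp0 ?_
      show (p : ℤ) • (M *ᵥ y) = (p : ℤ) • ((p : ℤ) • y)
      rw [← mulVec_smul, ← hMv, mulVec_mulVec, hsq, smul_mulVec, hMv]
    obtain ⟨c, hc⟩ := hNrep (v - y) (by rw [mulVec_sub, hMv, hMy, sub_self])
    exact ⟨c, by rw [hG, ← mulVec_mulVec, hc, mulVec_sub, horth hMv, sub_zero]⟩
  set v0 := Nᵀ *ᵥ (Pi.single e (1 : ℤ)) with hv0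
  have hcol : ∀ f : Fin t → ℤ, ∃ (X : Fin t → ℤ) (l : ℤ), f = G *ᵥ X + l • v0 := by
    intro f
    obtain ⟨v, rfl⟩ := hlift f
    set α := (fun x => M x e) ⬝ᵥ v
    obtain ⟨c, hc⟩ := hdiv (v - (α * i0) • Pi.single e 1) ⟨α * j0, by
      rw [dotProduct_sub, dotProduct_smul, dotProduct_single, smul_eq_mul, mul_one]
      linear_combination α * hbez.symm⟩
    refine ⟨c, α * i0, ?_⟩
    rw [← hc, mulVec_sub, mulVec_smul, sub_add_cancel]
  obtain ⟨y0, hy0⟩ := hdiv ((p : ℤ) • Pi.single e 1) ⟨M e e, by
    rw [dotProduct_smul, dotProduct_single, smul_eq_mul, mul_one]⟩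
  rw [mulVec_smul, ← hv0] at hy0
  choose X l hXl using fun i : Fin t => hcol (Pi.single i 1)
  have hdetG : G.det ∣ (p : ℤ) := by
    let Xm : Matrix (Fin t) (Fin t) ℤ := Matrix.of fun j i => X i j
    have hmul : fromBlocks G (replicateCol Unit v0) 0 1 *
        fromBlocks Xm (replicateCol Unit y0) (replicateRow Unit l) (-(p : ℤ) • 1) =
        fromBlocks (1 : Matrix (Fin t) (Fin t) ℤ) 0 (replicateRow Unit l)
          (-(p : ℤ) • (1 : Matrix Unit Unit ℤ)) := by
      rw [fromBlocks_multiply]
      congr 1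
      · ext i j
        have h1 := congrFun (hXl j) i
        simp only [Pi.add_apply, Pi.smul_apply, smul_eq_mul, Pi.single_apply, mulVec,
          dotProduct] at h1
        rw [Matrix.one_apply, h1]
        simp only [Matrix.add_apply, Matrix.mul_apply, Fintype.univ_punit, Finset.sum_singleton,
          replicateCol_apply, replicateRow_apply, Xm, Matrix.of_apply]
        rw [mul_comm (v0 i)]
      · ext i u
        have h1 := congrFun hy0 i
        simp only [mulVec, dotProduct, Pi.smul_apply, smul_eq_mul] at h1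
        simp only [Matrix.add_apply, Matrix.mul_apply, Fintype.univ_punit, Finset.sum_singleton,
          replicateCol_apply, Matrix.smul_apply, Matrix.one_apply_eq, Matrix.zero_apply,
          smul_eq_mul, mul_one, ← h1]
        ring
      · rw [Matrix.zero_mul, Matrix.one_mul, zero_add]
      · rw [Matrix.zero_mul, Matrix.one_mul, zero_add]
    have h := congrArg Matrix.det hmul
    rw [det_mul, det_fromBlocks_zero₂₁, det_fromBlocks_zero₁₂] at h
    simp only [det_one, mul_one, one_mul, det_unique, Matrix.smul_apply, Matrix.one_apply_eq,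
      smul_eq_mul] at h
    exact dvd_neg.1 ⟨_, h.symm⟩
  -- the vector `w` with `M w = a`
  obtain ⟨w, hw⟩ : ∃ w, M *ᵥ w = a := by
    have hy : ∀ x, (p : ℤ) ∣ a x - (a e * i0) * M x e := fun x => by
      have : a x - a e * i0 * M x e =
          i0 * (a x * M e e - a e * M x e) + a x * j0 * p := by linear_combination -(a x) * hbez
      rw [this]
      exact dvd_add ((har x e).mul_left _) (dvd_mul_left _ _)
    choose y hy using hy
    have hcole : M *ᵥ Pi.single e 1 = fun x => M x e := by
      funext x; simp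
    have hay : a = (a e * i0) • (M *ᵥ Pi.single e 1) + (p : ℤ) • y := by
      rw [hcole]; funext x; simp only [Pi.add_apply, Pi.smul_apply, smul_eq_mul]; rw [← hy x]; ring
    refine ⟨(a e * i0) • Pi.single e 1 + y, ?_⟩
    refine smul_right_injective _ hp0 ?_
    show (p : ℤ) • (M *ᵥ ((a e * i0) • Pi.single e 1 + y)) = (p : ℤ) • a
    have h2 := congrArg (fun z => M *ᵥ z) hay
    simp only [mulVec_add, mulVec_smul, mulVec_mulVec, hsq, smul_mulVec, ha] at h2
    rw [h2, mulVec_add, mulVec_smul, smul_add, smul_comm]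
  -- the columns of `N` and `w`
  have hGinj : G.det ≠ 0 := fun h => hp0 (zero_dvd_iff.1 (h ▸ hdetG))
  have hker : ∀ {K : Type} [Field K] [CharZero K] (c : Fin t → K),
      (N.map (Int.cast : ℤ → K)) *ᵥ c = 0 → c = 0 := by
    intro K _ _ c hc
    refine Matrix.eq_zero_of_mulVec_eq_zero (M := G.map (Int.cast : ℤ → K)) ?_ ?_
    · rw [show (G.map (Int.cast : ℤ → K)).det = (G.det : K) from
        ((Int.castRingHom K).map_det G).symm]
      exact_mod_cast hGinj
    · have : G.map (Int.cast : ℤ → K) = (Nᵀ.map (Int.cast : ℤ → K)) * N.map (Int.cast : ℤ → K) := by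
        rw [hG]; exact Matrix.map_mul (f := Int.castRingHom K)
      rw [this, ← mulVec_mulVec, hc, mulVec_zero]
  refine ⟨t, N, hMN, fun c => hker c, ?_⟩
  let A : Matrix ι (Fin t ⊕ Unit) ℤ := fromCols N (replicateCol Unit w)
  have hrow : ∀ x, A x ≠ 0 := by
    intro x h0
    obtain ⟨c, hc⟩ := hNrep ((p : ℤ) • Pi.single x 1 - M *ᵥ Pi.single x 1) (by
      rw [mulVec_sub, mulVec_smul, mulVec_mulVec, hsq, smul_mulVec, sub_self])
    have h1 := congrFun hc x
    have h2 : (N *ᵥ c) x = 0 := by
      simp only [mulVec, dotProduct]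
      exact Finset.sum_eq_zero fun j _ => by
        rw [show N x j = 0 from congrFun h0 (Sum.inl j)]; simp
    rw [h2] at h1
    simp at h1
    exact hdiag x ⟨1, by linarith⟩
  have hspan : Spans A Finset.univ := by
    intro c hc
    set c1 : Fin t → ℝ := fun j => c (Sum.inl j)
    set c0 := c (Sum.inr ())
    have hAc : (N.map (Int.cast : ℤ → ℝ)) *ᵥ c1 + c0 • (fun x => (w x : ℝ)) = 0 := by
      funext x
      have := hc x (Finset.mem_univ x)
      rw [Fintype.sum_sum_type, Fintype.univ_punit, Finset.sum_singleton] at this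
      simp only [Pi.add_apply, Pi.smul_apply, smul_eq_mul, mulVec, dotProduct, Matrix.map_apply,
        Pi.zero_apply]
      rw [← this]
      simp [A, c1, c0, mul_comm]
    have hc0 : c0 = 0 := by
      have h1 := congrArg (fun z => (M.map (Int.cast : ℤ → ℝ)) *ᵥ z) hAc
      have h2 : M.map (Int.cast : ℤ → ℝ) * N.map (Int.cast : ℤ → ℝ) = 0 :=
        (Matrix.map_mul (f := Int.castRingHom ℝ)).symm.trans (by rw [hMN]; ext; simp)
      have h3 : (M.map (Int.cast : ℤ → ℝ)) *ᵥ (fun x => (w x : ℝ)) = fun x => (a x : ℝ) := by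
        funext x; rw [← hw]; simp [mulVec, dotProduct]
      simp only [mulVec_add, mulVec_smul, mulVec_mulVec, h2, zero_mulVec, zero_add, h3,
        mulVec_zero] at h1
      obtain ⟨x, hx⟩ := Function.ne_iff.1 ha0
      have h4 := congrFun h1 x
      simp only [Pi.smul_apply, smul_eq_mul, Pi.zero_apply] at h4
      exact (mul_eq_zero.1 h4).resolve_right (by exact_mod_cast hx)
    have hc1 : c1 = 0 := hker c1 (by simpa [hc0] using hAc)
    funext i
    rcases i with j | u
    · exact congrFun hc1 j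
    · exact hc0
  have hlow := card_lt_det_gram hrow Finset.univ hspan
  rw [gram_univ, Finset.card_univ, Fintype.card_sum, Fintype.card_fin, Fintype.card_unit] at hlow
  obtain ⟨c, hc⟩ := hNrep ((p : ℤ) • w - a) (by rw [mulVec_sub, mulVec_smul, hw, ha, sub_self])
  have hEq : A * fromBlocks (1 : Matrix (Fin t) (Fin t) ℤ) (replicateCol Unit (-c)) 0
      ((p : ℤ) • (1 : Matrix Unit Unit ℤ)) = fromCols N (replicateCol Unit a) := by
    rw [fromCols_mul_fromBlocks]
    congr 1
    · simp
    · ext x u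
      have h1 := congrFun hc x
      simp only [mulVec, dotProduct, Pi.sub_apply, Pi.smul_apply, smul_eq_mul] at h1
      simp only [Matrix.add_apply, Matrix.mul_apply, Fintype.univ_punit, Finset.sum_singleton,
        replicateCol_apply, Matrix.smul_apply, Matrix.one_apply_eq, smul_eq_mul, mul_one,
        Pi.neg_apply, mul_neg, Finset.sum_neg_distrib, h1]
      ring
  have hNa : Nᵀ *ᵥ a = 0 := horth ha
  have hgram : (fromCols N (replicateCol Unit a))ᵀ * fromCols N (replicateCol Unit a) =
      fromBlocks G 0 0 ((a ⬝ᵥ a) • (1 : Matrix Unit Unit ℤ)) := by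
    rw [transpose_fromCols, fromRows_mul_fromCols]
    congr 1
    · ext j u
      exact congrFun hNa j
    · ext u j
      have := congrFun hNa j
      simp only [mulVec, dotProduct, Pi.zero_apply, transpose_apply] at this
      simpa [Matrix.mul_apply, mul_comm] using this
    · ext u u'
      simp [Matrix.mul_apply, dotProduct]
  have hdet := congrArg Matrix.det hgram
  rw [← hEq, transpose_mul, Matrix.mul_assoc, ← Matrix.mul_assoc Aᵀ, det_mul, det_mul (Aᵀ * A),
    det_transpose, det_fromBlocks_zero₂₁, det_fromBlocks_zero₂₁] at hdet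
  simp only [det_one, one_mul, det_unique, Matrix.smul_apply, Matrix.one_apply_eq, smul_eq_mul,
    mul_one] at hdet
  have hGle : G.det ≤ p := Int.le_of_dvd (Int.natCast_pos.2 hp.pos) hdetG
  have haa : 0 ≤ a ⬝ᵥ a := Finset.sum_nonneg fun x _ => mul_self_nonneg _
  have hppos : (0 : ℤ) < p := Int.natCast_pos.2 hp.pos
  have hkey : (p : ℤ) * (Aᵀ * A).det ≤ a ⬝ᵥ a := by
    have h1 : (p : ℤ) * ((p : ℤ) * (Aᵀ * A).det) ≤ (p : ℤ) * (a ⬝ᵥ a) := by
      calc (p : ℤ) * ((p : ℤ) * (Aᵀ * A).det) = G.det * (a ⬝ᵥ a) := by rw [← hdet]; ring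
        _ ≤ _ := mul_le_mul_of_nonneg_right hGle haa
    exact le_of_mul_le_mul_left h1 hppos
  push_cast at hlow
  nlinarith [mul_le_mul_of_nonneg_left (show (Fintype.card ι : ℤ) - t ≤ (Aᵀ * A).det by linarith)
    hppos.le, hkey]

end CfsgLib.BlocksLocal.GramBound
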