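import Cfsg.Agent.BlocksLocal.LocalSections
import Cfsg.Agent.BlocksCharsC.SubsectionMajor
import Cfsg.Agent.Blocks.InducedDefect
import Cfsg.Agent.Blocks.HeightZero

/-!
# Major subsections at the central elements of a defect group

For `x` in the centre of a defect group of `B` some block of `C(x)` induces `B` with the same
defect; so no member of `B` vanishes on the whole section of `x`.
-/

set_option autoImplicit false
set_option linter.style.haveILetI false
set_option linter.unusedSectionVars false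

namespace CfsgLib.BlocksLocal

open Cfsg CfsgLib.Blocks

universe u

variable {G : Type u} [Group G] [Fintype G] {M : Ideal AlgInt} [M.IsPrime] {p : ℕ} [Fact p.Prime]
  {B : Set (IrrCharacter G)} {P : Subgroup G} {x : G}

theorem exists_block_coeff_ne_zero {H : Type u} [Group H] [Fintype H] {A : Set (IrrCharacter H)}
    (hA : IsBlockUnion M A) {h : H}
    (hne : (idemBar M A hA : MonoidAlgebra (Res M) H).coeff h ≠ 0) :
    ∃ η ∈ A, (idemBar M (Cfsg.blockOf M (η : H → ℂ))
      (isBlockUnion_of_isPBlock (isPBlock_blockOf η)) : MonoidAlgebra (Res M) H).coeff h ≠ 0 := by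
  classical
  by_contra hall
  push Not at hall
  apply hne
  rw [coeff_idemBar]
  let N : IrrCharacter H → Finset (IrrCharacter H) := fun η =>
    Finset.univ.filter fun ξ => ξ ∈ Cfsg.blockOf M (η : H → ℂ)
  let S := (Finset.univ.filter fun η => η ∈ A).image N
  have hN : ∀ η, (N η : Set (IrrCharacter H)) = Cfsg.blockOf M (η : H → ℂ) := fun η =>
    Set.ext fun ξ => by simp [N]
  have hsum : Cfsg.blockCoeff A h = ∑ T ∈ S, Cfsg.blockCoeff (T : Set (IrrCharacter H)) h := by
    have hcov : Finset.univ.filter (fun η => η ∈ A) = S.biUnion id := by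
      refine Finset.ext fun ξ => ⟨fun hx => ?_, fun hx => ?_⟩
      · exact Finset.mem_biUnion.2 ⟨N ξ, Finset.mem_image.2 ⟨ξ, hx, rfl⟩,
          Finset.mem_filter.2 ⟨Finset.mem_univ _, mem_blockOf_self ξ⟩⟩
      · obtain ⟨T, hT, hxT⟩ := Finset.mem_biUnion.1 hx
        obtain ⟨η, hη, rfl⟩ := Finset.mem_image.1 hT
        exact Finset.mem_filter.2 ⟨Finset.mem_univ _,
          hA η (Finset.mem_filter.1 hη).2 (Finset.mem_filter.1 hxT).2⟩
    simp only [blockCoeff_eq_sum, ← Finset.mul_sum, ← Finset.sum_filter, Finset.mem_coe,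
      Finset.filter_univ_mem]
    rw [hcov, Finset.sum_biUnion]
    · rfl
    · intro T hT T' hT' hne'
      obtain ⟨η, -, rfl⟩ := Finset.mem_image.1 (Finset.mem_coe.1 hT)
      obtain ⟨η', -, rfl⟩ := Finset.mem_image.1 (Finset.mem_coe.1 hT')
      refine Finset.disjoint_left.2 fun ξ h1 h2 => hne' (Finset.coe_injective ?_)
      rw [hN, hN, eq_blockOf_of_mem (isPBlock_blockOf η) (Finset.mem_filter.1 h1).2,
        eq_blockOf_of_mem (isPBlock_blockOf η') (Finset.mem_filter.1 h2).2]
  have hloc' : ∀ T ∈ S, Cfsg.MemLocalIdeal M (Cfsg.blockCoeff (T : Set (IrrCharacter H)) h) := by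
    intro T hT
    obtain ⟨η, hη, rfl⟩ := Finset.mem_image.1 hT
    have h0 := hall η (Finset.mem_filter.1 hη).2
    rw [coeff_idemBar, ← map_zero (red M), red_eq_red_iff] at h0
    rw [hN]
    simpa using h0
  rw [← map_zero (red M), red_eq_red_iff]
  simpa [hsum] using memLocalIdeal_sum (M := M) S hloc'

theorem isLocal_centralizer (hx : ∃ k, orderOf x = p ^ k) :
    LocalSections.IsLocal p (Subgroup.centralizer ({x} : Set G)) := by
  obtain ⟨k, hk⟩ := hx
  refine ⟨Subgroup.zpowers x, IsPGroup.of_card (n := k) (by rw [Nat.card_zpowers, hk]), ?_, ?_, ?_⟩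
  · rw [Subgroup.zpowers_le, Subgroup.mem_centralizer_singleton_iff]
  · exact fun g hg => Subgroup.mem_centralizer_singleton_iff.2
      (Subgroup.mem_centralizer_iff.1 hg x (Subgroup.mem_zpowers x)).symm
  · exact fun g hg => Subgroup.centralizer_le_normalizer _ (Subgroup.mem_centralizer_iff.2
      fun v ⟨i, hi⟩ => hi ▸ ((Commute.zpow_left (show Commute x g from
        (Subgroup.mem_centralizer_singleton_iff.1 hg).symm) i).eq))

theorem exists_pow_orderOf (hP : Cfsg.IsDefectGroup p M B P) (hxP : x ∈ P) :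
    ∃ k, orderOf x = p ^ k := by
  obtain ⟨k, hk⟩ := IsPGroup.iff_orderOf.1 (IsDefectGroup.isPGroup hP) ⟨x, hxP⟩
  exact ⟨k, by rw [← hk, ← Subgroup.orderOf_coe]⟩

/-- A block of `C(x)` inducing `B` with the same defect. -/
theorem exists_major (hM : Cfsg.IsPModular p M) (hB : Cfsg.IsPBlock M B)
    (hP : Cfsg.IsDefectGroup p M B P) (hxP : x ∈ P) (hxc : ∀ w ∈ P, x * w = w * x) :
    ∃ b : Set (IrrCharacter (Subgroup.centralizer ({x} : Set G))),
      Cfsg.IsInducedBlock M (Subgroup.centralizer ({x} : Set G)) b B ∧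
        Cfsg.blockDefect p b = Cfsg.blockDefect p B := by
  classical
  haveI := charP_res hM
  have hx := exists_pow_orderOf hP hxP
  have hloc := isLocal_centralizer (G := G) hx
  obtain ⟨k, hk⟩ := hx
  haveI := Fintype.ofFinite (Subgroup.centralizer ({x} : Set G))
  set hBU := isBlockUnion_of_isPBlock hB
  set A := overSet M (Subgroup.centralizer ({x} : Set G)) B hBU
  have hA : IsBlockUnion M A := isBlockUnion_overSet _ hBU
  have hX : IsPGroup p (Subgroup.zpowers x) :=
    IsPGroup.of_card (n := k) (by rw [Nat.card_zpowers, hk])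
  have hXC : Subgroup.zpowers x ≤ Subgroup.centralizer ({x} : Set G) := by
    rw [Subgroup.zpowers_le, Subgroup.mem_centralizer_singleton_iff]
  have hCX : Subgroup.centralizer ((Subgroup.zpowers x : Subgroup G) : Set G) ≤
      Subgroup.centralizer ({x} : Set G) := fun g hg => Subgroup.mem_centralizer_singleton_iff.2
    (Subgroup.mem_centralizer_iff.1 hg x (Subgroup.mem_zpowers x)).symm
  have hXeq : ∀ g ∈ Subgroup.centralizer ({x} : Set G),
      g ∈ Subgroup.centralizer ((Subgroup.zpowers x : Subgroup G) : Set G) := fun g hg =>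
    Subgroup.mem_centralizer_iff.2 fun v ⟨i, hi⟩ => hi ▸ ((Commute.zpow_left (show Commute x g from
      (Subgroup.mem_centralizer_singleton_iff.1 hg).symm) i).eq)
  have hCN : Subgroup.centralizer ({x} : Set G) ≤
      Subgroup.normalizer ((Subgroup.zpowers x : Subgroup G) : Set G) := fun g hg =>
    Subgroup.centralizer_le_normalizer _ (hXeq g hg)
  set e' := brHom (p := p) (Subgroup.zpowers x) (Subgroup.centralizer ({x} : Set G)) hX hCX hCN
    (idemBar M B hBU) with he'
  have heA : e' = idemBar M A hA := by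
    refine eq_of_isNilpotent_sub_of_isIdempotentElem ?_ (idemBar_mul_self A hA) ?_
    · show _ * _ = _
      rw [he', ← map_mul, idemBar_mul_self]
    · refine isNilpotent_of_omegaBar_eq_zero _ fun ξ => ?_
      rw [map_sub, he', brHom_apply, ← omegaBar_resCtr_eq_brRes hM hX hXC hCN,
        LocalSections.omegaBar_res_idem hM hB hloc, omegaBar_idemBar, sub_self]
  obtain ⟨g, hgP, hg⟩ := IsDefectGroup.exists_coeff hB hP
  have hgC : g ∈ Subgroup.centralizer ({x} : Set G) :=
    Subgroup.mem_centralizer_singleton_iff.2 (Subgroup.mem_centralizer_iff.1 hgP x hxP).symm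
  have hne : (idemBar M A hA : MonoidAlgebra (Res M) (Subgroup.centralizer ({x} : Set G))).coeff ⟨g, hgC⟩ ≠ 0 := by
    rw [← heA, he', brHom_apply, coeff_brRes_of_mem hCN _ (hXeq g hgC)]
    exact hg
  obtain ⟨η, hη, hηne⟩ := exists_block_coeff_ne_zero hA hne
  refine ⟨_, isInducedBlock_of_mem_overSet hM ⟨k, hk⟩ hB hη, le_antisymm ?_ ?_⟩
  · obtain ⟨D, hD⟩ := exists_isDefectGroup (p := p) (isPBlock_blockOf (M := M) η)
    obtain ⟨E, hE, hle⟩ := IsDefectGroup.exists_le_of_induced hM
      (isInducedBlock_of_mem_overSet hM ⟨k, hk⟩ hB hη) hD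
    rw [blockDefect_eq hM (isPBlock_blockOf η) hD, blockDefect_eq hM hB hE]
    rw [← Subgroup.card_map_of_injective (f := Subgroup.subtype _) (Subgroup.subtype_injective _)]
    exact (Nat.factorization_le_iff_dvd Nat.card_pos.ne' Nat.card_pos.ne').2
      (Subgroup.card_dvd_of_le hle) p
  · obtain ⟨D, hD⟩ := exists_isDefectGroup (p := p) (isPBlock_blockOf (M := M) η)
    have hPC : P ≤ Subgroup.centralizer ({x} : Set G) := fun w hw =>
      Subgroup.mem_centralizer_singleton_iff.2 (hxc w hw).symm
    obtain ⟨c, hc⟩ := IsDefectGroup.domBy hM (isPBlock_blockOf η) hD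
      (P.subgroupOf (Subgroup.centralizer ({x} : Set G))) (IsDefectGroup.isPGroup hP).comap_subtype
      ⟨g, hgC⟩ (Subgroup.mem_centralizer_iff.2 fun w hw =>
        Subtype.ext (Subgroup.mem_centralizer_iff.1 hgP (w : G) hw)) hηne
    rw [blockDefect_eq hM (isPBlock_blockOf η) hD, blockDefect_eq hM hB hP,
      ← Nat.card_congr (Subgroup.subgroupOfEquivOfLe hPC).toEquiv, ← BlockPairs.card_cj c]
    exact (Nat.factorization_le_iff_dvd Nat.card_pos.ne' Nat.card_pos.ne').2
      (Subgroup.card_dvd_of_le hc) p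

/-- No member vanishes on the section of a central element of a defect group. -/
theorem exists_section_apply_ne_zero (hM : Cfsg.IsPModular p M) (hB : Cfsg.IsPBlock M B)
    (hP : Cfsg.IsDefectGroup p M B P) (hxP : x ∈ P) (hxc : ∀ w ∈ P, x * w = w * x)
    {χ : IrrCharacter G} (hχ : χ ∈ B) :
    ∃ y : G, Commute x y ∧ ¬ p ∣ orderOf y ∧ (χ : G → ℂ) (x * y) ≠ 0 := by
  classical
  haveI := Fintype.ofFinite (Subgroup.centralizer ({x} : Set G))
  obtain ⟨k, hk⟩ := exists_pow_orderOf hP hxP
  obtain ⟨b, hb, hd⟩ := exists_major hM hB hP hxP hxc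
  obtain ⟨ψ, hψ, hψ0⟩ := exists_height_zero hM hB
  have hu := BlocksCharsC.secSum_unit hM hB hb hd hk hχ hψ hψ0
  by_contra hall
  push Not at hall
  refine hu ?_
  have h0 : BlocksCharsC.secSum p x b (χ : G → ℂ) ψ = 0 := by
    refine finsum_eq_zero_of_forall_eq_zero fun C => ?_
    split_ifs with h
    · rfl
    · have := hall ((Quotient.out C : Subgroup.centralizer ({x} : Set G)) : G)
        (Subgroup.mem_centralizer_singleton_iff.1 (Quotient.out C :
          Subgroup.centralizer ({x} : Set G)).2).symm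
        (by rwa [Subgroup.orderOf_coe])
      rw [Cfsg.centralChar, this]
      simp
  rw [h0]
  exact memLocalIdeal_zero

end CfsgLib.BlocksLocal
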