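import Cfsg.Agent.BlockPairing.MajorBound
import Cfsg.Agent.BlockPairing.DefectOne
import Cfsg.Agent.BlockPairs.MajorSquare
import Cfsg.Agent.BlockPairs.Contributions
import Cfsg.Agent.BlocksLocal.GramBound
import Cfsg.Agent.BlocksLocal.CentralQuotient
import Cfsg.Agent.BlocksLocal.MajorExists
import Cfsg.Agent.S4733

/-!
# The bound of Brauer and Feit on the number of characters of a block

For defect two the form of a major subsection at an element of order `p` takes no nonzero value
below the rank, which gives `k ≤ p ^ 2`; larger defects follow by recursion through the quotient.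
-/

set_option autoImplicit false
set_option linter.unusedSectionVars false
set_option linter.style.haveILetI false

namespace CfsgLib.BlocksLocal

open Cfsg CfsgLib.Blocks CfsgLib.BlockPairing CfsgLib.CycloAverage CfsgLib.MajorSubsection
open CfsgLib.Codegree (KerContains)
open scoped ComplexConjugate Matrix

universe u

variable {G : Type u} [Group G] [Fintype G] {M : Ideal AlgInt} [M.IsPrime] {p : ℕ}
  [hp : Fact p.Prime] {z : G} {B : Set (IrrCharacter G)}
  {b : Set (IrrCharacter ↥(Subgroup.centralizer ({z} : Set G)))}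
  [Fintype ↥(Subgroup.centralizer ({z} : Set G))]

open Classical in
/-- In defect two the nonzero values of the form of a major subsection at an element of order `p`
are at least the rank. -/
theorem rank_le_form (hM : Cfsg.IsPModular p M) (D : Data M p z B b)
    (hind : Cfsg.IsInducedBlock M (Subgroup.centralizer ({z} : Set G)) b B)
    (hd2 : D.d = 2) (hdb : D.d = Cfsg.blockDefect p b)
    (Q : Subgroup ↥(Subgroup.centralizer ({z} : Set G))) [Q.Normal]
    (hQc : Q ≤ Subgroup.center _) (hQp : Nat.card Q = p)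
    (u : IrrCharacter ↥(Subgroup.centralizer ({z} : Set G)) → ℤ) :
    form D.C u u = 0 ∨ (Cfsg.blockRank p b : ℤ) ≤ form D.C u u := by
  refine or_iff_not_imp_left.2 fun hu => ?_
  have hb := hind.1
  have hp0 : (p : ℂ) ≠ 0 := Nat.cast_ne_zero.2 hp.out.ne_zero
  obtain ⟨ξ, -, h00, hrank, -⟩ := D.exists_base hM hind hdb
  have hform1 : ∀ x y, form D.C (MajorSubsection.single x) (MajorSubsection.single y) = D.C x y := by
    intro x y
    rw [form_single]
    simp [MajorSubsection.single]
  have hminor : ∀ t x e, (p : ℤ) ∣ D.C t x * D.C e e - D.C t e * D.C x e := by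
    intro t x e
    have X : ∀ a b', (p : ℤ) ∣ D.C a b' * D.C ξ ξ - D.C a ξ * D.C b' ξ := by
      intro a b'
      have := hrank (MajorSubsection.single a) (MajorSubsection.single b')
      rwa [hform1, hform1, hform1] at this
    have h1 : (p : ℤ) ∣ D.C ξ ξ * D.C ξ ξ *
        (D.C t x * D.C e e - D.C t e * D.C x e) := by
      have e1 : D.C ξ ξ * D.C ξ ξ * (D.C t x * D.C e e - D.C t e * D.C x e) =
          D.C ξ ξ * D.C e e * (D.C t x * D.C ξ ξ - D.C t ξ * D.C x ξ) +
            D.C t ξ * D.C x ξ * (D.C e e * D.C ξ ξ - D.C e ξ * D.C e ξ) -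
            D.C ξ ξ * D.C t e * (D.C x e * D.C ξ ξ - D.C x ξ * D.C e ξ) -
            D.C x ξ * D.C e ξ * (D.C t e * D.C ξ ξ - D.C t ξ * D.C e ξ) := by ring
      rw [e1]
      exact dvd_sub (dvd_sub (dvd_add ((X t x).mul_left _) ((X e e).mul_left _))
        ((X x e).mul_left _)) ((X t e).mul_left _)
    have hpp := Nat.prime_iff_prime_int.1 hp.out
    exact (hpp.dvd_or_dvd h1).resolve_left fun h => (hpp.dvd_or_dvd h).elim h00 h00
  -- the relation through the members with `Q` in the kernel
  set S := (CentralQuotient.kerPart Q b).toFinset with hS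
  have hSb : ∀ ψ ∈ S, ψ ∈ b := fun ψ h => (Set.mem_toFinset.1 h).1
  have hCC : ∀ x y, ∑ ψ ∈ S, D.C x ψ * D.C y ψ = (p : ℤ) * D.C x y := by
    intro x y
    by_cases hxy : x ∈ b ∧ y ∈ b
    · obtain ⟨hx, hy⟩ := hxy
      have hexp : regInner p (x : ↥(Subgroup.centralizer ({z} : Set G)) → ℂ) (y : ↥(Subgroup.centralizer ({z} : Set G)) → ℂ) =
          ∑ ψ ∈ S, (p : ℂ) * regInner p (x : ↥(Subgroup.centralizer ({z} : Set G)) → ℂ) (ψ : ↥(Subgroup.centralizer ({z} : Set G)) → ℂ) *
            regInner p (ψ : ↥(Subgroup.centralizer ({z} : Set G)) → ℂ) (y : ↥(Subgroup.centralizer ({z} : Set G)) → ℂ) := by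
        conv_lhs => rw [regInner]
        rw [Finset.sum_congr rfl fun g _ => show (if p ∣ orderOf g then (0 : ℂ) else
            (x : ↥(Subgroup.centralizer ({z} : Set G)) → ℂ) g * conj ((y : ↥(Subgroup.centralizer ({z} : Set G)) → ℂ) g)) =
            ∑ ψ ∈ S, (p : ℂ) * regInner p (x : ↥(Subgroup.centralizer ({z} : Set G)) → ℂ) (ψ : ↥(Subgroup.centralizer ({z} : Set G)) → ℂ) *
              (if p ∣ orderOf g then (0 : ℂ) else (ψ : ↥(Subgroup.centralizer ({z} : Set G)) → ℂ) g * conj ((y : ↥(Subgroup.centralizer ({z} : Set G)) → ℂ) g)) from ?_,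
          Finset.sum_comm, Finset.mul_sum]
        · refine Finset.sum_congr rfl fun ψ _ => ?_
          conv_rhs => arg 2; rw [regInner]
          rw [← Finset.mul_sum]
          ring
        · split_ifs with hg
          · simp
          · rw [CentralQuotient.regular_expansion_block Q hQc hQp hM hb hx hg, Finset.sum_mul]
            exact Finset.sum_congr rfl fun ψ _ => by ring
      refine Int.cast_injective (α := ℂ) ?_
      rw [Int.cast_sum, Int.cast_mul, D.C_eq x y hx hy, hexp, Finset.mul_sum, Finset.mul_sum]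
      refine Finset.sum_congr rfl fun ψ hψ => ?_
      rw [Int.cast_mul, D.C_eq x ψ hx (hSb ψ hψ), D.C_eq y ψ hy (hSb ψ hψ), hd2,
        regInner_symm p y ψ]
      push_cast
      ring
    · rw [D.C_zero x y hxy, mul_zero]
      refine Finset.sum_eq_zero fun ψ _ => ?_
      rcases not_and_or.1 hxy with h | h
      · rw [D.C_zero x ψ fun h' => h h'.1, zero_mul]
      · rw [D.C_zero y ψ fun h' => h h'.1, mul_zero]
  -- the pure bound
  let A : Matrix S S ℤ := Matrix.of fun ψ φ => D.C ψ φ
  let a : S → ℤ := fun ψ => ∑ x, u x * D.C x ψ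
  have hsym : Aᵀ = A := by ext ψ φ; exact D.C_symm _ _
  have hsq : A * A = (p : ℤ) • A := by
    ext ψ φ
    show ∑ χ : S, D.C ψ χ * D.C χ φ = (p : ℤ) * D.C ψ φ
    rw [Finset.sum_coe_sort S fun χ => D.C ψ χ * D.C χ φ, ← hCC]
    exact Finset.sum_congr rfl fun χ _ => by rw [D.C_symm χ φ]
  have ha : A *ᵥ a = (p : ℤ) • a := by
    funext ψ
    show ∑ χ : S, D.C ψ χ * ∑ x, u x * D.C x χ = (p : ℤ) * ∑ x, u x * D.C x ψ
    simp only [Finset.mul_sum]
    rw [Finset.sum_comm]
    refine Finset.sum_congr rfl fun x _ => ?_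
    rw [show (p : ℤ) * (u x * D.C x ψ) = u x * ((p : ℤ) * D.C x ψ) by ring, ← hCC, Finset.mul_sum,
      Finset.sum_coe_sort S fun χ => D.C ψ χ * (u x * D.C x χ)]
    exact Finset.sum_congr rfl fun χ _ => by ring
  have haa : a ⬝ᵥ a = (p : ℤ) * form D.C u u := by
    show ∑ ψ : S, (∑ x, u x * D.C x ψ) * (∑ x, u x * D.C x ψ) = _
    simp only [form, Finset.mul_sum, Finset.sum_mul]
    rw [Finset.sum_comm]
    refine Finset.sum_congr rfl fun x _ => ?_
    rw [Finset.sum_comm]
    refine Finset.sum_congr rfl fun y _ => ?_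
    rw [show (p : ℤ) * (u x * u y * D.C x y) = u x * u y * ((p : ℤ) * D.C x y) by ring, ← hCC,
      Finset.mul_sum, Finset.sum_coe_sort S fun χ => u y * D.C y χ * (u x * D.C x χ)]
    exact Finset.sum_congr rfl fun χ _ => by ring
  have ha0 : a ≠ 0 := by
    intro h
    rw [h, dotProduct_zero] at haa
    exact hu ((mul_eq_zero.1 haa.symm).resolve_left (Int.natCast_ne_zero.2 hp.out.ne_zero))
  have hh0 : ∀ x ∈ b, Cfsg.blockHeight p b (x : ↥(Subgroup.centralizer ({z} : Set G)) → ℂ) = 0 := by
    intro x hx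
    by_contra h
    have := Contributions.height_add_two_le hM hb hx h
    omega
  have hdiag : ∀ ψ : S, ¬ (p : ℤ) ∣ A ψ ψ := by
    intro ψ
    have hψ := hSb _ ψ.2
    have hc : D.C ψ ψ = Contributions.contrib p b (ψ : IrrCharacter _) ψ := by
      refine Int.cast_injective (α := ℂ) ?_
      rw [D.C_eq _ _ hψ hψ, Contributions.cast_contrib hψ, hdb]
    have h := Contributions.not_dvd_of_height_zero hM hb hψ hψ (hh0 _ hψ)
    rw [hh0 _ hψ, zero_add, pow_one, ← hc] at h
    exact h
  obtain ⟨t, N, hAN, hNinj, hbound⟩ := GramBound.exists_kernel_bound hp.out A hsym hsq hdiag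
    (fun x y e => hminor x y e) a ha ha0 (fun x e => by
      simp only [a, A, Matrix.of_apply, Finset.sum_mul, ← Finset.sum_sub_distrib]
      exact Finset.dvd_sum fun w _ => by
        have := (hminor (w : IrrCharacter _) x e).mul_left (u w)
        convert this using 1; ring)
  -- the rank is at most the corank
  let f : S → (↥(Subgroup.centralizer ({z} : Set G)) → ℂ) := fun ψ =>
    Cfsg.pRegularPart p ((ψ : IrrCharacter ↥(Subgroup.centralizer ({z} : Set G))) : _ → ℂ)
  have hker : ∀ c : Fin t → ℂ,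
      Fintype.linearCombination ℂ f ((N.map (Int.cast : ℤ → ℂ)) *ᵥ c) = 0 := by
    intro c
    set n := (N.map (Int.cast : ℤ → ℂ)) *ᵥ c with hn
    have hAn : (A.map (Int.cast : ℤ → ℂ)) *ᵥ n = 0 := by
      rw [hn, Matrix.mulVec_mulVec, show A.map (Int.cast : ℤ → ℂ) * N.map (Int.cast : ℤ → ℂ) = 0 from
        (Matrix.map_mul (f := Int.castRingHom ℂ)).symm.trans (by rw [hAN]; ext; simp),
        Matrix.zero_mulVec]
    funext g
    rw [Fintype.linearCombination_apply, Finset.sum_apply, Pi.zero_apply]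
    by_cases hg : p ∣ orderOf g
    · simp [f, pRegularPart_apply, hg]
    simp only [Pi.smul_apply, smul_eq_mul, f, pRegularPart_apply, if_neg hg]
    rw [Finset.sum_congr rfl fun ψ _ => by
      rw [CentralQuotient.regular_expansion_block Q hQc hQp hM hb (hSb _ ψ.2) hg, Finset.mul_sum]]
    rw [Finset.sum_comm]
    refine Finset.sum_eq_zero fun φ hφ => ?_
    have h1 := congrFun hAn ⟨φ, hφ⟩
    simp only [Matrix.mulVec, dotProduct, Matrix.map_apply, Pi.zero_apply, A, Matrix.of_apply] at h1
    have h2 : ∀ ψ : S, (D.C φ ψ : ℂ) = ((p ^ D.d : ℕ) : ℂ) *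
        regInner p ((ψ : IrrCharacter ↥(Subgroup.centralizer ({z} : Set G))) : _ → ℂ) (φ : ↥(Subgroup.centralizer ({z} : Set G)) → ℂ) := fun ψ => by
      rw [D.C_symm, D.C_eq _ _ (hSb _ ψ.2) (hSb _ hφ)]
    simp only [h2] at h1
    have h3 : ((p ^ D.d : ℕ) : ℂ) * (∑ ψ : S,
        regInner p ((ψ : IrrCharacter ↥(Subgroup.centralizer ({z} : Set G))) : _ → ℂ) (φ : ↥(Subgroup.centralizer ({z} : Set G)) → ℂ) * n ψ) = 0 := by
      rw [Finset.mul_sum, ← h1]
      exact Finset.sum_congr rfl fun ψ _ => by ring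
    have h4 := (mul_eq_zero.1 h3).resolve_left (Nat.cast_ne_zero.2 (pow_ne_zero _ hp.out.ne_zero))
    rw [← mul_zero ((p : ℂ) * (φ : ↥(Subgroup.centralizer ({z} : Set G)) → ℂ) g), ← h4, Finset.mul_sum]
    exact Finset.sum_congr rfl fun ψ _ => by ring
  have hl : Cfsg.blockRank p b + t ≤ Fintype.card S := by
    have h1 := LinearMap.finrank_range_add_finrank_ker (Fintype.linearCombination ℂ f)
    rw [Fintype.range_linearCombination, Module.finrank_fintype_fun_eq_card] at h1
    have h2 : t ≤ Module.finrank ℂ (LinearMap.ker (Fintype.linearCombination ℂ f)) := by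
      let Ψ : (Fin t → ℂ) →ₗ[ℂ] LinearMap.ker (Fintype.linearCombination ℂ f) :=
        (N.map (Int.cast : ℤ → ℂ)).mulVecLin.codRestrict _ fun c => LinearMap.mem_ker.2 (hker c)
      have hΨ : Function.Injective Ψ := by
        rw [← LinearMap.ker_eq_bot, Submodule.eq_bot_iff]
        intro c hc
        exact hNinj c (congrArg Subtype.val (LinearMap.mem_ker.1 hc))
      simpa using LinearMap.finrank_le_finrank_of_injective hΨ
    have h3 := CentralQuotient.blockRank_le_span Q hQc hQp hM hb
    have h4 : Submodule.span ℂ (Set.range fun ψ : CentralQuotient.kerPart Q b =>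
        Cfsg.pRegularPart p ((ψ : IrrCharacter ↥(Subgroup.centralizer ({z} : Set G))) : _ → ℂ)) =
        Submodule.span ℂ (Set.range f) := by
      congr 1
      ext v
      simp [f, hS]
    rw [h4] at h3
    omega
  rw [haa] at hbound
  have hppos : (0 : ℤ) < p := Int.natCast_pos.2 hp.out.pos
  have h5 := le_of_mul_le_mul_left hbound hppos
  omega

open Classical in
/-- Characters of a block with a major subsection of defect two at an element of order `p`. -/
theorem card_le_sq_of_major (hM : Cfsg.IsPModular p M) (hz : orderOf z = p)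
    (hind : Cfsg.IsInducedBlock M (Subgroup.centralizer ({z} : Set G)) b B)
    (hd : Cfsg.blockDefect p b = Cfsg.blockDefect p B) (hd2 : Cfsg.blockDefect p B = 2)
    (Q : Subgroup ↥(Subgroup.centralizer ({z} : Set G))) [Q.Normal]
    (hQc : Q ≤ Subgroup.center _) (hQp : Nat.card Q = p) :
    Nat.card B ≤ p ^ 2 := by
  have hz' : ∃ k, orderOf z = p ^ k := ⟨1, by rw [pow_one, hz]⟩
  obtain ⟨D, hD⟩ := exists_data (M := M) (B := B) hz' hd
  have hB := hind.2.1
  obtain ⟨ξ, -, -, -, hK⟩ := D.exists_base hM hind (hD.trans hd.symm)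
  obtain ⟨χ₀, hχ₀, h0⟩ := Blocks.exists_height_zero (p := p) hM hB
  set l := Cfsg.blockRank p b
  have hl : 1 ≤ l := one_le_blockRank (isPBlock_nonempty hind.1)
  have hb1 : ∀ χ ∈ B.toFinset, ((p : ℤ) - 1) * (l : ℤ) ≤ D.avg D.C χ := by
    intro χ hχ
    refine le_sum_tau_form hp.out D.isRoot _ D.C_symm D.form_nonneg l (fun w => ?_) _ _ D.j_lt ?_
    · exact rank_le_form hM D hind (hD.trans hd2) (hD.trans hd.symm) Q hQc hQp w
    · refine ⟨ξ, ?_⟩
      have := D.Tu_ne_zero hM hind.1 hz' hB hD hχ₀ h0 (hK χ₀ hχ₀ h0) (Set.mem_toFinset.1 hχ)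
      rwa [D.Tu_single] at this
  have h2 := Finset.card_nsmul_le_sum _ _ _ hb1
  rw [D.sum_avg_C hM hz' hind, nsmul_eq_mul, hD, hd2] at h2
  have hcard : Nat.card B = B.toFinset.card := by rw [Set.toFinset_card, Nat.card_eq_fintype_card]
  rw [hcard]
  have hp1 : (0 : ℤ) < (p : ℤ) - 1 := by have := hp.out.two_le; omega
  have hl0 : (0 : ℤ) < l := by exact_mod_cast hl
  zify
  nlinarith [mul_pos hp1 hl0]

/-- The bound by recursion on the defect. -/
theorem card_block_le (d : ℕ) : ∀ (G : Type u) [Group G] [Fintype G] (M : Ideal AlgInt)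
    [M.IsPrime], Cfsg.IsPModular p M → ∀ B : Set (IrrCharacter G), Cfsg.IsPBlock M B →
      Cfsg.blockDefect p B = d →
        (d ≤ 2 → Nat.card B ≤ p ^ d) ∧ (3 ≤ d → Nat.card B ≤ p ^ (2 * d - 2)) := by
  induction d using Nat.strong_induction_on with
  | _ d ih =>
    intro G _ _ M _ hM B hB hdB
    classical
    rcases Nat.eq_zero_or_pos d with rfl | hd0
    · refine ⟨fun _ => ?_, fun h => absurd h (by omega)⟩
      rw [((Cfsg.Agent.S4733.result p M hM B hB).2.1.1 hdB).1, pow_zero]
    obtain ⟨P, hP⟩ := Blocks.exists_isDefectGroup (p := p) hB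
    have hPp := IsDefectGroup.isPGroup hP
    have hPcard := card_defectGroup hM hB hP
    haveI : Nontrivial P := Finite.one_lt_card_iff_nontrivial.1 (by
      rw [hPcard, hdB]; exact Nat.one_lt_pow hd0.ne' hp.out.one_lt)
    obtain ⟨w, hw⟩ : ∃ w : Subgroup.center P, orderOf w = p := by
      haveI := hPp.center_nontrivial
      obtain ⟨n, hn⟩ := IsPGroup.iff_card.1 (hPp.to_subgroup (Subgroup.center P))
      refine exists_prime_orderOf_dvd_card' p ?_
      rw [hn]
      exact dvd_pow_self p fun h0 => by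
        have : 1 < Nat.card (Subgroup.center P) := Finite.one_lt_card
        rw [hn, h0, pow_zero] at this
        omega
    set x : G := ((w : P) : G) with hxdef
    have hx : orderOf x = p := by
      rw [hxdef, Subgroup.orderOf_coe, Subgroup.orderOf_coe]; exact hw
    have hxP : x ∈ P := (w : P).2
    have hxc : ∀ v ∈ P, x * v = v * x := fun v hv =>
      (congrArg Subtype.val (Subgroup.mem_center_iff.1 w.2 ⟨v, hv⟩)).symm
    haveI := Fintype.ofFinite (Subgroup.centralizer ({x} : Set G))
    obtain ⟨b, hind, hbd⟩ := exists_major hM hB hP hxP hxc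
    let zc : Subgroup.centralizer ({x} : Set G) := ⟨x, Subgroup.mem_centralizer_singleton_iff.2 rfl⟩
    let Q := Subgroup.zpowers zc
    have hQc : Q ≤ Subgroup.center _ := by
      rw [Subgroup.zpowers_le]
      exact Subgroup.mem_center_iff.2 fun g => Subtype.ext (Subgroup.mem_centralizer_singleton_iff.1 g.2)
    haveI : Q.Normal := ⟨fun n hn g => by
      rwa [Subgroup.mem_center_iff.1 (hQc hn) g, mul_inv_cancel_right]⟩
    have hQp : Nat.card Q = p := by
      show Nat.card (Subgroup.zpowers zc) = p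
      rw [Nat.card_zpowers, ← Subgroup.orderOf_coe]; exact hx
    have hx' : ∃ k, orderOf x = p ^ k := ⟨1, by rw [pow_one, hx]⟩
    obtain ⟨Bq, hBq, hlt, hkle⟩ := CentralQuotient.exists_quotient_block Q hQc hQp hM hind.1
    have hlk := (CentralQuotient.blockRank_le_card Q hQc hQp hM hind.1).trans hkle
    haveI := Fintype.ofFinite (Subgroup.centralizer ({x} : Set G) ⧸ Q)
    have hrec := ih (Cfsg.blockDefect p Bq) (by omega) (Subgroup.centralizer ({x} : Set G) ⧸ Q)
      M hM Bq hBq rfl
    refine ⟨fun hd2 => ?_, fun hd3 => ?_⟩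
    · rcases (show d = 1 ∨ d = 2 by omega) with rfl | rfl
      · have h1 := hrec.1 (by omega)
        rw [show Cfsg.blockDefect p Bq = 0 by omega, pow_zero] at h1
        have := card_le_of_rank_le_two hM hx' hind hbd (by omega)
        rwa [hdB] at this
      · exact card_le_sq_of_major hM hx hind hbd hdB Q hQc hQp
    · by_cases hh : ∀ χ ∈ B, Cfsg.blockHeight p B (χ : G → ℂ) = 0
      · have h1 := card_sq_le hM hx' hind hbd hh
        rw [hdB] at h1
        have h2 : Nat.card Bq ≤ p ^ (2 * d - 4) := by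
          by_cases h : Cfsg.blockDefect p Bq ≤ 2
          · exact (hrec.1 h).trans (Nat.pow_le_pow_right hp.out.pos (by omega))
          · exact (hrec.2 (by omega)).trans (Nat.pow_le_pow_right hp.out.pos (by omega))
        refine (Nat.pow_le_pow_iff_left two_ne_zero).1 (h1.trans ?_)
        refine (Nat.mul_le_mul_left _ (hlk.trans h2)).trans_eq ?_
        rw [← pow_add, ← pow_mul]
        congr 1
        omega
      · push Not at hh
        obtain ⟨ψ, hψ, hψ0⟩ := hh
        have := Contributions.two_mul_card_le hM hB hψ hψ0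
        rw [hdB] at this
        omega

end CfsgLib.BlocksLocal
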