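import Cfsg.Agent.BlocksLocal.Support
import Cfsg.Agent.Blocks.Height
import Cfsg.Agent.Blocks.HeightZero
import Cfsg.Agent.Blocks.Induced
import Cfsg.Agent.Characters.Induction
import Cfsg.Agent.Characters.Linear

/-!
# The regular form on a block

`regForm p θ ψ = (∑ g regular, θ g * ψ g⁻¹) / θ 1`.  For irreducible `θ = χ` and `ψ` it is a local
integer depending on the block of `χ` only modulo the local ideal; it is a unit when `χ` is in the
block of `ψ` and `ψ` has height zero, and lies in the local ideal when `ψ` has positive height.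
-/

set_option autoImplicit false
set_option linter.style.haveILetI false
set_option linter.unusedSectionVars false

namespace CfsgLib.BlocksLocal

open Cfsg CfsgLib.Blocks
open scoped ComplexConjugate

universe u

variable {G : Type u} [Group G] [Fintype G] {M : Ideal AlgInt} [M.IsPrime] {p : ℕ}

/-- The normalized pairing on the p-regular elements. -/
noncomputable def regForm (p : ℕ) (θ ψ : G → ℂ) : ℂ :=
  (∑ g : G, regPart p θ g * ψ g⁻¹) / θ 1

theorem regForm_eq_classInner (θ : G → ℂ) (ψ : IrrCharacter G) :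
    regForm p θ (ψ : G → ℂ) =
      (Nat.card G : ℂ) * Cfsg.classInner (regPart p θ) (ψ : G → ℂ) / θ 1 := by
  rw [regForm, Cfsg.classInner, ← mul_assoc, mul_inv_cancel₀ Characters.natCard_ne_zero, one_mul]
  refine congrArg (· / θ 1) (Finset.sum_congr rfl fun g _ => ?_)
  rw [Characters.character_inv (Characters.isCharacter_of_isIrr ψ.2)]

open Classical in
/-- A class function whose class sums lie in a subring, paired with a local class function over
the regular elements, stays in it. -/
theorem sum_regPart_mul_mem (S : ℂ → Prop) (h0 : S 0) (hadd : ∀ a b, S a → S b → S (a + b))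
    (hmul : ∀ a b, S a → Cfsg.MemLocalRing M b → S (a * b)) {D : G → ℂ}
    (hD : Cfsg.IsClassFunction G D) {ψ : G → ℂ} (hψc : Cfsg.IsClassFunction G ψ)
    (hψ : ∀ g, Cfsg.MemLocalRing M (ψ g))
    (hh : ∀ g, ¬ p ∣ orderOf g →
      S (((Subgroup.centralizer ({g} : Set G)).index : ℂ) * D g)) :
    S (∑ g : G, regPart p D g * ψ g⁻¹) := by
  haveI := Fintype.ofFinite (ConjClasses G)
  rw [← Finset.sum_fiberwise (s := (Finset.univ : Finset G)) (g := ConjClasses.mk)]
  refine Finset.sum_induction _ S hadd h0 fun C _ => ?_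
  obtain ⟨g, rfl⟩ := ConjClasses.mk_surjective C
  rw [Finset.sum_congr rfl (g := fun _ => regPart p D g * ψ g⁻¹) fun x hx => ?_, Finset.sum_const,
    nsmul_eq_mul]
  · rw [show (Finset.univ.filter fun x => ConjClasses.mk x = ConjClasses.mk g).card =
      (Subgroup.centralizer ({g} : Set G)).index by
        rw [← natCard_class g, ← Fintype.card_subtype, Nat.card_eq_fintype_card]]
    by_cases hg : p ∣ orderOf g
    · simp [regPart, hg, h0]
    · rw [regPart, if_neg hg, ← mul_assoc]
      exact hmul _ _ (hh g hg) (hψ _)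
  · obtain ⟨c, rfl⟩ := isConj_iff.1
      (ConjClasses.mk_eq_mk_iff_isConj.1 (Finset.mem_filter.1 hx).2).symm
    rw [isClassFunction_regPart hD g c, show (c * g * c⁻¹)⁻¹ = c * g⁻¹ * c⁻¹ by group, hψc]

/-- Congruent central characters on the regular elements give congruent forms. -/
theorem regForm_congr {θ θ' : G → ℂ} (hθ : Cfsg.IsClassFunction G θ)
    (hθ' : Cfsg.IsClassFunction G θ') (ψ : IrrCharacter G)
    (h : ∀ g : G, ¬ p ∣ orderOf g →
      Cfsg.MemLocalIdeal M (Cfsg.centralChar θ g - Cfsg.centralChar θ' g)) :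
    Cfsg.MemLocalIdeal M (regForm p θ (ψ : G → ℂ) - regForm p θ' (ψ : G → ℂ)) := by
  have e : regForm p θ (ψ : G → ℂ) - regForm p θ' (ψ : G → ℂ) =
      ∑ g : G, regPart p (fun g => θ g / θ 1 - θ' g / θ' 1) g * (ψ : G → ℂ) g⁻¹ := by
    simp only [regForm, Finset.sum_div, ← Finset.sum_sub_distrib, regPart]
    exact Finset.sum_congr rfl fun g _ => by split_ifs <;> ring
  rw [e]
  refine sum_regPart_mul_mem (Cfsg.MemLocalIdeal M) memLocalIdeal_zero
    (fun a b ha hb => memLocalIdeal_add ha hb) (fun a b ha hb => memLocalIdeal_mul_right ha hb)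
    (fun x c => by simp only [hθ x c, hθ' x c]) (Characters.isClassFunction_of_isIrr ψ.2)
    (memLocalRing_char ψ) fun g hg => ?_
  convert h g hg using 1
  rw [Cfsg.centralChar, Cfsg.centralChar]
  ring

theorem memLocalRing_regForm (χ ψ : IrrCharacter G) :
    Cfsg.MemLocalRing M (regForm p (χ : G → ℂ) (ψ : G → ℂ)) := by
  have e : regForm p (χ : G → ℂ) (ψ : G → ℂ) =
      ∑ g : G, regPart p (fun g => (χ : G → ℂ) g / (χ : G → ℂ) 1) g * (ψ : G → ℂ) g⁻¹ := by
    simp only [regForm, Finset.sum_div, regPart]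
    exact Finset.sum_congr rfl fun g _ => by split_ifs <;> ring
  rw [e]
  refine sum_regPart_mul_mem (Cfsg.MemLocalRing M) (Subring.zero_mem (localRing M))
    (fun a b ha hb => Subring.add_mem (localRing M) ha hb)
    (fun a b ha hb => Subring.mul_mem (localRing M) ha hb)
    (fun x c => by simp only [Characters.isClassFunction_of_isIrr χ.2 x c])
    (Characters.isClassFunction_of_isIrr ψ.2) (memLocalRing_char ψ) fun g _ => ?_
  rw [← mul_div_assoc]
  exact memLocalRing_centralChar χ g

theorem regForm_congr_sameBlock {χ χ' : IrrCharacter G}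
    (h : Cfsg.SameBlock M (χ : G → ℂ) (χ' : G → ℂ)) (ψ : IrrCharacter G) :
    Cfsg.MemLocalIdeal M
      (regForm p (χ : G → ℂ) (ψ : G → ℂ) - regForm p (χ' : G → ℂ) (ψ : G → ℂ)) :=
  regForm_congr (Characters.isClassFunction_of_isIrr χ.2)
    (Characters.isClassFunction_of_isIrr χ'.2) ψ fun g _ => h g

theorem regForm_mul_degree_comm (χ ψ : IrrCharacter G) :
    regForm p (χ : G → ℂ) (ψ : G → ℂ) * (χ : G → ℂ) 1 =
      regForm p (ψ : G → ℂ) (χ : G → ℂ) * (ψ : G → ℂ) 1 := by
  rw [regForm, regForm, div_mul_cancel₀ _ (Characters.irr_one_ne_zero χ.2),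
    div_mul_cancel₀ _ (Characters.irr_one_ne_zero ψ.2)]
  refine Fintype.sum_equiv (Equiv.inv G) _ _ fun g => ?_
  simp only [Equiv.inv_apply, regPart, orderOf_inv, inv_inv]
  split_ifs <;> ring

theorem regForm_eq_zero (hM : Cfsg.IsPModular p M) {χ ψ : IrrCharacter G}
    (h : ¬ Cfsg.SameBlock M (χ : G → ℂ) (ψ : G → ℂ)) :
    regForm p (χ : G → ℂ) (ψ : G → ℂ) = 0 := by
  rw [regForm_eq_classInner, classInner_regPart_eq_zero hM h]
  simp

variable [Fact p.Prime]

open Classical in
/-- The form of any irreducible character is a unit at some irreducible character. -/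
theorem exists_regForm_not_mem (hM : Cfsg.IsPModular p M) (χ : IrrCharacter G) :
    ∃ ψ : IrrCharacter G, ¬ Cfsg.MemLocalIdeal M (regForm p (χ : G → ℂ) (ψ : G → ℂ)) := by
  by_contra hno
  push Not at hno
  obtain ⟨P⟩ := (inferInstance : Nonempty (Sylow p G))
  haveI := Fintype.ofFinite (P : Subgroup G)
  have hexp := Characters.classFunction_expansion
    (isClassFunction_regPart (p := p) (Characters.isClassFunction_of_isIrr χ.2))
  have hsum : ∑ u : (P : Subgroup G), regPart p (χ : G → ℂ) (u : G) = (χ : G → ℂ) 1 := by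
    rw [Finset.sum_eq_single (1 : (P : Subgroup G))]
    · rw [regPart, OneMemClass.coe_one, orderOf_one, if_neg (Fact.out : p.Prime).not_dvd_one]
    · intro u _ hu
      obtain ⟨k, hk⟩ := IsPGroup.iff_orderOf.1 P.2 u
      rw [← Subgroup.orderOf_coe] at hk
      rw [regPart, if_pos]
      rw [hk]
      refine dvd_pow_self p fun h0 => hu ?_
      rw [h0, pow_zero, orderOf_eq_one_iff] at hk
      exact Subtype.ext hk
    · simp
  have hval : ∀ ψ : IrrCharacter G, ∃ n : ℕ,
      ∑ u : (P : Subgroup G), (ψ : G → ℂ) (u : G) = (Nat.card (P : Subgroup G) : ℂ) * n := fun ψ => by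
    obtain ⟨n, hn⟩ := Characters.classInner_characters
      (Characters.isCharacter_restrict (P : Subgroup G) (Characters.isCharacter_of_isIrr ψ.2))
      Characters.isCharacter_one
    refine ⟨n, ?_⟩
    rw [← hn, Cfsg.classInner, ← mul_assoc, mul_inv_cancel₀ Characters.natCard_ne_zero, one_mul]
    simp
  choose n hn using hval
  have key : (1 : ℂ) = ∑ ψ : IrrCharacter G,
      regForm p (χ : G → ℂ) (ψ : G → ℂ) * n ψ * ((P : Subgroup G).index : ℂ)⁻¹ := by
    have h1 : (χ : G → ℂ) 1 = ∑ ψ : IrrCharacter G,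
        Cfsg.classInner (regPart p (χ : G → ℂ)) (ψ : G → ℂ) *
          ((Nat.card (P : Subgroup G) : ℂ) * n ψ) := by
      rw [← hsum]
      conv_lhs => rw [hexp]
      simp only [Finset.sum_apply, Pi.smul_apply, smul_eq_mul]
      rw [Finset.sum_comm]
      exact Finset.sum_congr rfl fun ψ _ => by rw [← Finset.mul_sum, hn]
    have hi : ((P : Subgroup G).index : ℂ) ≠ 0 :=
      Nat.cast_ne_zero.2 Subgroup.index_ne_zero_of_finite
    have hP0 : (Nat.card (P : Subgroup G) : ℂ) ≠ 0 := Nat.cast_ne_zero.2 Nat.card_pos.ne'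
    calc (1 : ℂ) = (χ : G → ℂ) 1 / (χ : G → ℂ) 1 := (div_self (Characters.irr_one_ne_zero χ.2)).symm
      _ = _ := by
        conv_lhs => rw [show (χ : G → ℂ) 1 / (χ : G → ℂ) 1 =
          (∑ ψ : IrrCharacter G, Cfsg.classInner (regPart p (χ : G → ℂ)) (ψ : G → ℂ) *
            ((Nat.card (P : Subgroup G) : ℂ) * n ψ)) / (χ : G → ℂ) 1 by rw [← h1]]
        rw [Finset.sum_div]
        refine Finset.sum_congr rfl fun ψ _ => ?_
        rw [regForm_eq_classInner, ← Subgroup.card_mul_index (P : Subgroup G), Nat.cast_mul]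
        field_simp
  refine not_memLocalIdeal_one (M := M) ?_
  rw [key]
  refine memLocalIdeal_sum _ fun ψ _ => ?_
  exact memLocalIdeal_mul_right (memLocalIdeal_mul_right (hno ψ) (memLocalRing_natCast _))
    (memLocalRing_natCast_inv hM P.not_dvd_index)

theorem factorization_le_of_height_zero (hM : Cfsg.IsPModular p M) {B : Set (IrrCharacter G)}
    (hB : Cfsg.IsPBlock M B) {χ ψ : IrrCharacter G} (hχ : χ ∈ B) (hψ : ψ ∈ B)
    (h0 : Cfsg.blockHeight p B (χ : G → ℂ) = 0) :
    (Cfsg.charDegree (χ : G → ℂ)).factorization p ≤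
        (Cfsg.charDegree (ψ : G → ℂ)).factorization p ∧
      (Cfsg.blockHeight p B (ψ : G → ℂ) ≠ 0 →
        (Cfsg.charDegree (χ : G → ℂ)).factorization p <
          (Cfsg.charDegree (ψ : G → ℂ)).factorization p) := by
  obtain ⟨D, hD⟩ := exists_isDefectGroup (p := p) hB
  have h1 := blockHeight_eq hM hB hD hχ
  have h2 := blockHeight_eq hM hB hD hψ
  constructor
  · omega
  · intro h; omega

/-- At a character of positive height the form lies in the local ideal. -/
theorem regForm_mem_of_height_pos (hM : Cfsg.IsPModular p M) {B : Set (IrrCharacter G)}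
    (hB : Cfsg.IsPBlock M B) {ψ : IrrCharacter G} (hψ : ψ ∈ B)
    (h0 : Cfsg.blockHeight p B (ψ : G → ℂ) ≠ 0) (χ : IrrCharacter G) :
    Cfsg.MemLocalIdeal M (regForm p (χ : G → ℂ) (ψ : G → ℂ)) := by
  by_cases hχψ : Cfsg.SameBlock M (χ : G → ℂ) (ψ : G → ℂ)
  · obtain ⟨χ₀, hχ₀, hh⟩ := exists_height_zero hM hB
    have hsame : Cfsg.SameBlock M (χ₀ : G → ℂ) (χ : G → ℂ) := by
      refine sameBlock_trans ?_ (sameBlock_symm hχψ)
      rw [eq_blockOf_of_mem hB hχ₀] at hψ
      exact hψ
    have h1 : Cfsg.MemLocalIdeal M (regForm p (χ₀ : G → ℂ) (ψ : G → ℂ)) := by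
      have e : regForm p (χ₀ : G → ℂ) (ψ : G → ℂ) =
          ((Cfsg.charDegree (ψ : G → ℂ) : ℕ) : ℂ) * regForm p (ψ : G → ℂ) (χ₀ : G → ℂ) /
            ((Cfsg.charDegree (χ₀ : G → ℂ) : ℕ) : ℂ) := by
        rw [charDegree_cast, charDegree_cast, mul_comm, ← regForm_mul_degree_comm,
          mul_div_assoc, div_self (Characters.irr_one_ne_zero χ₀.2), mul_one]
      rw [e]
      exact memLocalIdeal_mul_div_of_lt hM (charDegree_ne_zero χ₀)
        ((factorization_le_of_height_zero hM hB hχ₀ hψ hh).2 h0) (memLocalRing_regForm ψ χ₀)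
    have := memLocalIdeal_sub h1 (regForm_congr_sameBlock (p := p) hsame ψ)
    simpa using this
  · rw [regForm_eq_zero hM hχψ]
    exact memLocalIdeal_zero

/-- At a character of height zero in the same block the form is a unit. -/
theorem regForm_not_mem_of_height_zero (hM : Cfsg.IsPModular p M) {B : Set (IrrCharacter G)}
    (hB : Cfsg.IsPBlock M B) {χ ψ : IrrCharacter G} (hχ : χ ∈ B) (hψ : ψ ∈ B)
    (h0 : Cfsg.blockHeight p B (ψ : G → ℂ) = 0) :
    ¬ Cfsg.MemLocalIdeal M (regForm p (χ : G → ℂ) (ψ : G → ℂ)) := by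
  have hsame : ∀ {a b : IrrCharacter G}, a ∈ B → b ∈ B →
      Cfsg.SameBlock M (a : G → ℂ) (b : G → ℂ) := fun ha hb => by
    rw [eq_blockOf_of_mem hB ha] at hb
    exact hb
  obtain ⟨φ, hφ⟩ := exists_regForm_not_mem hM χ
  have hφB : φ ∈ B := by
    by_contra hn
    refine hφ ?_
    rw [regForm_eq_zero hM fun h => hn ?_]
    · exact memLocalIdeal_zero
    · rw [eq_blockOf_of_mem hB hχ]; exact h
  have hφ0 : Cfsg.blockHeight p B (φ : G → ℂ) = 0 := by
    by_contra hn
    exact hφ (regForm_mem_of_height_pos hM hB hφB hn χ)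
  intro hI
  -- transport the form from `(χ, ψ)` to `(φ, ψ)`, swap, and return to `(χ, φ)`
  have h1 : Cfsg.MemLocalIdeal M (regForm p (φ : G → ℂ) (ψ : G → ℂ)) := by
    have := memLocalIdeal_sub hI (regForm_congr_sameBlock (p := p) (hsame hχ hφB) ψ)
    simpa using this
  have h2 : Cfsg.MemLocalIdeal M (regForm p (ψ : G → ℂ) (φ : G → ℂ)) := by
    have e : regForm p (ψ : G → ℂ) (φ : G → ℂ) = regForm p (φ : G → ℂ) (ψ : G → ℂ) *
        (((Cfsg.charDegree (φ : G → ℂ) : ℕ) : ℂ) / ((Cfsg.charDegree (ψ : G → ℂ) : ℕ) : ℂ)) := by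
      rw [charDegree_cast, charDegree_cast, ← mul_div_assoc, regForm_mul_degree_comm,
        mul_div_assoc, div_self (Characters.irr_one_ne_zero ψ.2), mul_one]
    rw [e]
    exact memLocalIdeal_mul_right h1 (memLocalRing_div_of_eq hM (charDegree_ne_zero ψ)
      (factorization_le_of_height_zero hM hB hψ hφB h0).1)
  refine hφ ?_
  have := memLocalIdeal_sub h2 (regForm_congr_sameBlock (p := p) (hsame hψ hχ) φ)
  simpa using this

/-- Frobenius reciprocity for the form. -/
theorem regForm_indFun (H : Subgroup G) [Fintype H] (ξ : IrrCharacter H) (χ : IrrCharacter G) :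
    regForm p (Cfsg.indFun H (ξ : H → ℂ)) (χ : G → ℂ) =
      ∑ η : IrrCharacter H, Cfsg.classInner (fun h : H => (χ : G → ℂ) h) (η : H → ℂ) *
        regForm p (ξ : H → ℂ) (η : H → ℂ) := by
  have hχ := Characters.isClassFunction_of_isIrr χ.2
  have e1 : regPart p (Cfsg.indFun H (ξ : H → ℂ)) = Cfsg.indFun H (regPart p (ξ : H → ℂ)) := by
    funext g
    simp only [regPart, Cfsg.indFun]
    split_ifs with hg
    · rw [Finset.sum_eq_zero, mul_zero]
      intro x _
      by_cases hx : x⁻¹ * g * x ∈ H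
      · rw [Characters.extendByZero_of_mem H _ hx]
        refine if_pos ?_
        rw [← Subgroup.orderOf_coe]
        show p ∣ orderOf (x⁻¹ * g * x)
        rw [show x⁻¹ * g * x = MulAut.conj x⁻¹ g by simp, MulEquiv.orderOf_eq]
        exact hg
      · exact Characters.extendByZero_of_not_mem H _ hx
    · congr 1
      refine Finset.sum_congr rfl fun x _ => ?_
      by_cases hx : x⁻¹ * g * x ∈ H
      · rw [Characters.extendByZero_of_mem H _ hx, Characters.extendByZero_of_mem H _ hx]
        refine (if_neg ?_).symm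
        rw [← Subgroup.orderOf_coe]
        show ¬ p ∣ orderOf (x⁻¹ * g * x)
        rw [show x⁻¹ * g * x = MulAut.conj x⁻¹ g by simp, MulEquiv.orderOf_eq]
        exact hg
      · rw [Characters.extendByZero_of_not_mem H _ hx, Characters.extendByZero_of_not_mem H _ hx]
  have hres := Characters.character_expansion
    (Characters.isCharacter_restrict H (Characters.isCharacter_of_isIrr χ.2))
  rw [regForm_eq_classInner, e1, Characters.classInner_indFun H _ hχ, Characters.indFun_one]
  conv_lhs => rw [hres, Characters.classInner_sum_right]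
  rw [Finset.mul_sum, Finset.sum_div]
  refine Finset.sum_congr rfl fun η _ => ?_
  obtain ⟨m, hm⟩ := Characters.classInner_character_irr
    (Characters.isCharacter_restrict H (Characters.isCharacter_of_isIrr χ.2)) η.2
  rw [regForm_eq_classInner, hm, Characters.classInner_smul_right, ← Subgroup.card_mul_index H]
  have h1 : (H.index : ℂ) ≠ 0 := Nat.cast_ne_zero.2 Subgroup.index_ne_zero_of_finite
  simp only [map_natCast, Nat.cast_mul]
  field_simp

/-- If `b` induces `B`, the form of an induced member of `b` agrees with that of any member of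
`B`. -/
theorem regForm_indFun_congr {H : Subgroup G} [Fintype H] {b : Set (IrrCharacter H)}
    {B : Set (IrrCharacter G)} (hind : Cfsg.IsInducedBlock M H b B) {ξ : IrrCharacter H}
    (hξ : ξ ∈ b) {χ' : IrrCharacter G} (hχ' : χ' ∈ B) (χ : IrrCharacter G) :
    Cfsg.MemLocalIdeal M (regForm p (Cfsg.indFun H (ξ : H → ℂ)) (χ : G → ℂ) -
      regForm p (χ' : G → ℂ) (χ : G → ℂ)) := by
  refine regForm_congr (Characters.isClassFunction_indFun H _)
    (Characters.isClassFunction_of_isIrr χ'.2) χ fun g _ => ?_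
  rw [← inducedCentralChar_eq_centralChar_indFun]
  exact hind.2.2 ξ hξ χ' hχ' g

/-- Blau's theorem on restricting characters of height zero. -/
theorem exists_height_zero_constituent (hM : Cfsg.IsPModular p M) {H : Subgroup G} [Fintype H]
    {b : Set (IrrCharacter H)} {B : Set (IrrCharacter G)}
    (hind : Cfsg.IsInducedBlock M H b B) {χ : IrrCharacter G} (hχ : χ ∈ B)
    (h0 : Cfsg.blockHeight p B (χ : G → ℂ) = 0) :
    ∃ ξ ∈ b, Cfsg.blockHeight p b (ξ : H → ℂ) = 0 ∧ ∃ n : ℕ,
      Cfsg.classInner (fun h : H => (χ : G → ℂ) h) (ξ : H → ℂ) = (n : ℂ) ∧ ¬ p ∣ n := by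
  obtain ⟨ξ, hξ, -⟩ := exists_height_zero hM hind.1
  have hu : ¬ Cfsg.MemLocalIdeal M (regForm p (Cfsg.indFun H (ξ : H → ℂ)) (χ : G → ℂ)) := fun h =>
    regForm_not_mem_of_height_zero hM hind.2.1 hχ hχ h0 (by
      have := memLocalIdeal_sub h (regForm_indFun_congr (p := p) hind hξ hχ χ)
      simpa using this)
  by_contra hno
  push Not at hno
  refine hu ?_
  rw [regForm_indFun]
  refine memLocalIdeal_sum _ fun η _ => ?_
  obtain ⟨n, hn⟩ := Characters.classInner_character_irr
    (Characters.isCharacter_restrict H (Characters.isCharacter_of_isIrr χ.2)) η.2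
  rw [hn]
  by_cases hη : η ∈ b
  · by_cases hh : Cfsg.blockHeight p b (η : H → ℂ) = 0
    · exact memLocalIdeal_mul_right ((memLocalIdeal_natCast_iff hM n).2 (hno η hη hh n hn))
        (memLocalRing_regForm ξ η)
    · exact memLocalIdeal_mul_left (memLocalRing_natCast n)
        (regForm_mem_of_height_pos hM hind.1 hη hh ξ)
  · rw [regForm_eq_zero hM fun h => hη ?_, mul_zero]
    · exact memLocalIdeal_zero
    · rw [eq_blockOf_of_mem hind.1 hξ]; exact h

end CfsgLib.BlocksLocal
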