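import Cfsg.Agent.S0963
import Cfsg.Agent.Blocks.RegularSupport

/-!
# Covering of blocks of a normal subgroup

For `N` normal in `G`, a block of `G` covers a block `b` of `N` when some of its characters has a
constituent in `b`; this happens exactly when the reduced central characters agree on the central
elements supported in `N`.
-/

set_option autoImplicit false
set_option linter.style.haveILetI false
set_option linter.unusedSectionVars false

namespace CfsgLib.BlocksLocal

open Cfsg CfsgLib.Blocks CfsgLib.OddOrderChar CfsgLib.CharactersDeep.Clifford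

universe u

section Equiv

variable {A : Type*} [Group A] {B : Type*} [Group B]

theorem index_centralizer_mulEquiv (e : A ≃* B) (a : A) :
    (Subgroup.centralizer ({a} : Set A)).index = (Subgroup.centralizer ({e a} : Set B)).index := by
  have h : Subgroup.centralizer ({a} : Set A) =
      (Subgroup.centralizer ({e a} : Set B)).comap e.toMonoidHom := by
    ext x
    simp only [Subgroup.mem_comap, MulEquiv.coe_toMonoidHom, Subgroup.mem_centralizer_singleton_iff,
      ← map_mul, EmbeddingLike.apply_eq_iff_eq]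
  rw [h]
  exact Subgroup.index_comap_of_surjective (Subgroup.centralizer ({e a} : Set B)) e.surjective

theorem centralChar_comp_mulEquiv (e : A ≃* B) (θ : B → ℂ) (a : A) :
    Cfsg.centralChar (fun x => θ (e x)) a = Cfsg.centralChar θ (e a) := by
  rw [Cfsg.centralChar, Cfsg.centralChar, index_centralizer_mulEquiv e a, map_one]

end Equiv

variable {G : Type u} [Group G] [Fintype G] (N : Subgroup G) [hN : N.Normal] [Fintype N]

/-- The conjugate of an irreducible character of a normal subgroup. -/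
noncomputable def conjIrr (θ : IrrCharacter N) (g : G) : IrrCharacter N :=
  ⟨conjBy N (θ : N → ℂ) g, isIrr_conjBy N θ.2 g⟩

theorem coe_conjIrr (θ : IrrCharacter N) (g : G) :
    (conjIrr N θ g : N → ℂ) = conjBy N (θ : N → ℂ) g := rfl

theorem conjIrr_one (θ : IrrCharacter N) : conjIrr N θ 1 = θ :=
  Subtype.ext (conjBy_one N _)

theorem conjIrr_mul (θ : IrrCharacter N) (g g' : G) :
    conjIrr N (conjIrr N θ g) g' = conjIrr N θ (g * g') :=
  Subtype.ext (conjBy_mul N _ g g')

variable {M : Ideal AlgInt}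

theorem centralChar_conjIrr (θ : IrrCharacter N) (g : G) (n : N) :
    Cfsg.centralChar (conjIrr N θ g : N → ℂ) n =
      Cfsg.centralChar (θ : N → ℂ) (MulAut.conjNormal (H := N) g n) := by
  rw [← centralChar_comp_mulEquiv (MulAut.conjNormal (H := N) g) (θ : N → ℂ) n]
  congr 1

theorem sameBlock_conjIrr {θ θ' : IrrCharacter N}
    (h : Cfsg.SameBlock M (θ : N → ℂ) (θ' : N → ℂ)) (g : G) :
    Cfsg.SameBlock M (conjIrr N θ g : N → ℂ) (conjIrr N θ' g : N → ℂ) := fun n => by
  rw [centralChar_conjIrr, centralChar_conjIrr]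
  exact h _

/-- The characters conjugate to members of `b`. -/
def coverSet (b : Set (IrrCharacter N)) : Set (IrrCharacter N) :=
  {ψ | ∃ g : G, ∃ θ ∈ b, ψ = conjIrr N θ g}

theorem subset_coverSet (b : Set (IrrCharacter N)) : b ⊆ coverSet N b :=
  fun θ hθ => ⟨1, θ, hθ, (conjIrr_one N θ).symm⟩

theorem conjIrr_mem_coverSet {b : Set (IrrCharacter N)} {ψ : IrrCharacter N}
    (h : ψ ∈ coverSet N b) (g : G) : conjIrr N ψ g ∈ coverSet N b := by
  obtain ⟨x, θ, hθ, rfl⟩ := h
  exact ⟨x * g, θ, hθ, conjIrr_mul N θ x g⟩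

theorem isBlockUnion_coverSet [M.IsPrime] {b : Set (IrrCharacter N)} (hb : Cfsg.IsPBlock M b) :
    IsBlockUnion M (coverSet N b) := by
  rintro ψ ⟨g, θ, hθ, rfl⟩ φ hφ
  have h : θ ∈ b ∧ conjIrr N φ g⁻¹ ∈ b := by
    refine ⟨hθ, ?_⟩
    rw [eq_blockOf_of_mem hb hθ, mem_blockOf]
    have h := sameBlock_conjIrr N (mem_blockOf.1 hφ) g⁻¹
    rwa [conjIrr_mul, mul_inv_cancel, conjIrr_one] at h
  exact ⟨g, _, h.2, by rw [conjIrr_mul, inv_mul_cancel, conjIrr_one]⟩

open Classical in
theorem blockCoeff_coverSet_conj (b : Set (IrrCharacter N)) (g : G) (n : N) :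
    Cfsg.blockCoeff (coverSet N b) (MulAut.conjNormal (H := N) g n) =
      Cfsg.blockCoeff (coverSet N b) n := by
  rw [blockCoeff_eq_sum, blockCoeff_eq_sum]
  congr 1
  let e : IrrCharacter N ≃ IrrCharacter N :=
    { toFun := fun θ => conjIrr N θ g
      invFun := fun θ => conjIrr N θ g⁻¹
      left_inv := fun θ => by simp [conjIrr_mul, conjIrr_one]
      right_inv := fun θ => by simp [conjIrr_mul, conjIrr_one] }
  refine Fintype.sum_equiv e _ _ fun θ => ?_
  have hmem : conjIrr N θ g ∈ coverSet N b ↔ θ ∈ coverSet N b :=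
    ⟨fun h => by simpa [conjIrr_mul, conjIrr_one] using conjIrr_mem_coverSet N h g⁻¹,
      fun h => conjIrr_mem_coverSet N h g⟩
  have h1 : ∀ x : N, (θ : N → ℂ) (MulAut.conjNormal (H := N) g x) = (conjIrr N θ g : N → ℂ) x :=
    fun x => congrArg (θ : N → ℂ) (Subtype.ext (by simp [MulAut.conjNormal_apply]))
  simp only [e, Equiv.coe_fn_mk, hmem, ← h1, map_one]

/-- Extension by zero of a central element invariant under conjugation in `G`. -/
theorem exists_ext {R : Type*} [CommRing R] (z : Ctr R N)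
    (hz : ∀ (g : G) (n : N), (z : MonoidAlgebra R N).coeff (MulAut.conjNormal (H := N) g n) =
      (z : MonoidAlgebra R N).coeff n) :
    ∃ w : Ctr R G, (∀ g : G, g ∉ N → (w : MonoidAlgebra R G).coeff g = 0) ∧ resCtr N w = z := by
  classical
  let f : G → R := fun g => if hg : g ∈ N then (z : MonoidAlgebra R N).coeff ⟨g, hg⟩ else 0
  refine ⟨⟨ofFun f, mem_ctr_iff.2 fun h g => ?_⟩, fun g hg => by simp [f, hg], ctr_ext fun n => ?_⟩
  · simp only [coeff_ofFun, f]
    by_cases hh : h ∈ N
    · rw [dif_pos (hN.conj_mem h hh g), dif_pos hh, ← hz g ⟨h, hh⟩]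
      congr 1
    · rw [dif_neg hh, dif_neg]
      intro hc
      exact hh (by simpa [mul_assoc] using hN.conj_mem _ hc g⁻¹)
  · simp [f]

variable [M.IsPrime]

/-- Agreement on the classes in `N` extends to all central elements supported in `N`. -/
theorem omegaBar_eq_of_classes (χ : IrrCharacter G) (θ : IrrCharacter N)
    (h : ∀ n : N, omegaBar M χ (classSum _ (ConjClasses.mk (n : G))) =
      omegaBar M θ (resCtr N (classSum _ (ConjClasses.mk (n : G)))))
    (z : Ctr (Res M) G) (hz : ∀ g : G, g ∉ N → (z : MonoidAlgebra (Res M) G).coeff g = 0) :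
    omegaBar M χ z = omegaBar M θ (resCtr N z) := by
  classical
  haveI := Fintype.ofFinite (ConjClasses G)
  rw [eq_sum_classSum z, map_sum, map_sum, map_sum]
  refine Finset.sum_congr rfl fun C _ => ?_
  obtain ⟨g, rfl⟩ := ConjClasses.mk_surjective C
  rw [omegaBar_resCtr_scalar_mul, map_mul, omegaBar_scalar, classCoeff_mk]
  by_cases hg : g ∈ N
  · rw [h ⟨g, hg⟩]
  · rw [hz g hg, zero_mul, zero_mul]

theorem omegaBar_classSum_eq_of_covers {χ : IrrCharacter G} {θ : IrrCharacter N}
    (hcov : Cfsg.classInner (fun n : N => (χ : G → ℂ) n) (θ : N → ℂ) ≠ 0) (n : N) :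
    omegaBar M χ (classSum _ (ConjClasses.mk (n : G))) =
      omegaBar M θ (resCtr N (classSum _ (ConjClasses.mk (n : G)))) := by
  rw [omegaBar_classSum, omegaBar_resCtr_classSum]
  congr 1
  exact Subtype.ext ((Cfsg.Agent.S0963.result N χ θ).1 hcov n)

/-- A covering character agrees with its constituent on central elements supported in `N`. -/
theorem omegaBar_eq_of_covers {χ : IrrCharacter G} {θ : IrrCharacter N}
    (hcov : Cfsg.classInner (fun n : N => (χ : G → ℂ) n) (θ : N → ℂ) ≠ 0)
    (z : Ctr (Res M) G) (hz : ∀ g : G, g ∉ N → (z : MonoidAlgebra (Res M) G).coeff g = 0) :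
    omegaBar M χ z = omegaBar M θ (resCtr N z) :=
  omegaBar_eq_of_classes N χ θ (omegaBar_classSum_eq_of_covers N hcov) z hz

theorem exists_constituent (χ : IrrCharacter G) :
    ∃ ψ : IrrCharacter N, Cfsg.classInner (fun n : N => (χ : G → ℂ) n) (ψ : N → ℂ) ≠ 0 := by
  by_contra hno
  push Not at hno
  have hcf : Cfsg.IsClassFunction N (fun n : N => (χ : G → ℂ) n) := fun x y => by
    simpa using Characters.isClassFunction_of_isIrr χ.2 (x : G) (y : G)
  have h0 := congrFun (Characters.classFunction_eq_zero hcf fun ψ => hno ψ) 1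
  exact Characters.irr_one_ne_zero χ.2 h0

open Classical in
/-- If the central characters agree on `N` modulo `M`, every constituent lies in a conjugate of
the block. -/
theorem mem_coverSet_of_classes {b : Set (IrrCharacter N)} (hb : Cfsg.IsPBlock M b)
    {χ : IrrCharacter G} {θ : IrrCharacter N} (hθ : θ ∈ b)
    (h : ∀ n : N, omegaBar M χ (classSum _ (ConjClasses.mk (n : G))) =
      omegaBar M θ (resCtr N (classSum _ (ConjClasses.mk (n : G)))))
    {ψ : IrrCharacter N}
    (hψ : Cfsg.classInner (fun n : N => (χ : G → ℂ) n) (ψ : N → ℂ) ≠ 0) :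
    ψ ∈ coverSet N b := by
  have hA := isBlockUnion_coverSet N (M := M) hb
  obtain ⟨w, hw, hres⟩ := exists_ext N (idemBar M (coverSet N b) hA) fun g n => by
    rw [coeff_idemBar, coeff_idemBar]
    congr 1
    exact Subtype.ext (blockCoeff_coverSet_conj N b g n)
  have h1 := omegaBar_eq_of_classes N χ θ h w hw
  rw [omegaBar_eq_of_covers N hψ w hw, hres, omegaBar_idemBar, omegaBar_idemBar,
    if_pos (subset_coverSet N b hθ)] at h1
  by_contra hn
  rw [if_neg hn] at h1
  exact zero_ne_one h1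

/-- Covering gives agreement for all members of the two blocks. -/
theorem omegaBar_classSum_eq_of_block_covers {B : Set (IrrCharacter G)} (hB : Cfsg.IsPBlock M B)
    {b : Set (IrrCharacter N)} (hb : Cfsg.IsPBlock M b) {χ : IrrCharacter G} (hχ : χ ∈ B)
    {θ : IrrCharacter N} (hθ : θ ∈ b)
    (hcov : Cfsg.classInner (fun n : N => (χ : G → ℂ) n) (θ : N → ℂ) ≠ 0)
    {χ' : IrrCharacter G} (hχ' : χ' ∈ B) {θ' : IrrCharacter N} (hθ' : θ' ∈ b) (n : N) :
    omegaBar M χ' (classSum _ (ConjClasses.mk (n : G))) =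
      omegaBar M θ' (resCtr N (classSum _ (ConjClasses.mk (n : G)))) := by
  rw [eq_blockOf_of_mem hB hχ, mem_blockOf] at hχ'
  rw [eq_blockOf_of_mem hb hθ, mem_blockOf] at hθ'
  rw [← (sameBlock_iff χ χ').1 hχ', ← (sameBlock_iff θ θ').1 hθ']
  exact omegaBar_classSum_eq_of_covers N hcov n

/-- Constituents of members of a covering block are conjugate into the covered block. -/
theorem mem_coverSet_of_covers {B : Set (IrrCharacter G)} (hB : Cfsg.IsPBlock M B)
    {b : Set (IrrCharacter N)} (hb : Cfsg.IsPBlock M b) {χ : IrrCharacter G} (hχ : χ ∈ B)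
    {θ : IrrCharacter N} (hθ : θ ∈ b)
    (hcov : Cfsg.classInner (fun n : N => (χ : G → ℂ) n) (θ : N → ℂ) ≠ 0)
    {χ' : IrrCharacter G} (hχ' : χ' ∈ B) {ψ : IrrCharacter N}
    (hψ : Cfsg.classInner (fun n : N => (χ' : G → ℂ) n) (ψ : N → ℂ) ≠ 0) :
    ψ ∈ coverSet N b :=
  mem_coverSet_of_classes N hb hθ
    (omegaBar_classSum_eq_of_block_covers N hB hb hχ hθ hcov hχ' hθ) hψ

theorem mem_of_regular_of_pow_index {p : ℕ} [Fact p.Prime] (hidx : ∃ k : ℕ, N.index = p ^ k)
    {g : G} (hg : ¬ p ∣ orderOf g) : g ∈ N := by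
  obtain ⟨k, hk⟩ := hidx
  rw [← QuotientGroup.eq_one_iff, ← orderOf_eq_one_iff]
  refine Nat.Coprime.eq_one_of_dvd (?_ : (orderOf (g : G ⧸ N)).Coprime N.index) ?_
  · rw [hk]
    refine Nat.Coprime.pow_right _ (Nat.Coprime.symm ?_)
    rw [(Fact.out : p.Prime).coprime_iff_not_dvd]
    exact fun hd => hg (hd.trans (orderOf_map_dvd (QuotientGroup.mk' N) g))
  · rw [Subgroup.index_eq_card]
    exact orderOf_dvd_natCard _

/-- For a normal subgroup of p-power index, the covering block is unique. -/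
theorem eq_of_covers_of_pow_index {p : ℕ} [Fact p.Prime] (hM : Cfsg.IsPModular p M)
    (hidx : ∃ k : ℕ, N.index = p ^ k) {B B' : Set (IrrCharacter G)} (hB : Cfsg.IsPBlock M B)
    (hB' : Cfsg.IsPBlock M B') {b : Set (IrrCharacter N)} (hb : Cfsg.IsPBlock M b)
    {χ χ' : IrrCharacter G} (hχ : χ ∈ B) (hχ' : χ' ∈ B') {θ θ' : IrrCharacter N} (hθ : θ ∈ b)
    (hθ' : θ' ∈ b) (hcov : Cfsg.classInner (fun n : N => (χ : G → ℂ) n) (θ : N → ℂ) ≠ 0)
    (hcov' : Cfsg.classInner (fun n : N => (χ' : G → ℂ) n) (θ' : N → ℂ) ≠ 0) : B' = B := by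
  classical
  refine isPBlock_eq_of_mem hB' hB hχ' ?_
  have hz : ∀ g : G, g ∉ N →
      (idemBar M B (isBlockUnion_of_isPBlock hB) : MonoidAlgebra (Res M) G).coeff g = 0 := by
    intro g hg
    rw [coeff_idemBar]
    refine red_eq_zero_iff.2 ?_
    show Cfsg.MemLocalIdeal M (Cfsg.blockCoeff B g)
    rw [Blocks.blockCoeff_eq_zero_of_singular hM (isBlockUnion_of_isPBlock hB)]
    · exact memLocalIdeal_zero
    · by_contra h
      exact hg (mem_of_regular_of_pow_index N hidx h)
  have h1 := omegaBar_eq_of_covers N hcov _ hz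
  have h2 := omegaBar_eq_of_covers N hcov' _ hz
  rw [eq_blockOf_of_mem hb hθ, mem_blockOf] at hθ'
  rw [← (sameBlock_iff θ θ').1 hθ', ← h1, omegaBar_idemBar, omegaBar_idemBar, if_pos hχ] at h2
  by_contra hn
  rw [if_neg hn] at h2
  exact zero_ne_one h2

end CfsgLib.BlocksLocal
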