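import Cfsg.Agent.BlocksLocal.Covering
import Cfsg.Agent.Blocks.FirstMain
import Cfsg.Agent.BlockPairs.Transport

/-!
# Blocks of `P C(P)` inducing a block with defect group `P`

`omegaBar_irrComp` moves reduced central characters along an isomorphism; `exists_sub_block` and
`exists_normalizer_conj_of_induced` give existence and conjugacy under the normalizer.
-/

set_option autoImplicit false
set_option linter.style.haveILetI false
set_option linter.unusedSectionVars false

namespace CfsgLib.BlocksLocal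

open Cfsg CfsgLib.Blocks

universe u v

section Equiv

variable {A : Type u} [Group A] [Fintype A] {B : Type v} [Group B] [Fintype B]
  {M : Ideal AlgInt} [M.IsPrime]

theorem omegaBar_irrComp (e : A ≃* B) (ξ : IrrCharacter B) (z : Ctr (Res M) B)
    (z' : Ctr (Res M) A)
    (hz : ∀ x : A, (z' : MonoidAlgebra (Res M) A).coeff x =
      (z : MonoidAlgebra (Res M) B).coeff (e x)) :
    omegaBar M (BlockPairs.irrComp e ξ) z' = omegaBar M ξ z := by
  obtain ⟨a, rfl⟩ := redCtr_surjective z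
  let a' : Ctr (localRing M) A :=
    ⟨ofFun fun x => (a : MonoidAlgebra (localRing M) B).coeff (e x), mem_ctr_iff.2 fun x c => by
      simp only [coeff_ofFun, map_mul, map_inv, coeff_conj_of_mem_ctr a.2]⟩
  have h' : z' = redCtr M a' := ctr_ext fun x => by
    rw [hz]
    simp [redCtr, a']
  rw [h', omegaBar_redCtr, omegaBar_redCtr]
  congr 1
  refine Subtype.ext ?_
  rw [coe_omegaO, coe_omegaO, omega_apply, omega_apply, BlockPairs.irrComp_apply, map_one]
  congr 1
  refine Fintype.sum_equiv e.toEquiv _ _ fun x => ?_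
  simp [toC, a', BlockPairs.irrComp_apply]

theorem sameBlock_irrComp (e : A ≃* B) {ξ η : IrrCharacter B}
    (h : Cfsg.SameBlock M (ξ : B → ℂ) (η : B → ℂ)) :
    Cfsg.SameBlock M (BlockPairs.irrComp e ξ : A → ℂ) (BlockPairs.irrComp e η : A → ℂ) := fun a => by
  show Cfsg.MemLocalIdeal M (Cfsg.centralChar (fun x => (ξ : B → ℂ) (e x)) a -
    Cfsg.centralChar (fun x => (η : B → ℂ) (e x)) a)
  rw [centralChar_comp_mulEquiv, centralChar_comp_mulEquiv]
  exact h (e a)

end Equiv

variable {G : Type u} [Group G] [Fintype G] {M : Ideal AlgInt} [M.IsPrime] {p : ℕ} [Fact p.Prime]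
  {P L : Subgroup G}

/-- A block of `L` inducing `B`, with defect group `P`. -/
theorem exists_sub_block (hM : Cfsg.IsPModular p M) {B : Set (IrrCharacter G)}
    (hB : Cfsg.IsPBlock M B) (hBD : Cfsg.IsDefectGroup p M B P) [Fintype L] (hPL : P ≤ L)
    (hCL : Subgroup.centralizer (P : Set G) ≤ L) (hLN : L ≤ Subgroup.normalizer (P : Set G)) :
    ∃ b : Set (IrrCharacter L),
      Cfsg.IsDefectGroup p M b (P.subgroupOf L) ∧ Cfsg.IsInducedBlock M L b B := by
  classical
  haveI := charP_res hM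
  have hP := IsDefectGroup.isPGroup hBD
  obtain ⟨g, hg, hne⟩ := IsDefectGroup.exists_coeff hB hBD
  set e := brHom (p := p) P L hP hCL hLN (idemBar M B (isBlockUnion_of_isPBlock hB)) with he
  have he1 : e ≠ 0 := by
    intro h0
    refine hne ?_
    rw [← coeff_brRes_of_mem hLN _ (h := ⟨g, hCL hg⟩) hg, ← brHom_apply P L hP hCL hLN, ← he, h0]
    simp
  obtain ⟨ξ, hξ⟩ : ∃ ξ : IrrCharacter L, omegaBar M ξ e ≠ 0 := by
    by_contra hall
    push Not at hall
    refine he1 (IsIdempotentElem.eq_zero_of_isNilpotent ?_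
      (isNilpotent_of_omegaBar_eq_zero e hall))
    rw [IsIdempotentElem, he, ← map_mul, idemBar_mul_self]
  obtain ⟨B', hB'⟩ := inducedBlockDefined_of_local hM hP hPL hCL hLN (isPBlock_blockOf ξ)
  obtain ⟨χ, hχ⟩ := isPBlock_nonempty hB'.2.1
  have h1 := (isInducedBlock_iff L hB'.1 hB'.2.1 (mem_blockOf_self ξ) hχ).1 hB'
    (idemBar M B (isBlockUnion_of_isPBlock hB))
  rw [omegaBar_resCtr_eq_brRes hM hP hPL hLN, ← brHom_apply P L hP hCL hLN, ← he,
    omegaBar_idemBar] at h1
  have hind : Cfsg.IsInducedBlock M L (Cfsg.blockOf M (ξ : L → ℂ)) B := by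
    by_cases hB2 : χ ∈ B
    · exact isPBlock_eq_of_mem hB'.2.1 hB hχ hB2 ▸ hB'
    · rw [if_neg hB2] at h1
      exact absurd h1 hξ
  refine ⟨_, ?_, hind⟩
  obtain ⟨R, hR⟩ := exists_isDefectGroup (p := p) hind.1
  haveI : (P.subgroupOf L).Normal := (Subgroup.normal_subgroupOf_iff_le_normalizer hPL).2 hLN
  have h2 := IsDefectGroup.le_of_normal hM hind.1 hR (P.subgroupOf L) hP.comap_subtype
  obtain ⟨E, hE, hle⟩ := IsDefectGroup.exists_le_of_induced hM hind hR
  obtain ⟨x, rfl⟩ := IsDefectGroup.exists_conj hM hB hBD hE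
  suffices P.subgroupOf L = R by rwa [this]
  refine Subgroup.eq_of_le_of_card_ge h2 ?_
  rw [Nat.card_congr (Subgroup.subgroupOfEquivOfLe hPL).toEquiv,
    ← Subgroup.card_map_of_injective (f := L.subtype) L.subtype_injective]
  exact (Subgroup.card_le_of_le hle).trans_eq (BlockPairs.card_cj x P)

/-- The blocks of `L` inducing a block with defect group `P` are conjugate under `N(P)`. -/
theorem exists_normalizer_conj_of_induced (hM : Cfsg.IsPModular p M) {B : Set (IrrCharacter G)}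
    (hBD : Cfsg.IsDefectGroup p M B P) [Fintype L] (hPL : P ≤ L)
    (hCL : Subgroup.centralizer (P : Set G) ≤ L) (hLN : L ≤ Subgroup.normalizer (P : Set G))
    [hLn : (L.subgroupOf (Subgroup.normalizer (P : Set G))).Normal]
    {b b' : Set (IrrCharacter L)} (hb : Cfsg.IsInducedBlock M L b B)
    (hb' : Cfsg.IsInducedBlock M L b' B) :
    ∃ n ∈ Subgroup.normalizer (P : Set G), ∀ θ ∈ b, ∃ θ' ∈ b', ∀ x : L,
      ∀ hx : n * (x : G) * n⁻¹ ∈ L,
        (θ' : L → ℂ) x = (θ : L → ℂ) ⟨n * (x : G) * n⁻¹, hx⟩ := by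
  classical
  haveI := charP_res hM
  have hP := IsDefectGroup.isPGroup hBD
  haveI := Fintype.ofFinite (Subgroup.normalizer (P : Set G))
  haveI := Fintype.ofFinite (L.subgroupOf (Subgroup.normalizer (P : Set G)))
  set e := Subgroup.subgroupOfEquivOfLe hLN
  have hPn := subgroupOf_normal P
  have hP' : IsPGroup p (P.subgroupOf (Subgroup.normalizer (P : Set G))) := hP.comap_subtype
  have hPL' : P.subgroupOf (Subgroup.normalizer (P : Set G)) ≤
      L.subgroupOf (Subgroup.normalizer (P : Set G)) := fun u hu => hPL hu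
  have hCL' : Subgroup.centralizer
      ((P.subgroupOf (Subgroup.normalizer (P : Set G)) : Subgroup _) : Set _) ≤
        L.subgroupOf (Subgroup.normalizer (P : Set G)) := fun u hu =>
    hCL ((mem_centralizer_subgroupOf_iff Subgroup.le_normalizer u).1 hu)
  have hLN' : L.subgroupOf (Subgroup.normalizer (P : Set G)) ≤ Subgroup.normalizer
      ((P.subgroupOf (Subgroup.normalizer (P : Set G)) : Subgroup _) : Set _) := by
    haveI := hPn
    exact le_top.trans (Subgroup.normalizer_eq_top (P.subgroupOf (Subgroup.normalizer (P : Set G)))).ge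
  -- every block of `L` inducing `B` gives a block of the normalizer inducing `B`
  have key : ∀ (c : Set (IrrCharacter L)), Cfsg.IsInducedBlock M L c B → ∀ ξ ∈ c,
      ∃ β, Cfsg.IsInducedBlock M (Subgroup.normalizer (P : Set G)) β B ∧
        Cfsg.IsInducedBlock M (L.subgroupOf (Subgroup.normalizer (P : Set G)))
          (Cfsg.blockOf M (BlockPairs.irrComp e ξ : _ → ℂ)) β := by
    intro c hc ξ hξ
    obtain ⟨β, hβ⟩ := inducedBlockDefined_of_local hM hP' hPL' hCL' hLN'
      (isPBlock_blockOf (BlockPairs.irrComp e ξ))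
    obtain ⟨η, hη⟩ := isPBlock_nonempty hβ.2.1
    obtain ⟨χ, hχ⟩ := isPBlock_nonempty hc.2.1
    refine ⟨β, (isInducedBlock_iff _ hβ.2.1 hc.2.1 hη hχ).2 fun a => ?_, hβ⟩
    rw [omegaBar_resCtr_eq_brRes hM hP Subgroup.le_normalizer le_rfl,
      ← (isInducedBlock_iff _ hβ.1 hβ.2.1 (mem_blockOf_self _) hη).1 hβ,
      ← (isInducedBlock_iff _ hc.1 hc.2.1 hξ hχ).1 hc,
      omegaBar_resCtr_eq_brRes hM hP hPL hLN]
    refine omegaBar_irrComp e ξ _ _ fun x => ?_
    rw [coeff_resCtr]
    by_cases hx : ((x : Subgroup.normalizer (P : Set G)) : G) ∈ Subgroup.centralizer (P : Set G)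
    · rw [coeff_brRes_of_mem le_rfl _ hx, coeff_brRes_of_mem hLN _ (h := e x) hx]
      rfl
    · rw [coeff_brRes_of_notMem le_rfl _ hx, coeff_brRes_of_notMem hLN _ (h := e x) hx]
  obtain ⟨ξ, hξ⟩ := isPBlock_nonempty hb.1
  obtain ⟨ξ', hξ'⟩ := isPBlock_nonempty hb'.1
  obtain ⟨β, hβB, hβ⟩ := key b hb ξ hξ
  obtain ⟨β', hβB', hβ'⟩ := key b' hb' ξ' hξ'
  have heq : β = β' := local_block_unique hM hP hβB hβB' (defect_local_of_induced hM hP hβB hBD)
  subst heq
  obtain ⟨η, hη⟩ := isPBlock_nonempty hβ.2.1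
  obtain ⟨ψ, hψ⟩ := exists_constituent (L.subgroupOf (Subgroup.normalizer (P : Set G))) η
  have h1 := mem_coverSet_of_classes (M := M) (L.subgroupOf (Subgroup.normalizer (P : Set G)))
    hβ.1 (mem_blockOf_self (BlockPairs.irrComp e ξ))
    (fun n => ((isInducedBlock_iff _ hβ.1 hβ.2.1 (mem_blockOf_self _) hη).1 hβ _).symm) hψ
  have h2 := mem_coverSet_of_classes (M := M) (L.subgroupOf (Subgroup.normalizer (P : Set G)))
    hβ'.1 (mem_blockOf_self (BlockPairs.irrComp e ξ'))
    (fun n => ((isInducedBlock_iff _ hβ'.1 hβ'.2.1 (mem_blockOf_self _) hη).1 hβ' _).symm) hψ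
  obtain ⟨g, θ₁, hθ₁, e1⟩ := h1
  obtain ⟨g', θ₁', hθ₁', e2⟩ := h2
  have hconj : conjIrr (L.subgroupOf (Subgroup.normalizer (P : Set G))) θ₁ (g * g'⁻¹) = θ₁' := by
    rw [← conjIrr_mul, ← e1, e2, conjIrr_mul, mul_inv_cancel, conjIrr_one]
  refine ⟨((g * g'⁻¹ : Subgroup.normalizer (P : Set G)) : G), SetLike.coe_mem _, fun θ hθ => ?_⟩
  set ψ' := conjIrr (L.subgroupOf (Subgroup.normalizer (P : Set G)))
    (BlockPairs.irrComp e θ) (g * g'⁻¹) with hψ'
  refine ⟨BlockPairs.irrComp e.symm ψ', ?_, fun x hx => ?_⟩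
  · rw [eq_blockOf_of_mem hb'.1 hξ', mem_blockOf]
    have hs : Cfsg.SameBlock M (BlockPairs.irrComp e ξ' : L.subgroupOf (Subgroup.normalizer (P : Set G)) → ℂ)
        (ψ' : L.subgroupOf (Subgroup.normalizer (P : Set G)) → ℂ) := by
      refine sameBlock_trans (mem_blockOf.1 hθ₁') ?_
      rw [← hconj, hψ']
      refine sameBlock_conjIrr _ (sameBlock_trans (sameBlock_symm (mem_blockOf.1 hθ₁)) ?_) _
      rw [eq_blockOf_of_mem hb.1 hξ] at hθ
      exact sameBlock_irrComp e hθ
    have := sameBlock_irrComp e.symm hs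
    rwa [show BlockPairs.irrComp e.symm (BlockPairs.irrComp e ξ') = ξ' from
      Subtype.ext (funext fun y => by simp [BlockPairs.irrComp_apply])] at this
  · show (θ : L → ℂ) (e _) = _
    exact congrArg (θ : L → ℂ) (Subtype.ext rfl)

end CfsgLib.BlocksLocal
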