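import Cfsg.Agent.Blocks.Idempotent
import Cfsg.Agent.Characters.Linear

/-!
# Averaging over a normal subgroup, inflation and blocks

* `eq_degree_of_sum_ne_zero`: an irreducible character whose values on a normal subgroup do not
  sum to zero is constant there;
* `eq_degree_of_sameBlock`: triviality on a normal `p'`-subgroup is a block invariant;
* `infl`: inflation; `sameBlock_infl`: it preserves blocks; `sameBlock_of_infl_prime`: over a
  normal `p'`-subgroup it reflects them.
-/

set_option autoImplicit false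
set_option linter.unusedSectionVars false

namespace CfsgLib.BlocksLocal

open Cfsg CfsgLib.Blocks
open scoped ComplexConjugate

universe u

variable {G : Type u} [Group G]

/-- The inflation of an irreducible character of a quotient. -/
noncomputable def infl (N : Subgroup G) [N.Normal] (χ : IrrCharacter (G ⧸ N)) : IrrCharacter G :=
  ⟨(χ : G ⧸ N → ℂ) ∘ QuotientGroup.mk,
    Characters.isIrr_comp (QuotientGroup.mk' N) (QuotientGroup.mk'_surjective N) χ.2⟩

theorem infl_apply (N : Subgroup G) [N.Normal] (χ : IrrCharacter (G ⧸ N)) (g : G) :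
    (infl N χ : G → ℂ) g = (χ : G ⧸ N → ℂ) g := rfl

variable [Fintype G]

open Classical in
/-- The indicator of a normal subgroup, a central element. -/
noncomputable def normalInd (R : Type*) [CommRing R] (N : Subgroup G) [hN : N.Normal] : Ctr R G :=
  ⟨ofFun fun g => if g ∈ N then 1 else 0, mem_ctr_iff.2 fun g h => by
    simp only [coeff_ofFun]
    have h1 : h * g * h⁻¹ ∈ N ↔ g ∈ N :=
      ⟨fun hh => by simpa [mul_assoc] using hN.conj_mem _ hh h⁻¹, fun hg => hN.conj_mem g hg h⟩
    simp only [h1]⟩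

open Classical in
theorem omega_normalInd (χ : IrrCharacter G) (N : Subgroup G) [N.Normal] :
    omega χ (normalInd ℂ N) =
      (∑ g : G, if g ∈ N then (χ : G → ℂ) g else 0) / (χ : G → ℂ) 1 := by
  rw [omega_apply]
  congr 1
  refine Finset.sum_congr rfl fun g _ => ?_
  simp [normalInd]

theorem normalInd_mul_self (N : Subgroup G) [N.Normal] :
    normalInd ℂ N * normalInd ℂ N = (Nat.card N : Ctr ℂ G) * normalInd ℂ N := by
  classical
  refine ctr_ext fun g => ?_
  have hr : (((Nat.card N : Ctr ℂ G) * normalInd ℂ N : Ctr ℂ G) : MonoidAlgebra ℂ G).coeff g =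
      (Nat.card N : ℂ) * (normalInd ℂ N : MonoidAlgebra ℂ G).coeff g := by
    rw [← nsmul_eq_mul, AddSubmonoidClass.coe_nsmul, MonoidAlgebra.coeff_smul_apply, nsmul_eq_mul]
  rw [hr, Subring.coe_mul, coeff_mul_eq_sum]
  simp only [normalInd, coeff_ofFun]
  split_ifs with hg
  · rw [mul_one, Nat.card_eq_fintype_card, Fintype.card_subtype, Finset.card_filter, Nat.cast_sum]
    refine Finset.sum_congr rfl fun x _ => ?_
    by_cases hx : x ∈ N
    · have : x⁻¹ * g ∈ N := N.mul_mem (N.inv_mem hx) hg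
      simp [hx, this]
    · simp [hx]
  · rw [mul_zero]
    refine Finset.sum_eq_zero fun x _ => ?_
    by_cases hx : x ∈ N
    · have : x⁻¹ * g ∉ N := fun h => hg (by simpa using N.mul_mem hx h)
      simp [this]
    · simp [hx]

theorem omega_normalInd_dichotomy (χ : IrrCharacter G) (N : Subgroup G) [N.Normal] :
    omega χ (normalInd ℂ N) = 0 ∨ omega χ (normalInd ℂ N) = (Nat.card N : ℂ) := by
  have h := congrArg (omega χ) (normalInd_mul_self N)
  rw [map_mul, map_mul, map_natCast] at h
  rcases eq_or_ne (omega χ (normalInd ℂ N)) 0 with h0 | h0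
  · exact Or.inl h0
  · exact Or.inr (mul_right_cancel₀ h0 h)

theorem char_re_le (χ : IrrCharacter G) (g : G) :
    ((χ : G → ℂ) g).re ≤ ((χ : G → ℂ) 1).re ∧
      (((χ : G → ℂ) g).re = ((χ : G → ℂ) 1).re → (χ : G → ℂ) g = (χ : G → ℂ) 1) := by
  obtain ⟨n, ρ, hρ, hχ⟩ := χ.2
  have hn := Characters.norm_char_le ρ g
  rw [← hχ]
  have h1 : (ρ.character 1) = (Module.finrank ℂ (Fin n → ℂ) : ℂ) := Representation.char_one ρ
  rw [h1, Complex.natCast_re]
  refine ⟨(Complex.re_le_norm _).trans hn, fun he => ?_⟩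
  have hnorm : ‖ρ.character g‖ = (Module.finrank ℂ (Fin n → ℂ) : ℝ) :=
    le_antisymm hn (he ▸ Complex.re_le_norm _)
  have him : (ρ.character g).im = 0 := by
    have h2 := Complex.normSq_eq_norm_sq (ρ.character g)
    rw [hnorm, Complex.normSq_apply, he, sq, add_eq_left, mul_self_eq_zero] at h2
    exact h2
  exact Complex.ext (by rw [he, Complex.natCast_re]) (by rw [him, Complex.natCast_im])

/-- An irreducible character whose sum over a normal subgroup is nonzero is constant on it. -/
theorem eq_degree_of_omega_normalInd (χ : IrrCharacter G) (N : Subgroup G) [N.Normal]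
    (h : omega χ (normalInd ℂ N) ≠ 0) {n : G} (hn : n ∈ N) :
    (χ : G → ℂ) n = (χ : G → ℂ) 1 := by
  classical
  have h1 := (omega_normalInd_dichotomy χ N).resolve_left h
  rw [omega_normalInd, div_eq_iff (Characters.irr_one_ne_zero χ.2)] at h1
  have hsum : ∑ g : G, (if g ∈ N then ((χ : G → ℂ) 1).re - ((χ : G → ℂ) g).re else 0) = 0 := by
    have h2 := congrArg Complex.re h1
    rw [Complex.re_sum, Complex.mul_re, Complex.natCast_re, Complex.natCast_im, zero_mul,
      sub_zero] at h2
    have h3 : ∀ g : G, (if g ∈ N then ((χ : G → ℂ) 1).re - ((χ : G → ℂ) g).re else 0) =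
        (if g ∈ N then ((χ : G → ℂ) 1).re else 0) -
          (if g ∈ N then (χ : G → ℂ) g else 0).re := by
      intro g
      split_ifs <;> simp
    rw [Finset.sum_congr rfl fun g _ => h3 g, Finset.sum_sub_distrib, h2, ← Finset.sum_filter,
      Finset.sum_const, nsmul_eq_mul, Nat.card_eq_fintype_card, Fintype.card_subtype, sub_self]
  have h4 := (Finset.sum_eq_zero_iff_of_nonneg (fun g _ => ?_)).1 hsum n (Finset.mem_univ n)
  · rw [if_pos hn, sub_eq_zero] at h4
    exact (char_re_le χ n).2 h4.symm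
  · split_ifs
    · exact sub_nonneg.2 (char_re_le χ g).1
    · exact le_rfl

theorem omega_normalInd_eq_card (χ : IrrCharacter G) (N : Subgroup G) [N.Normal]
    (h : ∀ n ∈ N, (χ : G → ℂ) n = (χ : G → ℂ) 1) :
    omega χ (normalInd ℂ N) = (Nat.card N : ℂ) := by
  classical
  rw [omega_normalInd, div_eq_iff (Characters.irr_one_ne_zero χ.2),
    Finset.sum_congr rfl (g := fun g => if g ∈ N then (χ : G → ℂ) 1 else 0) fun g _ => ?_,
    ← Finset.sum_filter, Finset.sum_const, nsmul_eq_mul, Nat.card_eq_fintype_card,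
    Fintype.card_subtype]
  split_ifs with hg
  · exact h g hg
  · rfl

/-- Triviality on a normal `p'`-subgroup is a block invariant. -/
theorem eq_degree_of_sameBlock {M : Ideal AlgInt} [M.IsPrime] {p : ℕ}
    (hM : Cfsg.IsPModular p M) (N : Subgroup G) [N.Normal] (hN : ¬ p ∣ Nat.card N)
    {χ ψ : IrrCharacter G} (hb : Cfsg.SameBlock M (χ : G → ℂ) (ψ : G → ℂ))
    (h : ∀ n ∈ N, (χ : G → ℂ) n = (χ : G → ℂ) 1) {n : G} (hn : n ∈ N) :
    (ψ : G → ℂ) n = (ψ : G → ℂ) 1 := by
  have hz : toC M (normalInd (localRing M) N) = normalInd ℂ N := ctr_ext fun g => by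
    classical
    simp [toC, normalInd]
  have hv : ∀ φ : IrrCharacter G,
      (omegaO M φ (normalInd (localRing M) N) : ℂ) = omega φ (normalInd ℂ N) := fun φ => by
    rw [coe_omegaO, hz]
  refine eq_degree_of_omega_normalInd ψ N (fun h0 => ?_) hn
  have h1 := DFunLike.congr_fun ((sameBlock_iff χ ψ).1 hb) (redCtr M (normalInd (localRing M) N))
  rw [omegaBar_redCtr, omegaBar_redCtr, red_eq_red_iff, hv, hv, h0,
    omega_normalInd_eq_card χ N h, sub_zero, memLocalIdeal_natCast_iff hM] at h1
  exact hN h1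

theorem index_centralizer_mk_dvd (N : Subgroup G) [N.Normal] (g : G) :
    (Subgroup.centralizer ({(g : G ⧸ N)} : Set (G ⧸ N))).index ∣
      (Subgroup.centralizer ({g} : Set G)).index := by
  rw [← Subgroup.index_comap_of_surjective _ (QuotientGroup.mk'_surjective N)]
  refine Subgroup.index_dvd_of_le fun x hx => ?_
  rw [Subgroup.mem_comap, Subgroup.mem_centralizer_singleton_iff, QuotientGroup.mk'_apply,
    ← QuotientGroup.mk_mul, ← QuotientGroup.mk_mul, Subgroup.mem_centralizer_singleton_iff.1 hx]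

theorem centralChar_infl (N : Subgroup G) [N.Normal] (χ : IrrCharacter (G ⧸ N)) (g : G) :
    Cfsg.centralChar (infl N χ : G → ℂ) g =
      (((Subgroup.centralizer ({g} : Set G)).index /
        (Subgroup.centralizer ({(g : G ⧸ N)} : Set (G ⧸ N))).index : ℕ) : ℂ) *
      Cfsg.centralChar (χ : G ⧸ N → ℂ) g := by
  obtain ⟨c, hc⟩ := index_centralizer_mk_dvd N g
  have hne : (Subgroup.centralizer ({(g : G ⧸ N)} : Set (G ⧸ N))).index ≠ 0 :=
    Subgroup.index_ne_zero_of_finite
  rw [Cfsg.centralChar, Cfsg.centralChar, infl_apply, infl_apply, QuotientGroup.mk_one, hc,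
    Nat.mul_div_cancel_left _ (Nat.pos_of_ne_zero hne)]
  push_cast
  ring

theorem sameBlock_infl {M : Ideal AlgInt} [M.IsPrime] (N : Subgroup G) [N.Normal]
    {χ ψ : IrrCharacter (G ⧸ N)} (h : Cfsg.SameBlock M (χ : G ⧸ N → ℂ) (ψ : G ⧸ N → ℂ)) :
    Cfsg.SameBlock M (infl N χ : G → ℂ) (infl N ψ : G → ℂ) := by
  intro g
  rw [centralChar_infl, centralChar_infl, ← mul_sub]
  exact memLocalIdeal_mul_left (memLocalRing_natCast _) (h _)

theorem natCard_preimage_mk (N : Subgroup G) (C : Set (G ⧸ N)) :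
    Nat.card {g : G // (g : G ⧸ N) ∈ C} = Nat.card N * Nat.card C := by
  rw [← Nat.card_prod]
  exact Nat.card_congr (QuotientGroup.preimageMkEquivSubgroupProdSet N C)

/-- Over a normal `p'`-subgroup inflation reflects blocks. -/
theorem sameBlock_of_infl_prime {M : Ideal AlgInt} [M.IsPrime] {p : ℕ}
    (hM : Cfsg.IsPModular p M) (N : Subgroup G) [N.Normal] (hN : ¬ p ∣ Nat.card N)
    {χ ψ : IrrCharacter (G ⧸ N)}
    (h : Cfsg.SameBlock M (infl N χ : G → ℂ) (infl N ψ : G → ℂ)) :
    Cfsg.SameBlock M (χ : G ⧸ N → ℂ) (ψ : G ⧸ N → ℂ) := by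
  classical
  intro y
  let z : Ctr (localRing M) G :=
    ⟨ofFun fun g => if ConjClasses.mk (g : G ⧸ N) = ConjClasses.mk y then 1 else 0,
      mem_ctr_iff.2 fun g c => by
        simp only [coeff_ofFun]
        rw [show ConjClasses.mk ((c * g * c⁻¹ : G) : G ⧸ N) = ConjClasses.mk (g : G ⧸ N) from
          ConjClasses.mk_eq_mk_iff_isConj.2 (isConj_iff.2 ⟨(c : G ⧸ N)⁻¹, by simp [mul_assoc]⟩)]⟩
  have hval : ∀ φ : IrrCharacter (G ⧸ N), (omegaO M (infl N φ) z : ℂ) =
      (Nat.card N : ℂ) * Cfsg.centralChar (φ : G ⧸ N → ℂ) y := by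
    intro φ
    rw [coe_omegaO, omega_apply]
    have : ∀ g : G, (toC M z : MonoidAlgebra ℂ G).coeff g * (infl N φ : G → ℂ) g =
        if ConjClasses.mk (g : G ⧸ N) = ConjClasses.mk y then (φ : G ⧸ N → ℂ) y else 0 := by
      intro g
      simp only [toC, coeff_mapCtr, z, coeff_ofFun, infl_apply]
      split_ifs with hg
      · rw [map_one, one_mul]
        exact Characters.classFunction_isConj (Characters.isClassFunction_of_isIrr φ.2)
          (ConjClasses.mk_eq_mk_iff_isConj.1 hg)
      · rw [map_zero, zero_mul]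
    rw [Finset.sum_congr rfl fun g _ => this g, ← Finset.sum_filter, Finset.sum_const, nsmul_eq_mul,
      Cfsg.centralChar, ← natCard_class y, infl_apply, QuotientGroup.mk_one]
    have hcard := natCard_preimage_mk N {x : G ⧸ N | ConjClasses.mk x = ConjClasses.mk y}
    simp only [Set.mem_ofPred_eq] at hcard
    rw [Nat.card_eq_fintype_card, Fintype.card_subtype] at hcard
    rw [hcard, Nat.cast_mul]
    simp only [Set.coe_ofPred]
    ring
  have h1 := DFunLike.congr_fun ((sameBlock_iff _ _).1 h) (redCtr M z)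
  rw [omegaBar_redCtr, omegaBar_redCtr, red_eq_red_iff, hval, hval, ← mul_sub] at h1
  have h2 := memLocalIdeal_mul_left (memLocalRing_natCast_inv hM hN) h1
  rwa [← mul_assoc, inv_mul_cancel₀ (Nat.cast_ne_zero.2 Nat.card_pos.ne'), one_mul] at h2

end CfsgLib.BlocksLocal
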