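import Cfsg.Agent.BlocksLocal.SectionSum
import Cfsg.Agent.BlocksLocal.Covering
import Cfsg.Agent.BlocksLocal.RegularForm
import Cfsg.Agent.Blocks.RegularForm
import Cfsg.Agent.S0941
import Mathlib.GroupTheory.GroupAction.CardCommute

/-!
# Blocks with a defect group `P` in a group `P C(P)`

Such a block has exactly one character trivial on `P` (`existsUnique_kerContains`), which spans
the block on the p-regular elements (`exists_eq_smul_on_regular`), and it has as many characters as
`P` has classes (`card_block_eq`).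
-/

set_option autoImplicit false
set_option linter.style.haveILetI false
set_option linter.unusedSectionVars false

namespace CfsgLib.BlocksLocal

open Cfsg CfsgLib.Blocks
open scoped ComplexConjugate

universe u v

variable {G : Type u} [Group G] [Fintype G] {M : Ideal AlgInt} [M.IsPrime] {p : ℕ} [Fact p.Prime]
  {P : Subgroup G}

/-- A sum over the source of a surjection of a function of the image. -/
theorem sum_comp_surjective {A : Type u} [Group A] [Fintype A] {B : Type v} [Group B] [Fintype B]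
    (f : A →* B) (hf : Function.Surjective f) {R : Type*} [CommSemiring R] (F : B → R) :
    ∑ a : A, F (f a) = (Nat.card f.ker : R) * ∑ b : B, F b := by
  classical
  rw [← Finset.sum_fiberwise (s := (Finset.univ : Finset A)) (g := f), Finset.mul_sum]
  refine Finset.sum_congr rfl fun b _ => ?_
  rw [Finset.sum_congr rfl (g := fun _ => F b) fun a ha => by rw [(Finset.mem_filter.1 ha).2],
    Finset.sum_const, nsmul_eq_mul]
  congr 2
  rw [← Fintype.card_subtype, ← Nat.card_eq_fintype_card]
  obtain ⟨a₀, rfl⟩ := hf b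
  exact Nat.card_congr
    { toFun := fun a => ⟨a₀⁻¹ * a.1, by rw [MonoidHom.mem_ker, map_mul, map_inv, a.2, inv_mul_cancel]⟩
      invFun := fun k => ⟨a₀ * k.1, by rw [map_mul, MonoidHom.mem_ker.1 k.2, mul_one]⟩
      left_inv := fun a => Subtype.ext (mul_inv_cancel_left _ _)
      right_inv := fun k => Subtype.ext (inv_mul_cancel_left _ _) }

section Setup

variable [P.Normal] (hP : IsPGroup p P) (hG : P ⊔ Subgroup.centralizer (P : Set G) = ⊤)
include hP hG

theorem exists_index_centralizer_pow :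
    ∃ k : ℕ, (Subgroup.centralizer (P : Set G)).index = p ^ k := by
  have h : (Subgroup.centralizer (P : Set G)).relIndex P =
      (Subgroup.centralizer (P : Set G)).index := by
    rw [← Subgroup.relIndex_sup_right, hG, Subgroup.relIndex_top_right]
  rw [← h]
  obtain ⟨n, hn⟩ := IsPGroup.iff_card.1 hP
  obtain ⟨k, -, hk⟩ := (Nat.dvd_prime_pow (Fact.out : p.Prime)).1
    (hn ▸ Subgroup.relIndex_dvd_card (H := Subgroup.centralizer (P : Set G)) (K := P))
  exact ⟨k, hk⟩

theorem regular_mem_centralizer {y : G} (hy : ¬ p ∣ orderOf y) :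
    y ∈ Subgroup.centralizer (P : Set G) := by
  haveI := Fintype.ofFinite (Subgroup.centralizer (P : Set G))
  exact mem_of_regular_of_pow_index _ (exists_index_centralizer_pow hP hG) hy

theorem commute_of_mem {y u : G} (hy : ¬ p ∣ orderOf y) (hu : u ∈ P) : Commute u y :=
  Subgroup.mem_centralizer_iff.1 (regular_mem_centralizer hP hG hy) u hu

/-- A p-regular element is the only one in its coset of `P`. -/
theorem eq_of_mk_eq {y y' : G} (hy : ¬ p ∣ orderOf y) (hy' : ¬ p ∣ orderOf y')
    (h : (y : G ⧸ P) = y') : y' = y := by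
  have hu : y⁻¹ * y' ∈ P := QuotientGroup.eq.1 h
  have := regular_mul_pgroup_eq hP hu hy (commute_of_mem hP hG hy hu).symm
    (by rwa [mul_inv_cancel_left])
  exact (inv_mul_eq_one.1 this).symm

/-- An irreducible character of a block agrees on the p-regular elements with a combination of
the inflations from `G ⧸ P` lying in the block. -/
theorem exists_comb_on_regular (hM : Cfsg.IsPModular p M) {B : Set (IrrCharacter G)}
    (hB : Cfsg.IsPBlock M B) {χ : IrrCharacter G} (hχ : χ ∈ B) [Fintype (G ⧸ P)] :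
    ∃ c : IrrCharacter (G ⧸ P) → ℂ, ∀ y : G, ¬ p ∣ orderOf y →
      ∑ φ, (open Classical in if infl P φ ∈ B then c φ * (φ : G ⧸ P → ℂ) y else 0) =
        (χ : G → ℂ) y := by
  classical
  let Φ : G ⧸ P → ℂ := fun q =>
    ∑ y : G, if ¬ p ∣ orderOf y ∧ (y : G ⧸ P) = q then (χ : G → ℂ) y else 0
  have hΦ : Cfsg.IsClassFunction (G ⧸ P) Φ := by
    intro q r
    obtain ⟨c, rfl⟩ := QuotientGroup.mk_surjective r
    simp only [Φ]
    refine (Fintype.sum_equiv (MulAut.conj c).toEquiv _ _ fun y => ?_).symm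
    show (if ¬ p ∣ orderOf y ∧ (y : G ⧸ P) = q then (χ : G → ℂ) y else 0) =
      if ¬ p ∣ orderOf (c * y * c⁻¹) ∧ ((c * y * c⁻¹ : G) : G ⧸ P) = (c : G ⧸ P) * q * (c : G ⧸ P)⁻¹
        then (χ : G → ℂ) (c * y * c⁻¹) else 0
    refine if_congr ?_ (Characters.isClassFunction_of_isIrr χ.2 y c).symm rfl
    rw [orderOf_conj_eq, QuotientGroup.mk_mul, QuotientGroup.mk_mul, QuotientGroup.mk_inv,
      mul_left_inj, mul_right_inj]
  have hval : ∀ y : G, ¬ p ∣ orderOf y → Φ (y : G ⧸ P) = (χ : G → ℂ) y := by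
    intro y hy
    simp only [Φ]
    rw [Finset.sum_eq_single y]
    · rw [if_pos ⟨hy, rfl⟩]
    · intro y' _ hne
      rw [if_neg]
      rintro ⟨hy', he⟩
      exact hne (eq_of_mk_eq hP hG hy hy' he.symm)
    · simp
  refine ⟨fun φ => Cfsg.classInner Φ (φ : G ⧸ P → ℂ), fun y hy => ?_⟩
  set A : IrrCharacter G → ℂ := fun ψ =>
    (if ψ = χ then 1 else 0) -
      ∑ φ : IrrCharacter (G ⧸ P),
        if infl P φ = ψ then Cfsg.classInner Φ (φ : G ⧸ P → ℂ) else 0 with hA
  have hrel : ∀ (F : IrrCharacter G → Prop) [DecidablePred F] (z : G),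
      ∑ ψ : IrrCharacter G, (if F ψ then A ψ * (ψ : G → ℂ) z else 0) =
        (if F χ then (χ : G → ℂ) z else 0) - ∑ φ : IrrCharacter (G ⧸ P),
          (if F (infl P φ) then Cfsg.classInner Φ (φ : G ⧸ P → ℂ) * (φ : G ⧸ P → ℂ) z else 0) := by
    intro F _ z
    have e : ∀ ψ : IrrCharacter G, (if F ψ then A ψ * (ψ : G → ℂ) z else 0) =
        (if ψ = χ then (if F χ then (χ : G → ℂ) z else 0) else 0) -
          ∑ φ : IrrCharacter (G ⧸ P), if infl P φ = ψ then (if F (infl P φ) then
            Cfsg.classInner Φ (φ : G ⧸ P → ℂ) * (φ : G ⧸ P → ℂ) z else 0) else 0 := by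
      intro ψ
      by_cases hF : F ψ
      · simp only [if_pos hF, hA, sub_mul, Finset.sum_mul]
        refine congrArg₂ _ ?_ (Finset.sum_congr rfl fun φ _ => ?_)
        · split_ifs with h h'
          · rw [h, one_mul]
          · exact absurd (h ▸ hF) h'
          · rw [zero_mul]
        · split_ifs with h h'
          · subst h; rw [infl_apply]
          · exact absurd (h ▸ hF) h'
          · rw [zero_mul]
      · rw [if_neg hF, eq_comm, sub_eq_zero]
        refine Eq.trans ?_ (Finset.sum_eq_zero fun φ _ => ?_).symm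
        · split_ifs with h h'
          · exact absurd (h.symm ▸ h') hF
          · rfl
          · rfl
        · split_ifs with h h'
          · exact absurd (h ▸ h') hF
          · rfl
          · rfl
    rw [Finset.sum_congr rfl fun ψ _ => e ψ, Finset.sum_sub_distrib, Finset.sum_comm]
    simp
  have h := sum_union_eq_zero hM (isBlockUnion_of_isPBlock hB) A (fun z hz => by
    have h1 := hrel (fun _ => True) z
    simp only [if_true] at h1
    rw [h1, ← hval z hz]
    have h2 := congrFun (Characters.classFunction_expansion hΦ) (z : G ⧸ P)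
    simp only [Finset.sum_apply, Pi.smul_apply, smul_eq_mul] at h2
    rw [← h2, sub_self]) hy
  rw [hrel (fun ψ => ψ ∈ B) y, if_pos hχ, sub_eq_zero] at h
  exact h.symm

variable {B : Set (IrrCharacter G)} (hM : Cfsg.IsPModular p M) (hB : Cfsg.IsPBlock M B)
  (hD : Cfsg.IsDefectGroup p M B P)
include hM hB hD

theorem factorization_degree_quotient [Fintype (G ⧸ P)] (φ : IrrCharacter (G ⧸ P))
    (hφ : infl P φ ∈ B) :
    (Cfsg.charDegree (φ : G ⧸ P → ℂ)).factorization p = P.index.factorization p := by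
  have h1 := defect_add_degree_ge hM hB hD hφ
  have h2 := charDegree_factorization_le (p := p) φ
  have h3 : Cfsg.charDegree (infl P φ : G → ℂ) = Cfsg.charDegree (φ : G ⧸ P → ℂ) := by
    simp [Cfsg.charDegree, infl_apply]
  rw [h3] at h1
  rw [← Subgroup.card_mul_index P, Nat.factorization_mul Nat.card_pos.ne'
    Subgroup.index_ne_zero_of_finite, Finsupp.add_apply] at h1
  rw [← Subgroup.index_eq_card] at h2
  omega

theorem eq_of_infl_mem [Fintype (G ⧸ P)] {φ φ' : IrrCharacter (G ⧸ P)} (h : infl P φ ∈ B)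
    (h' : infl P φ' ∈ B) : φ' = φ := by
  have hsame : Cfsg.SameBlock M (φ : G ⧸ P → ℂ) (φ' : G ⧸ P → ℂ) := by
    refine ((Cfsg.Agent.S0941.result p M hM P hP (exists_index_centralizer_pow hP hG)).1 φ φ').2 ?_
    rw [eq_blockOf_of_mem hB h] at h'
    exact h'
  have hz : ¬ p ∣ Nat.card (G ⧸ P) / Cfsg.charDegree (φ : G ⧸ P → ℂ) := by
    intro hd
    have hdd := charDegree_dvd_card φ
    have h0 : Nat.card (G ⧸ P) / Cfsg.charDegree (φ : G ⧸ P → ℂ) ≠ 0 :=
      (Nat.div_pos (Nat.le_of_dvd Nat.card_pos hdd)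
        (Nat.pos_of_ne_zero (charDegree_ne_zero φ))).ne'
    have := Nat.Prime.factorization_pos_of_dvd (Fact.out : p.Prime) h0 hd
    rw [Nat.factorization_div hdd, Finsupp.coe_tsub, Pi.sub_apply,
      factorization_degree_quotient hP hG hM hB hD φ h, ← Subgroup.index_eq_card] at this
    omega
  have h2 : φ' ∈ Cfsg.blockOf M (φ : G ⧸ P → ℂ) := hsame
  rw [(defect_zero_iff hM φ).1 hz] at h2
  exact h2

theorem existsUnique_kerContains :
    ∃ θ : IrrCharacter G, (θ ∈ B ∧ ∀ x ∈ P, (θ : G → ℂ) x = (θ : G → ℂ) 1) ∧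
      ∀ θ' : IrrCharacter G, θ' ∈ B → (∀ x ∈ P, (θ' : G → ℂ) x = (θ' : G → ℂ) 1) → θ' = θ := by
  haveI := Fintype.ofFinite (G ⧸ P)
  obtain ⟨φ, θ, hθ, hval⟩ :=
    (Cfsg.Agent.S0941.result p M hM P hP (exists_index_centralizer_pow hP hG)).2 B hB
  have e : infl P φ = θ := Subtype.ext hval.symm
  refine ⟨θ, ⟨hθ, fun x hx => ?_⟩, fun θ' hθ' hker => ?_⟩
  · rw [hval]
    show (φ : G ⧸ P → ℂ) x = (φ : G ⧸ P → ℂ) ((1 : G) : G ⧸ P)
    rw [(QuotientGroup.eq_one_iff x).2 hx, QuotientGroup.mk_one]
  · obtain ⟨ψ, hψ, hψv⟩ := Characters.exists_irr_quotient P θ'.2 hker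
    have e' : infl P ⟨ψ, hψ⟩ = θ' := Subtype.ext (funext hψv).symm
    rw [← e, ← e']
    exact congrArg (infl P) (eq_of_infl_mem hP hG hM hB hD (e.symm ▸ hθ) (e'.symm ▸ hθ'))

theorem factorization_degree_of_kerContains {θ : IrrCharacter G} (hθ : θ ∈ B)
    (hker : ∀ x ∈ P, (θ : G → ℂ) x = (θ : G → ℂ) 1) :
    (Cfsg.charDegree (θ : G → ℂ)).factorization p = P.index.factorization p := by
  haveI := Fintype.ofFinite (G ⧸ P)
  obtain ⟨ψ, hψ, hψv⟩ := Characters.exists_irr_quotient P θ.2 hker
  have e : infl P ⟨ψ, hψ⟩ = θ := Subtype.ext (funext hψv).symm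
  rw [← e] at hθ ⊢
  rw [← factorization_degree_quotient hP hG hM hB hD _ hθ]
  simp [Cfsg.charDegree, infl_apply]

/-- On the p-regular elements every member is a multiple of the one trivial on `P`. -/
theorem exists_eq_smul_on_regular {θ : IrrCharacter G} (hθ : θ ∈ B)
    (hker : ∀ x ∈ P, (θ : G → ℂ) x = (θ : G → ℂ) 1) {χ : IrrCharacter G} (hχ : χ ∈ B) :
    ∃ a : ℂ, ∀ y : G, ¬ p ∣ orderOf y → (χ : G → ℂ) y = a * (θ : G → ℂ) y := by
  classical
  haveI := Fintype.ofFinite (G ⧸ P)
  obtain ⟨ψ, hψ, hψv⟩ := Characters.exists_irr_quotient P θ.2 hker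
  let φ₀ : IrrCharacter (G ⧸ P) := ⟨ψ, hψ⟩
  have e : infl P φ₀ = θ := Subtype.ext (funext hψv).symm
  rw [← e] at hθ
  obtain ⟨c, hc⟩ := exists_comb_on_regular hP hG hM hB hχ
  refine ⟨c φ₀, fun y hy => ?_⟩
  rw [← hc y hy, Finset.sum_eq_single φ₀]
  · rw [if_pos hθ, hψv y]
  · intro φ _ hne
    exact if_neg fun h => hne (eq_of_infl_mem hP hG hM hB hD hθ h)
  · simp

open Classical in
/-- The p-regular elements carry one unit of the norms of the block. -/
theorem sum_classInner_regPart_eq_one :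
    ∑ χ : IrrCharacter G, (if χ ∈ B then
      Cfsg.classInner (regPart p (χ : G → ℂ)) (χ : G → ℂ) else 0) = 1 := by
  obtain ⟨θ, ⟨hθ, hker⟩, -⟩ := existsUnique_kerContains hP hG hM hB hD
  set s := Cfsg.classInner (regPart p (θ : G → ℂ)) (θ : G → ℂ) with hs
  have hreg : ∀ f g : G → ℂ,
      Cfsg.classInner (regPart p f) (regPart p g) = Cfsg.classInner (regPart p f) g := fun f g => by
    simp only [Cfsg.classInner, regPart]
    congr 1
    exact Finset.sum_congr rfl fun x _ => by split_ifs <;> simp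
  have hsr : conj s = s := by
    conv_rhs => rw [hs, ← hreg, Characters.classInner_conj_symm, hreg]
  have hmul : ∀ χ ∈ B, ∃ a : ℂ, Cfsg.classInner (regPart p (χ : G → ℂ)) (χ : G → ℂ) = a * conj a * s ∧
      Cfsg.classInner (regPart p (θ : G → ℂ)) (χ : G → ℂ) = conj a * s := by
    intro χ hχ
    obtain ⟨a, ha⟩ := exists_eq_smul_on_regular hP hG hM hB hD hθ hker hχ
    refine ⟨a, ?_, ?_⟩
    · rw [hs, ← hreg, ← hreg (θ : G → ℂ)]
      simp only [Cfsg.classInner, Finset.mul_sum]
      refine Finset.sum_congr rfl fun x _ => ?_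
      by_cases hx : p ∣ orderOf x
      · simp [regPart, hx]
      · simp only [regPart, if_neg hx, ha x hx, map_mul]
        ring
    · rw [hs, ← hreg, ← hreg (θ : G → ℂ) (θ : G → ℂ)]
      simp only [Cfsg.classInner, Finset.mul_sum]
      refine Finset.sum_congr rfl fun x _ => ?_
      by_cases hx : p ∣ orderOf x
      · simp [regPart, hx]
      · simp only [regPart, if_neg hx, ha x hx, map_mul]
        ring
  have hs0 : s ≠ 0 := by
    intro h0
    have hh : Cfsg.blockHeight p B (θ : G → ℂ) = 0 := by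
      have h1 := blockHeight_eq hM hB hD hθ
      rw [factorization_degree_of_kerContains hP hG hM hB hD hθ hker] at h1
      rw [← Subgroup.card_mul_index P, Nat.factorization_mul Nat.card_pos.ne'
        Subgroup.index_ne_zero_of_finite, Finsupp.add_apply] at h1
      omega
    refine regForm_not_mem_of_height_zero hM hB hθ hθ hh ?_
    rw [regForm_eq_classInner, ← hs, h0, mul_zero, zero_div]
    exact memLocalIdeal_zero
  have hexp : s = ∑ χ : IrrCharacter G,
      Cfsg.classInner (regPart p (θ : G → ℂ)) (χ : G → ℂ) *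
        conj (Cfsg.classInner (regPart p (θ : G → ℂ)) (χ : G → ℂ)) := by
    conv_lhs => rw [hs, ← hreg, Characters.classFunction_expansion
      (isClassFunction_regPart (p := p) (Characters.isClassFunction_of_isIrr θ.2))]
    rw [Characters.classInner_sum_left]
    refine Finset.sum_congr rfl fun χ _ => ?_
    rw [Characters.classInner_smul_left]
    congr 1
    rw [Characters.classInner_sum_right, Finset.sum_eq_single χ]
    · rw [Characters.classInner_smul_right, Characters.classInner_isIrr_self χ.2, mul_one]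
    · intro η _ hne
      rw [Characters.classInner_smul_right,
        Characters.classInner_isIrr_ne χ.2 η.2 fun h => hne (Subtype.ext h).symm, mul_zero]
    · simp
  refine mul_right_cancel₀ hs0 ?_
  rw [one_mul]
  conv_rhs => rw [hexp]
  rw [Finset.sum_mul]
  refine Finset.sum_congr rfl fun χ _ => ?_
  by_cases hχ : χ ∈ B
  · obtain ⟨a, h1, h2⟩ := hmul χ hχ
    rw [if_pos hχ, h1, h2, map_mul, Complex.conj_conj, hsr]
    ring
  · rw [if_neg hχ, zero_mul, classInner_regPart_eq_zero hM, zero_mul]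
    intro h
    rw [eq_blockOf_of_mem hB hθ] at hχ
    exact hχ h

open Classical in
/-- The section of `x ∈ P` scales the values on the p-regular elements. -/
theorem sum_section_eq {x y : G} (hx : x ∈ P) (hy : ¬ p ∣ orderOf y) :
    (Nat.card P : ℂ) * ∑ χ : IrrCharacter G, (if χ ∈ B then
        (χ : G → ℂ) (x * y) * conj ((χ : G → ℂ) (x * y)) else 0) =
      (Nat.card (Subgroup.centralizer ({⟨x, hx⟩} : Set P)) : ℂ) *
        ∑ χ : IrrCharacter G, (if χ ∈ B then (χ : G → ℂ) y * conj ((χ : G → ℂ) y) else 0) := by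
  haveI := Fintype.ofFinite (G ⧸ P)
  haveI := Fintype.ofFinite (Subgroup.centralizer ({x} : Set G))
  have hxo : ∃ k, orderOf x = p ^ k := by
    obtain ⟨k, hk⟩ := IsPGroup.iff_orderOf.1 hP ⟨x, hx⟩
    exact ⟨k, by rwa [Subgroup.orderOf_mk] at hk⟩
  have hCH : Subgroup.centralizer (P : Set G) ≤ Subgroup.centralizer ({x} : Set G) := fun g hg =>
    Subgroup.mem_centralizer_singleton_iff.2 (Subgroup.mem_centralizer_iff.1 hg x hx).symm
  have hyC := regular_mem_centralizer hP hG hy
  let y' : Subgroup.centralizer ({x} : Set G) := ⟨y, hCH hyC⟩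
  have hy' : ¬ p ∣ orderOf y' := by rwa [← Subgroup.orderOf_coe]
  have hBu := isBlockUnion_of_isPBlock hB
  have hsupp : ∀ g : G, g ∉ Subgroup.centralizer ({x} : Set G) → Cfsg.blockCoeff B g = 0 :=
    fun g hg => Blocks.blockCoeff_eq_zero_of_singular hM hBu (by
      by_contra h
      exact hg (hCH (regular_mem_centralizer hP hG h)))
  rw [show x * y = x * (y' : G) from rfl, sum_section_mul_conj hM hB hxo hy' hy',
    sum_union_mul_conj_eq_sum, sum_union_mul_conj_eq_sum]
  simp only [blockCoeff_overSet _ hBu hsupp, Subgroup.coe_mul, Subgroup.coe_inv, y']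
  set F : G → ℂ := fun t => Cfsg.blockCoeff B (t⁻¹ * y * t * y⁻¹) with hF
  let F' : G ⧸ P → ℂ := fun q => F q.out
  have hconst : ∀ t : G, F t = F' (QuotientGroup.mk' P t) := by
    intro t
    set t' : G := Quotient.out (QuotientGroup.mk' P t) with ht'
    have hu : t⁻¹ * t' ∈ P := QuotientGroup.eq.1 (QuotientGroup.out_eq' _).symm
    show F t = F t'
    have hty : t⁻¹ * y * t ∈ Subgroup.centralizer (P : Set G) :=
      regular_mem_centralizer hP hG (by
        rw [show t⁻¹ * y * t = MulAut.conj t⁻¹ y by simp, MulEquiv.orderOf_eq]; exact hy)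
    simp only [hF]
    congr 2
    have hc := Subgroup.mem_centralizer_iff.1 hty _ hu
    calc t⁻¹ * y * t = (t⁻¹ * t')⁻¹ * ((t⁻¹ * t') * (t⁻¹ * y * t)) := by group
      _ = (t⁻¹ * t')⁻¹ * ((t⁻¹ * y * t) * (t⁻¹ * t')) := by rw [hc]
      _ = t'⁻¹ * y * t' := by group
  have hker₁ : Nat.card (QuotientGroup.mk' P).ker = Nat.card P := by
    rw [QuotientGroup.ker_mk']
  let f : Subgroup.centralizer ({x} : Set G) →* G ⧸ P :=
    (QuotientGroup.mk' P).comp (Subgroup.centralizer ({x} : Set G)).subtype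
  have hf : Function.Surjective f := by
    intro q
    obtain ⟨g, rfl⟩ := QuotientGroup.mk_surjective q
    have hg : g ∈ P ⊔ Subgroup.centralizer (P : Set G) := by rw [hG]; trivial
    rw [Subgroup.mem_sup_of_normal_left] at hg
    obtain ⟨u, hu, c, hc, rfl⟩ := hg
    refine ⟨⟨c, hCH hc⟩, ?_⟩
    show (c : G ⧸ P) = ((u * c : G) : G ⧸ P)
    rw [QuotientGroup.mk_mul, (QuotientGroup.eq_one_iff u).2 hu, one_mul]
  have hker₂ : Nat.card f.ker = Nat.card (Subgroup.centralizer ({⟨x, hx⟩} : Set P)) := by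
    refine Nat.card_congr
      { toFun := fun g => ⟨⟨(g.1 : G), (QuotientGroup.eq_one_iff _).1 g.2⟩,
          Subgroup.mem_centralizer_singleton_iff.2
            (Subtype.ext (Subgroup.mem_centralizer_singleton_iff.1 g.1.2))⟩
        invFun := fun u => ⟨⟨((u.1 : P) : G), Subgroup.mem_centralizer_singleton_iff.2
            (congrArg Subtype.val (Subgroup.mem_centralizer_singleton_iff.1 u.2))⟩,
            (QuotientGroup.eq_one_iff _).2 u.1.2⟩
        left_inv := fun g => rfl
        right_inv := fun u => rfl }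
  have h1 : ∑ t : G, F t = (Nat.card P : ℂ) * ∑ q, F' q := by
    rw [← hker₁, ← sum_comp_surjective _ (QuotientGroup.mk'_surjective P)]
    exact Finset.sum_congr rfl fun t _ => hconst t
  have h2 : ∑ t : Subgroup.centralizer ({x} : Set G), F (t : G) =
      (Nat.card (Subgroup.centralizer ({⟨x, hx⟩} : Set P)) : ℂ) * ∑ q, F' q := by
    rw [← hker₂, ← sum_comp_surjective f hf]
    exact Finset.sum_congr rfl fun t _ => hconst t
  show _ * ∑ t : Subgroup.centralizer ({x} : Set G), F (t : G) = _ * ∑ t : G, F t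
  rw [h1, h2]
  ring

open Classical in
/-- The number of members equals the number of classes of `P`. -/
theorem card_block_eq : Nat.card B = Nat.card (ConjClasses P) := by
  haveI := Fintype.ofFinite P
  have hpp : p.Prime := Fact.out
  set S : G → ℂ := fun g => ∑ χ : IrrCharacter G,
    (if χ ∈ B then (χ : G → ℂ) g * conj ((χ : G → ℂ) g) else 0) with hS
  choose pp hpp' using fun g : G => exists_isPPart hpp g
  -- outside the sections of elements of `P` all members vanish
  have hzero : ∀ g : G, pp g ∉ P → S g = 0 := by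
    intro g hg
    refine Finset.sum_eq_zero fun χ _ => ?_
    split_ifs with hχ
    · rw [char_eq_zero_of_not_mem_defectGroup hM χ (hpp' g) fun D hDd hmem => hg ?_]
      · simp
      · rw [← eq_blockOf_of_mem hB hχ] at hDd
        obtain ⟨c, rfl⟩ := IsDefectGroup.exists_conj hM hB hD hDd
        rwa [BlockPairs.cj_eq_self (by rw [Subgroup.normalizer_eq_top]; trivial)] at hmem
    · rfl
  have hsplit : ∑ g : G, S g =
      ∑ x : P, ∑ y : {y : G // ¬ p ∣ orderOf y}, S ((x : G) * y.1) := by
    rw [← Fintype.sum_prod_type' (f := fun (x : P) (y : {y : G // ¬ p ∣ orderOf y}) => S ((x : G) * y.1))]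
    refine (Finset.sum_bij_ne_zero (s := (Finset.univ : Finset (P × {y : G // ¬ p ∣ orderOf y})))
      (t := (Finset.univ : Finset G))
      (fun q _ _ => (q.1 : G) * q.2.1) (fun q _ _ => Finset.mem_univ _) ?_ ?_ (fun q _ _ => rfl)).symm
    · intro q _ _ r _ _ he
      have hq := isPPart_of_mul (commute_of_mem hP hG q.2.2 q.1.2) (by
        obtain ⟨k, hk⟩ := IsPGroup.iff_orderOf.1 hP q.1
        exact ⟨k, by rwa [← Subgroup.orderOf_coe] at hk⟩) q.2.2
      have hr := isPPart_of_mul (commute_of_mem hP hG r.2.2 r.1.2) (by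
        obtain ⟨k, hk⟩ := IsPGroup.iff_orderOf.1 hP r.1
        exact ⟨k, by rwa [← Subgroup.orderOf_coe] at hk⟩) r.2.2
      rw [← he] at hr
      have h1 : (q.1 : G) = r.1 := isPPart_unique hpp hq hr
      rw [← h1] at he
      exact Prod.ext (Subtype.ext h1) (Subtype.ext (mul_left_cancel he))
    · intro g _ hg
      have hx : pp g ∈ P := by
        by_contra h
        exact hg (hzero g h)
      obtain ⟨w, hw, -, -, hwreg⟩ := hpp' g
      refine ⟨(⟨pp g, hx⟩, ⟨w, hwreg⟩), Finset.mem_univ _, ?_, hw⟩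
      rwa [show ((⟨pp g, hx⟩ : P) : G) * w = g from hw]
  have hreg : ∑ y : {y : G // ¬ p ∣ orderOf y}, S y.1 = (Nat.card G : ℂ) := by
    have h := sum_classInner_regPart_eq_one hP hG hM hB hD
    have e : ∑ y : {y : G // ¬ p ∣ orderOf y}, S y.1 = (Nat.card G : ℂ) *
        ∑ χ : IrrCharacter G, (if χ ∈ B then
          Cfsg.classInner (regPart p (χ : G → ℂ)) (χ : G → ℂ) else 0) := by
      rw [← Finset.sum_subtype (Finset.univ.filter fun y : G => ¬ p ∣ orderOf y) (by simp) S,
        Finset.mul_sum]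
      simp only [hS]
      rw [Finset.sum_comm]
      refine Finset.sum_congr rfl fun χ _ => ?_
      split_ifs with hχ
      · rw [Cfsg.classInner, ← mul_assoc, mul_inv_cancel₀ Characters.natCard_ne_zero, one_mul,
          Finset.sum_filter]
        exact Finset.sum_congr rfl fun y _ => by simp only [regPart]; split_ifs <;> simp
      · simp
    rw [e, h, mul_one]
  have hall : ∑ g : G, S g = (Nat.card G : ℂ) * (Nat.card B : ℂ) := by
    rw [hS, Finset.sum_comm, Nat.card_eq_fintype_card (α := B), Fintype.card_subtype,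
      Finset.natCast_card_filter, Finset.mul_sum]
    refine Finset.sum_congr rfl fun χ _ => ?_
    split_ifs with hχ
    · have := Characters.classInner_isIrr_self χ.2
      rw [Cfsg.classInner, inv_mul_eq_iff_eq_mul₀ Characters.natCard_ne_zero] at this
      rw [this]
    · simp
  have hcomm : ∑ x : P, (Nat.card (Subgroup.centralizer ({x} : Set P)) : ℂ) =
      (Nat.card (ConjClasses P) : ℂ) * (Nat.card P : ℂ) := by
    rw [← Nat.cast_mul, ← card_comm_eq_card_conjClasses_mul_card, ← Nat.cast_sum]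
    congr 1
    rw [Nat.card_congr (α := { q : P × P // Commute q.1 q.2 })
      (β := Σ x : P, Subgroup.centralizer ({x} : Set P))
      { toFun := fun q => ⟨q.1.1, q.1.2, Subgroup.mem_centralizer_singleton_iff.2 q.2.symm⟩
        invFun := fun s => ⟨(s.1, s.2.1), (Subgroup.mem_centralizer_singleton_iff.1 s.2.2).symm⟩
        left_inv := fun q => rfl
        right_inv := fun s => rfl }]
    exact Nat.card_sigma.symm
  have key : (Nat.card P : ℂ) * ((Nat.card G : ℂ) * (Nat.card B : ℂ)) =
      (Nat.card (ConjClasses P) : ℂ) * (Nat.card P : ℂ) * (Nat.card G : ℂ) := by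
    rw [← hall, hsplit, Finset.mul_sum, ← hcomm, ← hreg, Finset.sum_mul]
    refine Finset.sum_congr rfl fun x _ => ?_
    rw [Finset.mul_sum, Finset.mul_sum]
    exact Finset.sum_congr rfl fun y _ => sum_section_eq hP hG hM hB hD x.2 y.2
  have hP0 : (Nat.card P : ℂ) ≠ 0 := Nat.cast_ne_zero.2 Nat.card_pos.ne'
  have hG0 : (Nat.card G : ℂ) ≠ 0 := Nat.cast_ne_zero.2 Nat.card_pos.ne'
  have h' : ((Nat.card B : ℂ)) * ((Nat.card P : ℂ) * (Nat.card G : ℂ)) =
      (Nat.card (ConjClasses P) : ℂ) * ((Nat.card P : ℂ) * (Nat.card G : ℂ)) := by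
    linear_combination key
  exact_mod_cast mul_right_cancel₀ (mul_ne_zero hP0 hG0) h'

end Setup

end CfsgLib.BlocksLocal
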