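import Cfsg.Agent.BlocksLocal.CoverAnn
import Cfsg.Agent.Blocks.Idempotent
import Cfsg.Agent.Characters.Linear
import Mathlib.LinearAlgebra.Matrix.Nondegenerate
import Mathlib.LinearAlgebra.Basis.VectorSpace
import Mathlib.LinearAlgebra.Matrix.ToLin
import Mathlib.RingTheory.Idempotents

/-!
# Every character of a covered block lies under the covering block
-/

set_option autoImplicit false
set_option linter.unusedSectionVars false

namespace CfsgLib.BlocksLocal.CoverAll

open Cfsg CfsgLib.Blocks
open scoped ComplexConjugate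

variable {M : Ideal AlgInt} [M.IsPrime]

/-- A matrix over the local ring which is injective modulo `M` is injective over `ℂ`. -/
theorem eq_zero_of_red_injective {m n : Type*} [Fintype m] [Fintype n] (A : m → n → localRing M)
    (h : ∀ x : m → Res M, (∀ j, ∑ i, x i * red M (A i j) = 0) → x = 0)
    (x : m → ℂ) (hx : ∀ j, ∑ i, x i * (A i j : ℂ) = 0) : x = 0 := by
  classical
  let A₁ : Matrix m n (Res M) := .of fun i j => red M (A i j)
  have hk : LinearMap.ker A₁.vecMulLinear = ⊥ :=
    LinearMap.ker_eq_bot'.2 fun v hv => h v fun j => congrFun hv j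
  obtain ⟨g, hg⟩ := A₁.vecMulLinear.exists_leftInverse_of_injective hk
  let B₁ : Matrix n m (Res M) := LinearMap.toMatrixRight' g
  have hB : A₁ * B₁ = 1 := by
    refine Matrix.ext_of_single_vecMul fun i => ?_
    rw [← Matrix.vecMul_vecMul, Matrix.vecMul_one]
    have h2 : ∀ w, Matrix.vecMul w B₁ = g w := fun w =>
      LinearMap.congr_fun (LinearMap.toMatrixRight'.symm_apply_apply g) w
    rw [h2]
    exact LinearMap.congr_fun hg _
  choose B₀ hB₀ using fun j i => red_surjective (M := M) (B₁ j i)
  let P : Matrix m m (localRing M) := (Matrix.of A : Matrix m n _) * Matrix.of B₀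
  have hP : red M P.det = 1 := by
    rw [RingHom.map_det, RingHom.mapMatrix_apply, Matrix.map_mul]
    have e1 : (Matrix.of A).map (red M) = A₁ := rfl
    have e2 : (Matrix.of B₀).map (red M) = B₁ := Matrix.ext fun j i => hB₀ j i
    rw [e1, e2, hB, Matrix.det_one]
  have hdet : (P.map (localRing M).subtype).det ≠ 0 := by
    rw [← RingHom.mapMatrix_apply, ← RingHom.map_det]
    intro h0
    have : P.det = 0 := Subtype.ext h0
    rw [this, map_zero] at hP
    exact zero_ne_one hP
  refine Matrix.eq_zero_of_vecMul_eq_zero hdet ?_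
  rw [Matrix.map_mul, ← Matrix.vecMul_vecMul]
  have : Matrix.vecMul x ((Matrix.of A).map (localRing M).subtype) = 0 := funext hx
  rw [this, Matrix.zero_vecMul]

variable {G : Type*} [Group G] [Fintype G] (N : Subgroup G) [Fintype N]

theorem coeff_inc_mul {k : Type*} [CommRing k] (x : MonoidAlgebra k N) (e : MonoidAlgebra k G)
    (g : G) : (inc k N x * e).coeff g = ∑ n : N, x.coeff n * e.coeff ((n : G)⁻¹ * g) := by
  classical
  induction x using MonoidAlgebra.induction_linear with
  | zero => simp
  | add u v hu hv => simp [add_mul, hu, hv, Finset.sum_add_distrib]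
  | single n r =>
    rw [inc_single, MonoidAlgebra.coeff_single_mul_apply, Finset.sum_eq_single n]
    · simp
    · intro m _ hm
      simp [Ne.symm hm]
    · simp

theorem map_inc {k l : Type*} [CommRing k] [CommRing l] (φ : k →+* l) (x : MonoidAlgebra k N) :
    MonoidAlgebra.mapRingHom G φ (inc k N x) = inc l N (MonoidAlgebra.mapRingHom N φ x) := by
  induction x using MonoidAlgebra.induction_linear with
  | zero => simp
  | add u v hu hv => simp [hu, hv]
  | single n r => simp [inc_single]

/-- An annihilation statement modulo `M` lifts to `ℂ`. -/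
theorem lift_ann (e : MonoidAlgebra (localRing M) G) (f : MonoidAlgebra (localRing M) N)
    (h : ∀ x : MonoidAlgebra (Res M) N,
      inc (Res M) N x * MonoidAlgebra.mapRingHom G (red M) e = 0 →
      x * MonoidAlgebra.mapRingHom N (red M) f = 0 → x = 0)
    (x : MonoidAlgebra ℂ N)
    (h1 : inc ℂ N x * MonoidAlgebra.mapRingHom G (localRing M).subtype e = 0)
    (h2 : x * MonoidAlgebra.mapRingHom N (localRing M).subtype f = 0) : x = 0 := by
  classical
  let A : N → G ⊕ N → localRing M := fun n =>
    Sum.elim (fun g => e.coeff ((n : G)⁻¹ * g)) fun m => f.coeff (n⁻¹ * m)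
  have hx : (fun n => x.coeff n) = (0 : N → ℂ) := by
    refine eq_zero_of_red_injective A (fun v hv => ?_) _ ?_
    · have := h (ofFun v) ?_ ?_
      · funext n
        simpa using congrArg (fun a : MonoidAlgebra (Res M) N => a.coeff n) this
      · ext g
        simpa [coeff_inc_mul, A] using hv (.inl g)
      · ext m
        simpa [coeff_mul_eq_sum, A] using hv (.inr m)
    · rintro (g | m)
      · simpa [coeff_inc_mul, A] using congrArg (fun a : MonoidAlgebra ℂ G => a.coeff g) h1
      · simpa [coeff_mul_eq_sum, A] using congrArg (fun a : MonoidAlgebra ℂ N => a.coeff m) h2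
  exact MonoidAlgebra.ext (Finsupp.ext fun n => congrFun hx n)

/-- An idempotent over the local ring vanishing modulo `M` vanishes. -/
theorem eq_zero_of_idem_red (y : MonoidAlgebra (localRing M) G) (hy : y * y = y)
    (h0 : MonoidAlgebra.mapRingHom G (red M) y = 0) : y = 0 := by
  classical
  set φ := MonoidAlgebra.mapRingHom G (localRing M).subtype with hφ
  obtain ⟨z, hz⟩ : ∃ z, z = 1 - y := ⟨_, rfl⟩
  have hx : (fun g => (φ y).coeff g) = (0 : G → ℂ) := by
    refine eq_zero_of_red_injective (fun i j => z.coeff (i⁻¹ * j)) (fun v hv => ?_) _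
      fun j => ?_
    · have h1 : ofFun v * MonoidAlgebra.mapRingHom G (red M) z = 0 := by
        ext g
        rw [coeff_mul_eq_sum]
        simpa using hv g
      rw [hz, map_sub, map_one, h0, sub_zero, mul_one] at h1
      funext g
      simpa using congrArg (fun a : MonoidAlgebra (Res M) G => a.coeff g) h1
    · have h1 : φ y * φ z = 0 := by rw [← map_mul, hz, mul_sub, mul_one, hy, sub_self, map_zero]
      have := congrArg (fun a : MonoidAlgebra ℂ G => a.coeff j) h1
      simpa [coeff_mul_eq_sum, hφ] using this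
  refine MonoidAlgebra.ext (Finsupp.ext fun g => Subtype.ext ?_)
  simpa [hφ] using congrFun hx g

variable {N} [N.Normal]

theorem setIdemC_mul_self (A : Set (IrrCharacter G)) :
    setIdemC A * setIdemC A = setIdemC A := by
  classical
  refine ctr_ext_omega fun ψ => ?_
  rw [map_mul, omega_setIdemC]
  split_ifs <;> simp

theorem blockCoeff_inv (A : Set (IrrCharacter G)) (g : G) :
    Cfsg.blockCoeff A g⁻¹ = conj (Cfsg.blockCoeff A g) := by
  classical
  rw [blockCoeff_eq_sum, blockCoeff_eq_sum, map_mul, map_inv₀, Complex.conj_natCast, map_sum]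
  refine congrArg _ (Finset.sum_congr rfl fun χ _ => ?_)
  obtain ⟨d, -, hd⟩ := Characters.exists_degree_pos χ.2
  split_ifs
  · rw [Characters.character_inv (Characters.isCharacter_of_isIrr χ.2), map_mul, hd,
      Complex.conj_natCast]
  · simp

open Classical in
theorem coeff_one_inc_setIdem (A : Set (IrrCharacter N)) (B : Set (IrrCharacter G)) :
    (inc ℂ N (setIdemC A : MonoidAlgebra ℂ N) * (setIdemC B : MonoidAlgebra ℂ G)).coeff 1 =
      (Nat.card G : ℂ)⁻¹ * ∑ θ : IrrCharacter N, ∑ χ : IrrCharacter G,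
        if θ ∈ A ∧ χ ∈ B then (θ : N → ℂ) 1 * (χ : G → ℂ) 1 *
          Cfsg.classInner (fun n : N => (χ : G → ℂ) n) (θ : N → ℂ) else 0 := by
  rw [coeff_inc_mul]
  simp only [mul_one, coeff_setIdemC, blockCoeff_eq_sum]
  rw [Finset.sum_congr rfl fun n _ => (mul_mul_mul_comm _ _ _ _).trans
    (congrArg _ (Finset.sum_mul_sum _ _ _ _))]
  simp only [Finset.mul_sum]
  rw [Finset.sum_comm]
  refine Finset.sum_congr rfl fun θ _ => ?_
  rw [Finset.sum_comm]
  refine Finset.sum_congr rfl fun χ _ => ?_
  simp only [Cfsg.classInner]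
  by_cases hA : θ ∈ A
  · by_cases hB : χ ∈ B
    · simp only [hA, hB, and_self, if_true, Finset.mul_sum]
      refine Finset.sum_congr rfl fun n _ => ?_
      rw [Characters.character_inv (Characters.isCharacter_of_isIrr χ.2), Complex.conj_conj]
      ring
    · simp [hA, hB]
  · simp [hA]

theorem inc_setIdem_ne_zero (A : Set (IrrCharacter N)) (B : Set (IrrCharacter G))
    {θ : IrrCharacter N} (hθ : θ ∈ A) {χ : IrrCharacter G} (hχ : χ ∈ B)
    (h : Cfsg.classInner (fun n : N => (χ : G → ℂ) n) (θ : N → ℂ) ≠ 0) :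
    inc ℂ N (setIdemC A : MonoidAlgebra ℂ N) * (setIdemC B : MonoidAlgebra ℂ G) ≠ 0 := by
  classical
  intro h0
  have h1 := coeff_one_inc_setIdem A B
  rw [h0] at h1
  simp only [MonoidAlgebra.coeff_zero, Finsupp.coe_zero, Pi.zero_apply, zero_eq_mul,
    inv_eq_zero, Nat.cast_eq_zero, Nat.card_pos.ne', false_or] at h1
  have hn : ∀ (θ : IrrCharacter N) (χ : IrrCharacter G), ∃ m : ℕ, (m : ℂ) =
      if θ ∈ A ∧ χ ∈ B then (θ : N → ℂ) 1 * (χ : G → ℂ) 1 *
        Cfsg.classInner (fun n : N => (χ : G → ℂ) n) (θ : N → ℂ) else 0 := by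
    intro θ χ
    obtain ⟨a, -, ha⟩ := Characters.exists_degree_pos θ.2
    obtain ⟨b, -, hb⟩ := Characters.exists_degree_pos χ.2
    obtain ⟨c, hc⟩ := Characters.classInner_character_irr
      (Characters.isCharacter_restrict N (Characters.isCharacter_of_isIrr χ.2)) θ.2
    by_cases hh : θ ∈ A ∧ χ ∈ B
    · exact ⟨a * b * c, by rw [if_pos hh, ha, hb, hc]; push_cast; rfl⟩
    · exact ⟨0, by simp [hh]⟩
  choose m hm using hn
  simp only [← hm, ← Nat.cast_sum, Nat.cast_eq_zero, Finset.sum_eq_zero_iff, Finset.mem_univ,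
    forall_const] at h1
  have := hm θ χ
  rw [h1 θ χ, if_pos ⟨hθ, hχ⟩, Nat.cast_zero] at this
  exact mul_ne_zero (mul_ne_zero (Characters.irr_one_ne_zero θ.2)
    (Characters.irr_one_ne_zero χ.2)) h this.symm

theorem inc_setIdem_eq_zero (θ : IrrCharacter N) (B : Set (IrrCharacter G))
    (h : ∀ χ ∈ B, Cfsg.classInner (fun n : N => (χ : G → ℂ) n) (θ : N → ℂ) = 0) :
    inc ℂ N (setIdemC {θ} : MonoidAlgebra ℂ N) * (setIdemC B : MonoidAlgebra ℂ G) = 0 := by
  classical
  set a := inc ℂ N (setIdemC {θ} : MonoidAlgebra ℂ N) with ha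
  set e : MonoidAlgebra ℂ G := (setIdemC B).1 with he
  set z := a * e with hz
  have hsymm : ∀ g, z.coeff g⁻¹ = conj (z.coeff g) := by
    intro g
    rw [hz, ha, coeff_inc_mul, coeff_inc_mul, map_sum]
    refine Fintype.sum_equiv (Equiv.inv N) _ _ fun n => ?_
    simp only [he, coeff_setIdemC, Equiv.inv_apply]
    rw [map_mul, ← blockCoeff_inv, ← blockCoeff_inv, inv_inv, mul_inv_rev, InvMemClass.coe_inv,
      inv_inv]
    rw [← blockCoeff_conj B (g⁻¹ * (n : G)⁻¹) g]
    congr 2
    group
  have hzz : z * z = z := by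
    have hc : e * a = a * e := (Subring.mem_center_iff.1 (setIdemC B).2 a).symm
    have haa : a * a = a := by
      rw [ha, ← map_mul, ← Subring.coe_mul, setIdemC_mul_self]
    have hee : e * e = e := by rw [he, ← Subring.coe_mul, setIdemC_mul_self]
    rw [hz, mul_assoc, ← mul_assoc e, hc, mul_assoc a e, hee, ← mul_assoc, haa]
  have h1 : z.coeff 1 = 0 := by
    rw [hz, ha, he, coeff_one_inc_setIdem]
    refine mul_eq_zero_of_right _ (Finset.sum_eq_zero fun η _ => Finset.sum_eq_zero fun χ _ => ?_)
    split_ifs with hh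
    · obtain ⟨hη, hχ⟩ := hh
      rw [Set.mem_singleton_iff] at hη
      subst hη
      rw [h χ hχ, mul_zero]
    · rfl
  rw [← hzz, coeff_mul_eq_sum] at h1
  have h2 : ((∑ g : G, Complex.normSq (z.coeff g) : ℝ) : ℂ) = 0 := by
    rw [← h1, Complex.ofReal_sum]
    exact Finset.sum_congr rfl fun g _ => by rw [mul_one, hsymm, Complex.mul_conj]
  rw [Complex.ofReal_eq_zero,
    Finset.sum_eq_zero_iff_of_nonneg fun g _ => Complex.normSq_nonneg _] at h2
  exact MonoidAlgebra.ext (Finsupp.ext fun g =>
    (Complex.normSq_eq_zero.1 (h2 g (Finset.mem_univ g))).trans (by simp))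

/-- **Every character of a covered block lies under the covering block.** -/
theorem exists_over {B : Set (IrrCharacter G)} (hB : Cfsg.IsPBlock M B) {b : Set (IrrCharacter N)}
    (hb : Cfsg.IsPBlock M b)
    (hcov : ∃ χ ∈ B, ∃ θ ∈ b, Cfsg.classInner (fun n : N => (χ : G → ℂ) n) (θ : N → ℂ) ≠ 0)
    (θ : IrrCharacter N) (hθ : θ ∈ b) :
    ∃ χ ∈ B, Cfsg.classInner (fun n : N => (χ : G → ℂ) n) (θ : N → ℂ) ≠ 0 := by
  classical
  by_contra hno
  push Not at hno
  have hUB := isBlockUnion_of_isPBlock hB
  have hUb := isBlockUnion_of_isPBlock hb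
  set EO := setIdemO M B (memLocalRing_blockCoeff hUB) with hEO
  set eO := setIdemO M b (memLocalRing_blockCoeff hUb) with heO
  set E := idemBar M B hUB with hE
  set eb := idemBar M b hUb with heb
  have hEE : (E : MonoidAlgebra (Res M) G) * E = E := congrArg Subtype.val (idemBar_mul_self B hUB)
  have hebb : eb * eb = eb := idemBar_mul_self b hUb
  -- the covered idempotent is not annihilated
  have hne : inc (Res M) N (eb : MonoidAlgebra (Res M) N) * (E : MonoidAlgebra (Res M) G) ≠ 0 := by
    intro h0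
    obtain ⟨χ, hχ, η, hη, hne⟩ := hcov
    refine inc_setIdem_ne_zero b B hη hχ hne ?_
    set y := inc (localRing M) N (eO : MonoidAlgebra (localRing M) N) *
      (EO : MonoidAlgebra (localRing M) G) with hy
    have h1 : y = 0 := by
      refine eq_zero_of_idem_red y ?_ ?_
      · have hc := (Subring.mem_center_iff.1 EO.2 (inc (localRing M) N eO.1)).symm
        have h3 : eO * eO = eO := ctr_ext_omegaO fun ψ => by
          rw [map_mul, omegaO_setIdemO]; split_ifs <;> simp
        have h4 : EO * EO = EO := ctr_ext_omegaO fun ψ => by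
          rw [map_mul, omegaO_setIdemO]; split_ifs <;> simp
        rw [hy, mul_assoc, ← mul_assoc EO.1, hc, mul_assoc _ EO.1, ← Subring.coe_mul _ EO EO, h4,
          ← mul_assoc, ← map_mul, ← Subring.coe_mul, h3]
      · rw [hy, map_mul, map_inc]; exact h0
    have h2 := congrArg (MonoidAlgebra.mapRingHom G (localRing M).subtype) h1
    rw [hy, map_mul, map_inc, map_zero] at h2
    rw [← toC_setIdemO b (memLocalRing_blockCoeff hUb),
      ← toC_setIdemO B (memLocalRing_blockCoeff hUB)]
    exact h2
  -- primitivity of the covered idempotent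
  obtain ⟨w, hw, hww, hwE, hann⟩ := exists_central_idem N E.2 hEE
  set f : Ctr (Res M) N := eb * ⟨w, hw⟩ with hf
  have hff : IsIdempotentElem f := by
    have : (⟨w, hw⟩ : Ctr (Res M) N) * ⟨w, hw⟩ = ⟨w, hw⟩ := Subtype.ext hww
    rw [IsIdempotentElem, hf, mul_mul_mul_comm, hebb, this]
  have hfb : ∀ η, η ∈ b → omegaBar M η f = omegaBar M θ f := fun η hη => by
    rw [eq_blockOf_of_mem hb hθ] at hη
    exact (DFunLike.congr_fun ((sameBlock_iff θ η).1 hη) f).symm
  have hfn : ∀ η, η ∉ b → omegaBar M η f = 0 := fun η hη => by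
    rw [hf, map_mul, omegaBar_idemBar, if_neg hη, zero_mul]
  have hf0 : f = 0 := by
    rcases IsIdempotentElem.iff_eq_zero_or_one.1 (hff.map (omegaBar M θ)) with h0 | h1
    · exact hff.eq_zero_of_isNilpotent (isNilpotent_of_omegaBar_eq_zero f fun η => by
        by_cases hη : η ∈ b
        · rw [hfb η hη, h0]
        · exact hfn η hη)
    · exfalso
      have hfe : f = eb := eq_of_isNilpotent_sub_of_isIdempotentElem hff hebb
        (isNilpotent_of_omegaBar_eq_zero _ fun η => by
          rw [map_sub, omegaBar_idemBar]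
          by_cases hη : η ∈ b
          · rw [hfb η hη, h1, if_pos hη, sub_self]
          · rw [hfn η hη, if_neg hη, sub_self])
      refine hne ?_
      rw [← hfe, hf, Subring.coe_mul, map_mul, mul_assoc, hwE, mul_zero]
  -- the character above nothing gives an annihilator
  have key : ∀ x : MonoidAlgebra (Res M) N,
      inc (Res M) N x * MonoidAlgebra.mapRingHom G (red M) (EO : MonoidAlgebra (localRing M) G) = 0 →
      x * MonoidAlgebra.mapRingHom N (red M) ((1 - eO : Ctr (localRing M) N).1) = 0 → x = 0 := by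
    intro x h1 h2
    have hxe : x * (eb : MonoidAlgebra (Res M) N) = x := by
      rw [AddSubgroupClass.coe_sub, Subring.coe_one, map_sub, map_one, mul_sub, mul_one, sub_eq_zero] at h2
      exact h2.symm
    have hxw := hann x h1
    rw [← hxw, ← hxe, mul_assoc]
    have := congrArg Subtype.val hf0
    rw [hf, Subring.coe_mul] at this
    rw [show (eb : MonoidAlgebra (Res M) N) * w = 0 from this, mul_zero]
  have hz := lift_ann N (EO : MonoidAlgebra (localRing M) G) _ key
    (setIdemC {θ} : MonoidAlgebra ℂ N) ?_ ?_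
  · have h0 := omega_setIdemC {θ} θ
    rw [show setIdemC ({θ} : Set (IrrCharacter N)) = 0 from Subtype.ext hz, map_zero,
      if_pos (Set.mem_singleton θ)] at h0
    exact zero_ne_one h0
  · have h := inc_setIdem_eq_zero θ B hno
    rw [← toC_setIdemO B (memLocalRing_blockCoeff hUB)] at h
    exact h
  · have hp : setIdemC {θ} * toC M (1 - eO) = 0 := ctr_ext_omega fun ψ => by
      rw [map_mul, omega_setIdemC, map_sub, map_one, heO, toC_setIdemO, map_sub, map_one,
        omega_setIdemC, map_zero]
      by_cases hψ : ψ ∈ ({θ} : Set (IrrCharacter N))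
      · rw [if_pos hψ, Set.mem_singleton_iff.1 hψ, if_pos hθ]; simp
      · rw [if_neg hψ, zero_mul]
    exact congrArg Subtype.val hp

end CfsgLib.BlocksLocal.CoverAll
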