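import Cfsg.Agent.BlocksLocal.NormalClasses
import Cfsg.Agent.Blocks.Height
import Cfsg.Agent.PLocal.Cores
import Cfsg.Agent.Blocks.FirstMain

/-!
# Fong's theorem on covering blocks of maximal defect

For a block `b` of a normal subgroup `N` invariant in the group, a covering block of largest
defect has a defect group `P` with `P ⊓ N` a defect group of `b` and `P N` of index prime to `p`.
-/

set_option autoImplicit false
set_option linter.style.haveILetI false
set_option linter.unusedSectionVars false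

namespace CfsgLib.BlocksLocal

open Cfsg CfsgLib.Blocks
open CfsgLib.BlockPairs (cj cj_mono card_cj)

universe u

variable {G : Type u} [Group G] [Fintype G] {M : Ideal AlgInt} [M.IsPrime] {p : ℕ} [Fact p.Prime]
  (N : Subgroup G) [hN : N.Normal] [Fintype N]

/-- The intersection of a Sylow subgroup of `C` with the normal subgroup is Sylow in `C ⊓ N`. -/
theorem isSylowIn_inf {C P : Subgroup G} (hP : IsSylowIn p C P) :
    IsSylowIn p (C ⊓ N) (P ⊓ N) := by
  refine ⟨inf_le_inf_right N hP.1, hP.2.1.to_le inf_le_left, fun hd => hP.2.2 (hd.trans ?_)⟩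
  have h1 : (P ⊓ N).relIndex (C ⊓ N) = P.relIndex (C ⊓ N) := by
    rw [← Subgroup.inf_relIndex_right (H := P) (K := C ⊓ N), ← inf_assoc,
      inf_of_le_left hP.1]
  rw [h1, ← Subgroup.relIndex_subgroupOf (inf_le_left : C ⊓ N ≤ C)]
  haveI : ((C ⊓ N).subgroupOf C).Normal := ⟨fun a ha x => by
    rw [Subgroup.mem_subgroupOf] at ha ⊢
    exact ⟨SetLike.coe_mem _, hN.conj_mem _ ha.2 _⟩⟩
  rw [← Subgroup.inf_relIndex_right]
  have h2 := Subgroup.relIndex_sup_right (P.subgroupOf C) ((C ⊓ N).subgroupOf C)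
  calc (P.subgroupOf C ⊓ (C ⊓ N).subgroupOf C).relIndex ((C ⊓ N).subgroupOf C)
      = (P.subgroupOf C).relIndex ((C ⊓ N).subgroupOf C) := Subgroup.inf_relIndex_right _ _
    _ ∣ P.relIndex C := by
      have h3 := PLocal.card_sup_dvd_mul (P.subgroupOf C) ((C ⊓ N).subgroupOf C)
      set A := P.subgroupOf C
      set B := (C ⊓ N).subgroupOf C
      have e1 := PLocal.card_mul_relIndex (le_sup_left : A ≤ A ⊔ B)
      have e2 := PLocal.card_mul_relIndex (inf_le_right : A ⊓ B ≤ B)
      have e3 := PLocal.card_mul_relIndex (inf_le_left : A ⊓ B ≤ A)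
      have e4 : B.relIndex A = B.relIndex (A ⊔ B) := by rw [Subgroup.relIndex_sup_right]
      have e5 := PLocal.card_mul_relIndex (le_sup_right : B ≤ A ⊔ B)
      rw [Subgroup.inf_relIndex_right] at e2
      rw [Subgroup.inf_relIndex_left] at e3
      have e6 : Nat.card A * A.relIndex B = Nat.card A * A.relIndex (A ⊔ B) := by
        rw [e1, ← e5, ← e4, ← e2, ← e3]
        ring
      rw [Nat.eq_of_mul_eq_mul_left Nat.card_pos e6]
      exact Dvd.intro _ (Subgroup.relIndex_mul_index (le_sup_left : A ≤ A ⊔ B))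

theorem isSylowIn_subgroupOf_of {H C D : Subgroup G}
    (hD : IsSylowIn p (C ⊓ H) D) : IsSylowIn p (C.subgroupOf H) (D.subgroupOf H) := by
  refine ⟨fun u hu => (hD.1 hu).1, hD.2.1.comap_subtype, ?_⟩
  rw [← Subgroup.inf_subgroupOf_right C H, Subgroup.relIndex_subgroupOf inf_le_right]
  exact hD.2.2

theorem centralizer_singleton_subgroupOf (n : N) :
    Subgroup.centralizer ({n} : Set N) =
      (Subgroup.centralizer ({(n : G)} : Set G)).subgroupOf N := by
  ext u
  rw [Subgroup.mem_subgroupOf, Subgroup.mem_centralizer_singleton_iff,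
    Subgroup.mem_centralizer_singleton_iff, Subtype.ext_iff]
  rfl

/-- An invariant block and its extension to a central element of the group. -/
theorem exists_invariant_idem {b : Set (IrrCharacter N)} (hb : Cfsg.IsPBlock M b)
    (hinv : ∀ (g : G), ∀ θ ∈ b, conjIrr N θ g ∈ b) :
    ∃ w : Ctr (Res M) G, (∀ g : G, g ∉ N → (w : MonoidAlgebra (Res M) G).coeff g = 0) ∧
      resCtr N w = idemBar M b (isBlockUnion_of_isPBlock hb) ∧ w * w = w := by
  classical
  have hbb : coverSet N b = b := subset_antisymm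
    (fun ψ ⟨g, θ, hθ, e⟩ => e ▸ hinv g θ hθ) (subset_coverSet N b)
  obtain ⟨w, hw, hres⟩ := exists_ext N (idemBar M b (isBlockUnion_of_isPBlock hb)) fun g n => by
    rw [coeff_idemBar, coeff_idemBar]
    congr 1
    refine Subtype.ext ?_
    have := blockCoeff_coverSet_conj N b g n
    rwa [hbb] at this
  refine ⟨w, hw, hres, ctr_ext fun g => ?_⟩
  by_cases hg : g ∈ N
  · have := congrArg (fun a : Ctr (Res M) N => (a : MonoidAlgebra (Res M) N).coeff ⟨g, hg⟩)
      (show resCtr N (w * w) = resCtr N w by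
        rw [resCtr_mul_of_supported N w w hw, hres, idemBar_mul_self])
    simpa using this
  · rw [hw g hg, Subring.coe_mul, coeff_mul_eq_sum]
    refine Finset.sum_eq_zero fun x _ => ?_
    by_cases hx : x ∈ N
    · rw [hw (x⁻¹ * g) fun h => hg (mul_inv_cancel_left x g ▸ N.mul_mem hx h), mul_zero]
    · rw [hw x hx, zero_mul]

open Classical in
/-- Fong's theorem. -/
theorem fong (hM : Cfsg.IsPModular p M) {b : Set (IrrCharacter N)} (hb : Cfsg.IsPBlock M b)
    (hinv : ∀ (g : G), ∀ θ ∈ b, conjIrr N θ g ∈ b)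
    {B : Set (IrrCharacter G)} (hB : Cfsg.IsPBlock M B)
    (hcov : ∃ χ ∈ B, ∃ θ ∈ b, Cfsg.classInner (fun n : N => (χ : G → ℂ) n) (θ : N → ℂ) ≠ 0)
    (hmax : ∀ B' : Set (IrrCharacter G), Cfsg.IsPBlock M B' →
      (∃ χ ∈ B', ∃ θ ∈ b, Cfsg.classInner (fun n : N => (χ : G → ℂ) n) (θ : N → ℂ) ≠ 0) →
        Cfsg.blockDefect p B' ≤ Cfsg.blockDefect p B)
    {P : Subgroup G} (hP : Cfsg.IsDefectGroup p M B P) :
    ¬ p ∣ (P ⊔ N).index ∧ Cfsg.IsDefectGroup p M b ((P ⊓ N).subgroupOf N) ∧
      Cfsg.blockDefect p B = Cfsg.blockDefect p b + N.index.factorization p := by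
  haveI := charP_res hM
  have hbu := isBlockUnion_of_isPBlock hb
  obtain ⟨w, hw, hres, -⟩ := exists_invariant_idem (M := M) N hb hinv
  obtain ⟨θ, hθ⟩ := isPBlock_nonempty hb
  -- the reduced central characters of `w` pick the covering characters
  have homega : ∀ (χ : IrrCharacter G) (ψ : IrrCharacter N),
      Cfsg.classInner (fun n : N => (χ : G → ℂ) n) (ψ : N → ℂ) ≠ 0 →
      omegaBar M χ w = if ψ ∈ b then 1 else 0 := fun χ ψ hψ => by
    rw [omegaBar_eq_of_covers N hψ w hw, hres, omegaBar_idemBar]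
  set A : Set (IrrCharacter G) := {χ | omegaBar M χ w = 1} with hA
  have hAu : IsBlockUnion M A := fun χ hχ ψ hψ => by
    show omegaBar M ψ w = 1
    rw [← (sameBlock_iff χ ψ).1 hψ]
    exact hχ
  have hcovA : ∀ χ ∈ A, ∃ ψ ∈ b,
      Cfsg.classInner (fun n : N => (χ : G → ℂ) n) (ψ : N → ℂ) ≠ 0 := by
    intro χ hχ
    obtain ⟨ψ, hψ⟩ := exists_constituent N χ
    refine ⟨ψ, ?_, hψ⟩
    by_contra hn
    have h1 : omegaBar M χ w = 1 := hχ
    rw [homega χ ψ hψ, if_neg hn] at h1
    exact zero_ne_one h1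
  -- a class on which both the idempotent and the central character survive
  have h1 : omegaBar M θ (resCtr N w) = 1 := by rw [hres, omegaBar_idemBar, if_pos hθ]
  haveI := Fintype.ofFinite (ConjClasses G)
  rw [eq_sum_classSum w, map_sum, map_sum] at h1
  obtain ⟨C₀, -, hC₀⟩ := Finset.exists_ne_zero_of_sum_ne_zero (h1 ▸ one_ne_zero)
  obtain ⟨g₀, rfl⟩ := ConjClasses.mk_surjective C₀
  rw [omegaBar_resCtr_scalar_mul, classCoeff_mk, mul_ne_zero_iff] at hC₀
  obtain ⟨hg₀, hω₀⟩ := hC₀
  obtain ⟨S, hS, -⟩ := exists_isSylowIn_ge (p := p)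
    (K := Subgroup.centralizer ({g₀} : Set G)) IsPGroup.of_bot bot_le
  have hgN₀ : g₀ ∈ N := by
    by_contra h
    exact hg₀ (hw g₀ h)
  -- every covering block is nonzero at the class
  have hωB : ∀ χ ∈ A, omegaBar M χ (classSum _ (ConjClasses.mk g₀)) ≠ 0 := by
    intro χ hχ
    obtain ⟨ψ, hψb, hψ⟩ := hcovA χ hχ
    have h := omegaBar_classSum_eq_of_covers (M := M) N hψ ⟨g₀, hgN₀⟩
    rw [eq_blockOf_of_mem hb hθ, mem_blockOf] at hψb
    rw [← (sameBlock_iff θ ψ).1 hψb] at h
    rw [h]
    exact hω₀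
  -- one of them has the class as a defect class
  obtain ⟨χ₁, hχ₁A, hχ₁⟩ : ∃ χ₁ ∈ A,
      ¬ Cfsg.MemLocalIdeal M (Cfsg.blockCoeff (Cfsg.blockOf M (χ₁ : G → ℂ)) g₀) := by
    by_contra hno
    push Not at hno
    have hAw : Cfsg.MemLocalIdeal M (Cfsg.blockCoeff A g₀) := by
      rw [blockCoeff_eq_sum]
      haveI := Fintype.ofFinite (Set (IrrCharacter G))
      rw [← Finset.sum_fiberwise (s := (Finset.univ : Finset (IrrCharacter G)))
        (g := fun χ : IrrCharacter G => Cfsg.blockOf M (χ : G → ℂ)), Finset.mul_sum]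
      refine memLocalIdeal_sum _ fun B' _ => ?_
      by_cases hne : ∃ χ ∈ A, Cfsg.blockOf M (χ : G → ℂ) = B'
      · obtain ⟨χ, hχA, rfl⟩ := hne
        have := hno χ hχA
        rw [blockCoeff_eq_sum] at this
        convert this using 2
        rw [Finset.sum_filter]
        refine Finset.sum_congr rfl fun ψ _ => ?_
        by_cases hψ : Cfsg.blockOf M (ψ : G → ℂ) = Cfsg.blockOf M (χ : G → ℂ)
        · have hm : ψ ∈ Cfsg.blockOf M (χ : G → ℂ) := hψ ▸ mem_blockOf_self ψ
          rw [if_pos hψ, if_pos hm, if_pos (hAu χ hχA hm)]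
        · rw [if_neg hψ, if_neg fun hm => hψ (blockOf_eq_of_mem hm)]
      · rw [Finset.sum_eq_zero fun ψ hψ => ?_, mul_zero]
        · exact memLocalIdeal_zero
        · exact if_neg fun hψA => hne ⟨ψ, hψA, (Finset.mem_filter.1 hψ).2⟩
    refine hg₀ ?_
    have he : idemBar M A hAu = w := by
      refine idem_eq_of_omegaBar_eq (idemBar_mul_self A hAu) ?_ fun χ => ?_
      · exact (exists_invariant_idem (M := M) N hb hinv).elim fun w' hw' => by
          have : w' = w := ctr_ext fun g => by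
            by_cases hg : g ∈ N
            · have := congrArg (fun a : Ctr (Res M) N =>
                (a : MonoidAlgebra (Res M) N).coeff ⟨g, hg⟩) (hw'.2.1.trans hres.symm)
              simpa using this
            · rw [hw g hg, hw'.1 g hg]
          exact this ▸ hw'.2.2
      · obtain ⟨ψ, hψ⟩ := exists_constituent N χ
        rw [omegaBar_idemBar, homega χ ψ hψ]
        have hiff : χ ∈ A ↔ ψ ∈ b := by
          rw [hA, Set.mem_ofPred_eq, homega χ ψ hψ]
          constructor
          · intro h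
            by_contra hn
            rw [if_neg hn] at h
            exact zero_ne_one h
          · intro h; rw [if_pos h]
        simp only [hiff]
    rw [← he, coeff_idemBar]
    exact red_eq_zero_iff.2 hAw
  have hB₁ := isPBlock_blockOf (M := M) χ₁
  have hdef₁ : Cfsg.IsDefectGroup p M (Cfsg.blockOf M (χ₁ : G → ℂ)) S :=
    isDefectGroup_iff.2 ⟨g₀, (isDefectClass_iff hB₁ (mem_blockOf_self χ₁) g₀).2
      ⟨(not_memLocalIdeal_blockCoeff_iff _ g₀).1 hχ₁, hωB χ₁ hχ₁A⟩, hS⟩
  obtain ⟨χB, hχB, θB, hθB, hcovB⟩ := hcov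
  have hχBA : χB ∈ A := by
    show omegaBar M χB w = 1
    rw [homega χB θB hcovB, if_pos hθB]
  obtain ⟨ψ₁, hψ₁, hcov₁⟩ := hcovA χ₁ hχ₁A
  have hd := hmax _ hB₁ ⟨χ₁, mem_blockOf_self χ₁, ψ₁, hψ₁, hcov₁⟩
  obtain ⟨y, hy⟩ := IsDefectGroup.exists_conj_le hM hB hP hχB (hωB χB hχBA) hS
  have hyS : cj y P = S := by
    refine Subgroup.eq_of_le_of_card_ge hy ?_
    rw [card_cj, card_defectGroup hM hB hP, card_defectGroup hM hB₁ hdef₁]
    exact Nat.pow_le_pow_right (Fact.out : p.Prime).pos hd
  -- move the class so that `P` is Sylow in the centralizer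
  set g := y⁻¹ * g₀ * y with hgdef
  have hconj : ConjClasses.mk g = ConjClasses.mk g₀ :=
    ConjClasses.mk_eq_mk_iff_isConj.2 (isConj_iff.2 ⟨y, by rw [hgdef]; group⟩)
  have hPC : IsSylowIn p (Subgroup.centralizer ({g} : Set G)) P := by
    have := hS.conj y⁻¹
    rw [← hyS] at this
    rw [show P = (cj y P).map (MulAut.conj y⁻¹).toMonoidHom from (BlockPairs.cj_inv_cj y P).symm,
      show g = y⁻¹ * g₀ * (y⁻¹)⁻¹ by rw [hgdef, inv_inv], centralizer_singleton_conj]
    exact this
  have hgN : g ∈ N := by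
    have := hN.conj_mem g₀ hgN₀ y⁻¹
    rwa [inv_inv] at this
  have hwg : (w : MonoidAlgebra (Res M) G).coeff g ≠ 0 := by
    rwa [coeff_eq_of_isConj w.2 (ConjClasses.mk_eq_mk_iff_isConj.1 hconj)]
  have hωg : omegaBar M θ (resCtr N (classSum _ (ConjClasses.mk g))) ≠ 0 := by
    rwa [hconj]
  -- the classes of `N` over `g` carry one value
  set n : N := ⟨g, hgN⟩ with hn
  have hconst : ∀ C ∈ classesOver N g,
      omegaBar M θ (classSum _ C) = omegaBar M θ (classSum _ (ConjClasses.mk n)) := by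
    intro C hC
    obtain ⟨x, rfl⟩ := exists_conjNormal_of_mem_classesOver N
      (show ConjClasses.mk n ∈ classesOver N g from (mem_classesOver N).2 (IsConj.refl _)) hC
    rw [omegaBar_classSum_conjNormal]
    have := hinv x θ hθ
    rw [eq_blockOf_of_mem hb hθ, mem_blockOf] at this
    rw [← (sameBlock_iff θ _).1 this]
  rw [omegaBar_resCtr_classSum_eq_sum, Finset.sum_congr rfl hconst, Finset.sum_const,
    nsmul_eq_mul, mul_ne_zero_iff, ne_eq, CharP.cast_eq_zero_iff (Res M) p] at hωg
  obtain ⟨ht, hωn⟩ := hωg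
  have hwn : (idemBar M b hbu : MonoidAlgebra (Res M) N).coeff n ≠ 0 := by
    rw [← hres, coeff_resCtr]
    exact hwg
  have hclass : Cfsg.IsDefectClass M b n := (isDefectClass_iff hb hθ n).2 ⟨hwn, hωn⟩
  have hdefb : Cfsg.IsDefectGroup p M b ((P ⊓ N).subgroupOf N) := by
    refine isDefectGroup_iff.2 ⟨n, hclass, ?_⟩
    rw [centralizer_singleton_subgroupOf]
    exact isSylowIn_subgroupOf_of (isSylowIn_inf N hPC)
  -- the p-parts
  have hidx := congrArg (fun m => m.factorization p) (card_classesOver_mul N n)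
  rw [Nat.factorization_mul (fun h0 : (classesOver N (n : G)).card = 0 => ht (h0 ▸ dvd_zero p))
      Subgroup.index_ne_zero_of_finite, Finsupp.add_apply,
    Nat.factorization_eq_zero_of_not_dvd ht, zero_add] at hidx
  have hi1 := index_centralizer_factorization hPC
  have hi2 := index_centralizer_factorization
    (show IsSylowIn p (Subgroup.centralizer ({n} : Set N)) ((P ⊓ N).subgroupOf N) by
      rw [centralizer_singleton_subgroupOf]
      exact isSylowIn_subgroupOf_of (isSylowIn_inf N hPC))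
  rw [Nat.card_congr (Subgroup.subgroupOfEquivOfLe (inf_le_right : P ⊓ N ≤ N)).toEquiv] at hi2
  have hd1 := blockDefect_eq hM hB hP
  have hd2 := blockDefect_eq hM hb hdefb
  rw [Nat.card_congr (Subgroup.subgroupOfEquivOfLe (inf_le_right : P ⊓ N ≤ N)).toEquiv] at hd2
  have hGN : (Nat.card G).factorization p =
      (Nat.card N).factorization p + N.index.factorization p := by
    rw [← Subgroup.card_mul_index N, Nat.factorization_mul Nat.card_pos.ne'
      Subgroup.index_ne_zero_of_finite, Finsupp.add_apply]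
  have hg' : (n : G) = g := rfl
  rw [hg'] at hidx
  refine ⟨fun hdvd => ?_, hdefb, by omega⟩
  -- the index of `P ⊔ N`
  have e1 := PLocal.card_mul_relIndex (le_sup_right : N ≤ P ⊔ N)
  have e2 := PLocal.card_mul_relIndex (inf_le_left : P ⊓ N ≤ P)
  rw [Subgroup.relIndex_sup_right] at e1
  rw [Subgroup.inf_relIndex_left] at e2
  have e3 := congrArg (fun m => m.factorization p) e1
  have e4 := congrArg (fun m => m.factorization p) e2
  have hne : ∀ H K : Subgroup G, H.relIndex K ≠ 0 := fun H K =>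
    Subgroup.index_ne_zero_of_finite
  simp only [Nat.factorization_mul Nat.card_pos.ne' (hne _ _),
    Finsupp.add_apply] at e3 e4
  have e5 : (Nat.card G).factorization p =
      (Nat.card ↥(P ⊔ N)).factorization p + (P ⊔ N).index.factorization p := by
    rw [← Subgroup.card_mul_index (P ⊔ N), Nat.factorization_mul Nat.card_pos.ne'
      Subgroup.index_ne_zero_of_finite, Finsupp.add_apply]
  have e6 := Nat.Prime.factorization_pos_of_dvd (Fact.out : p.Prime)
    Subgroup.index_ne_zero_of_finite hdvd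
  omega

end CfsgLib.BlocksLocal
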