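import Cfsg.Agent.BlocksLocal.Covering
import Cfsg.Agent.BlocksLocal.LocalConjugacy
import Cfsg.Agent.Blocks.InducedDefect
import Cfsg.Agent.Blocks.FirstMain

/-!
# Defect groups of covering blocks (Knörr)

If a block `B` of `G` covers a block `b` of a normal subgroup `N`, some defect group of `B` meets
`N` in a defect group of `b`.  The key point is that some `N`-fixed element of the group algebra
carries the idempotent of `B` to an element of the centre of the algebra of `N` with nonzero
central character at `b`: otherwise the idempotent, graded by the cosets of `N`, would be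
nilpotent.
-/

set_option autoImplicit false
set_option linter.style.haveILetI false
set_option linter.unusedSectionVars false

namespace CfsgLib.BlocksLocal.Knorr

open Cfsg CfsgLib.Blocks CfsgLib.BlocksLocal
open CfsgLib.BlockPairs (conjA conjA_coeff IsFixed IsSupp cj mem_cj)

universe u

variable {G : Type u} [Group G] [Fintype G] {M : Ideal AlgInt} [M.IsPrime]
  (N : Subgroup G) [hN : N.Normal] [Fintype N]

/-- The part in `N` of an element fixed by `N`, as a central element of the algebra of `N`. -/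
noncomputable def toN (a : MonoidAlgebra (Res M) G) (ha : IsFixed N a) : Ctr (Res M) N :=
  ⟨ofFun fun n => a.coeff (n : G), mem_ctr_iff.2 fun g h => by
    simp only [coeff_ofFun, Subgroup.coe_mul, Subgroup.coe_inv]
    exact ha.coeff' h.2 _⟩

theorem coeff_toN (a : MonoidAlgebra (Res M) G) (ha : IsFixed N a) (n : N) :
    (toN N a ha : MonoidAlgebra (Res M) N).coeff n = a.coeff (n : G) := by simp [toN]

theorem isFixed_mul {a b : MonoidAlgebra (Res M) G} (ha : IsFixed N a) (hb : IsFixed N b) :
    IsFixed N (a * b) := fun u hu => by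
  rw [BlockPairs.conjA_mul, ha u hu, hb u hu]

theorem toN_mul (a b : MonoidAlgebra (Res M) G) (ha : IsFixed N a) (hb : IsFixed N b)
    (hs : IsSupp N a) : toN N (a * b) (isFixed_mul N ha hb) = toN N a ha * toN N b hb := by
  classical
  refine ctr_ext fun n => ?_
  rw [coeff_toN, Subring.coe_mul, coeff_mul_eq_sum, coeff_mul_eq_sum]
  simp only [coeff_toN, Subgroup.coe_mul, Subgroup.coe_inv]
  rw [← Finset.sum_subset (Finset.subset_univ (Finset.univ.filter (· ∈ N)))
    (fun g _ hg => by
      rw [hs.coeff_eq_zero fun h => hg (Finset.mem_filter.2 ⟨Finset.mem_univ _, h⟩), zero_mul])]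
  exact Finset.sum_subtype (p := (· ∈ N)) _ (fun g => by simp)
    (fun g => a.coeff g * b.coeff (g⁻¹ * (n : G)))

/-- `a` lives on the coset `q`. -/
def Deg (q : G ⧸ N) (a : MonoidAlgebra (Res M) G) : Prop :=
  ∀ x : G, a.coeff x ≠ 0 → (x : G ⧸ N) = q

theorem deg_mul {q q' : G ⧸ N} {a b : MonoidAlgebra (Res M) G} (ha : Deg N q a) (hb : Deg N q' b) :
    Deg N (q * q') (a * b) := by
  intro x hx
  rw [coeff_mul_eq_sum] at hx
  obtain ⟨y, -, hy⟩ := Finset.exists_ne_zero_of_sum_ne_zero hx
  rw [mul_ne_zero_iff] at hy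
  rw [← ha y hy.1, ← hb _ hy.2, ← QuotientGroup.mk_mul, mul_inv_cancel_left]

theorem deg_one : Deg N (1 : G ⧸ N) (1 : MonoidAlgebra (Res M) G) := by
  intro x hx
  rw [MonoidAlgebra.one_def, MonoidAlgebra.coeff_single] at hx
  rw [← (Finsupp.single_apply_ne_zero.1 hx).1.symm]
  rfl

theorem isSupp_of_deg {a : MonoidAlgebra (Res M) G} (ha : Deg N (1 : G ⧸ N) a) : IsSupp N a :=
  fun x hx => (QuotientGroup.eq_one_iff x).1 (ha x hx)

open Classical in
/-- The component on a coset. -/
noncomputable def comp (q : G ⧸ N) (a : MonoidAlgebra (Res M) G) : MonoidAlgebra (Res M) G :=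
  ofFun fun x => if (x : G ⧸ N) = q then a.coeff x else 0

theorem deg_comp (q : G ⧸ N) (a : MonoidAlgebra (Res M) G) : Deg N q (comp N q a) := fun x hx => by
  by_contra h
  exact hx (by simp [comp, h])

theorem isFixed_comp (q : G ⧸ N) {a : MonoidAlgebra (Res M) G} (ha : IsFixed N a) :
    IsFixed N (comp N q a) := fun u hu => BlockPairs.ga_ext fun x => by
  have h1 : (u : G ⧸ N) = 1 := (QuotientGroup.eq_one_iff u).2 hu
  rw [conjA_coeff]
  have hq : ((u⁻¹ * x * u : G) : G ⧸ N) = (x : G ⧸ N) := by
    rw [QuotientGroup.mk_mul, QuotientGroup.mk_mul, QuotientGroup.mk_inv, h1, inv_one, one_mul,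
      mul_one]
  simp only [comp, coeff_ofFun, ha.coeff hu]
  by_cases hxq : (x : G ⧸ N) = q
  · rw [if_pos hxq, if_pos (hq.trans hxq)]
  · rw [if_neg hxq, if_neg fun h => hxq (hq.symm.trans h)]

open Classical in
theorem sum_comp [Fintype (G ⧸ N)] (a : MonoidAlgebra (Res M) G) : ∑ q, comp N q a = a :=
  BlockPairs.ga_ext fun x => by
    simp [comp, MonoidAlgebra.coeff_sum, Finsupp.finset_sum_apply]

/-- Products of as many killed central elements as there are irreducible characters vanish. -/
theorem listProd_eq_zero {H : Type u} [Group H] [Fintype H] (l : List (Ctr (Res M) H))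
    (hl : l.length = Fintype.card (IrrCharacter H))
    (h : ∀ a ∈ l, ∀ χ : IrrCharacter H, omegaBar M χ a = 0) : l.prod = 0 := by
  classical
  choose g hg using fun a : Ctr (Res M) H => redCtr_surjective a
  let σ : Fin l.length ≃ IrrCharacter H := (Fintype.equivFinOfCardEq hl.symm).symm
  have hP : ∏ i : Fin l.length, (g (l.get i) - scalar (omegaO M (σ i) (g (l.get i)))) = 0 := by
    refine ctr_ext_omegaO fun χ => ?_
    rw [map_prod, map_zero]
    exact Finset.prod_eq_zero (Finset.mem_univ (σ.symm χ))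
      (by rw [map_sub, omegaO_scalar, Equiv.apply_symm_apply, sub_self])
  have h' := congrArg (redCtr M) hP
  rw [map_prod, map_zero, Finset.prod_congr rfl (g := fun i => l.get i) fun i _ => by
    rw [map_sub, redCtr, mapCtr_scalar, ← omegaBar_redCtr, ← redCtr, hg,
      h _ (List.get_mem l i), map_zero, sub_zero]] at h'
  rw [← h', ← List.prod_ofFn, List.ofFn_get]

/-- An element of degree zero killed by all central characters of `N`. -/
def IsKilled (a : MonoidAlgebra (Res M) G) : Prop :=
  IsSupp N a ∧ ∃ ha : IsFixed N a, ∀ χ : IrrCharacter N, omegaBar M χ (toN N a ha) = 0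

theorem listProd_killed (l : List (MonoidAlgebra (Res M) G))
    (hl : l.length = Fintype.card (IrrCharacter N)) (h : ∀ a ∈ l, IsKilled N a) : l.prod = 0 := by
  have key : ∀ (l : List (MonoidAlgebra (Res M) G)), (∀ a ∈ l, IsKilled N a) →
      ∃ hf : IsFixed N l.prod, IsSupp N l.prod ∧ ∃ l' : List (Ctr (Res M) N),
        l'.length = l.length ∧ toN N l.prod hf = l'.prod ∧
        ∀ a ∈ l', ∀ χ : IrrCharacter N, omegaBar M χ a = 0 := by
    intro l
    induction l with
    | nil =>
      intro _
      have h1 : IsSupp N (1 : MonoidAlgebra (Res M) G) := isSupp_of_deg N (deg_one N)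
      refine ⟨fun u _ => by rw [List.prod_nil, BlockPairs.conjA_one], by rwa [List.prod_nil],
        [], rfl, ctr_ext fun n => ?_, by simp⟩
      classical
      simp [coeff_toN, MonoidAlgebra.one_def, Finsupp.single_apply, eq_comm]
    | cons a l ih =>
      intro hal
      obtain ⟨hs, ha, hω⟩ := hal a (List.mem_cons_self ..)
      obtain ⟨hf, hsl, l', hlen, hprod, hl'⟩ := ih fun b hb => hal b (List.mem_cons_of_mem _ hb)
      refine ⟨by rw [List.prod_cons]; exact isFixed_mul N ha hf,
        by rw [List.prod_cons]; exact BlockPairs.isSupp_mul hs hsl,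
        toN N a ha :: l', by simp [hlen], ?_, ?_⟩
      · refine Eq.trans ?_ (List.prod_cons (a := toN N a ha) (l := l')).symm
        rw [← hprod, ← toN_mul N a l.prod ha hf hs]
        exact ctr_ext fun n => by simp [coeff_toN]
      · rintro b (_ | ⟨_, hb⟩)
        exacts [hω, hl' b hb]
  obtain ⟨hf, hs, l', hlen, hprod, hl'⟩ := key l h
  rw [listProd_eq_zero l' (hlen.trans hl) hl'] at hprod
  refine BlockPairs.ga_ext fun x => ?_
  by_cases hx : x ∈ N
  · have := congrArg (fun z : Ctr (Res M) N => (z : MonoidAlgebra (Res M) N).coeff ⟨x, hx⟩) hprod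
    simpa [coeff_toN] using this
  · simp [hs.coeff_eq_zero hx]

/-- An element all whose homogeneous right multiples have killed components of degree one is
nilpotent. -/
theorem exists_pow_eq_zero [Fintype (G ⧸ N)] {e : MonoidAlgebra (Res M) G} (he : IsFixed N e)
    (h : ∀ (q : G ⧸ N) (c : MonoidAlgebra (Res M) G), IsFixed N c → Deg N q⁻¹ c →
      IsKilled N (comp N q e * c)) : ∃ m : ℕ, e ^ m = 0 := by
  classical
  set K := Fintype.card (IrrCharacter N)
  have key : ∀ (m : ℕ) (f : G ⧸ N → ℕ) (d : G ⧸ N) (X : MonoidAlgebra (Res M) G),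
      IsFixed N X → Deg N d X → (∑ q, f q) < m →
      (∀ (q : G ⧸ N) (c : MonoidAlgebra (Res M) G), IsFixed N c → Deg N (d⁻¹ * q) c →
        ∀ l : List (MonoidAlgebra (Res M) G), l.length = f q → (∀ a ∈ l, IsKilled N a) →
          X * c * l.prod = 0) → X * e ^ m = 0 := by
    intro m
    induction m with
    | zero => intro f d X _ _ hm _; omega
    | succ m ih =>
      intro f d X hX hXd hm hinv
      rcases Nat.eq_zero_or_pos (f d) with hd | hd
      · have := hinv d 1 (fun u _ => BlockPairs.conjA_one u)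
          (by rw [inv_mul_cancel]; exact deg_one N) [] (by rw [hd]; rfl) (by simp)
        rw [List.prod_nil, mul_one, mul_one] at this
        rw [this, zero_mul]
      rw [pow_succ', ← mul_assoc]
      rw [show X * e = ∑ q, X * comp N q e by rw [← Finset.mul_sum, sum_comp], Finset.sum_mul]
      refine Finset.sum_eq_zero fun q _ => ?_
      refine ih (Function.update f d (f d - 1)) (d * q) (X * comp N q e)
        (isFixed_mul N hX (isFixed_comp N q he)) (deg_mul N hXd (deg_comp N q e)) ?_ ?_
      · rw [Finset.sum_update_of_mem (Finset.mem_univ d), ← Finset.erase_eq]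
        have := Finset.add_sum_erase Finset.univ f (Finset.mem_univ d)
        omega
      · intro q' c hc hcd l hl hkill
        by_cases hq : q' = d
        · subst hq
          rw [Function.update_self] at hl
          have hk : IsKilled N (comp N q e * c) := h q c hc (by
            rwa [mul_inv_rev, mul_assoc, inv_mul_cancel, mul_one] at hcd)
          have := hinv q' 1 (fun u _ => BlockPairs.conjA_one u)
            (by rw [inv_mul_cancel]; exact deg_one N)
            ((comp N q e * c) :: l) (by simp; omega)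
            (by rintro a (_ | ⟨_, ha⟩); exacts [hk, hkill a ha])
          rw [List.prod_cons, mul_one, ← mul_assoc, ← mul_assoc] at this
          exact this
        · rw [Function.update_of_ne hq] at hl
          have := hinv q' (comp N q e * c) (isFixed_mul N (isFixed_comp N q he) hc) (by
            have h2 := deg_mul N (deg_comp N q e) hcd
            rwa [show q * ((d * q)⁻¹ * q') = d⁻¹ * q' by group] at h2) l hl hkill
          rw [← mul_assoc] at this
          exact this
  refine ⟨(∑ _q : G ⧸ N, K) + 1, ?_⟩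
  have := key ((∑ _q : G ⧸ N, K) + 1) (fun _ => K) 1 1 (fun u _ => BlockPairs.conjA_one u)
    (deg_one N) (Nat.lt_succ_self _) fun q c _ _ l hl hk => by
      rw [listProd_killed N l hl hk, mul_zero]
  rwa [one_mul] at this

variable {p : ℕ} [Fact p.Prime]

open Classical in
/-- Some `N`-fixed element carries the idempotent of a covering block to a nonzero value of the
central character of the covered block. -/
theorem exists_toN_omegaBar_ne_zero {B : Set (IrrCharacter G)} (hB : Cfsg.IsPBlock M B)
    {b : Set (IrrCharacter N)} (hb : Cfsg.IsPBlock M b) {θ : IrrCharacter N} (hθ : θ ∈ b)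
    {χ : IrrCharacter G} (hχ : χ ∈ B)
    (hcov : Cfsg.classInner (fun n : N => (χ : G → ℂ) n) (θ : N → ℂ) ≠ 0) :
    ∃ (r : MonoidAlgebra (Res M) G) (hr : IsFixed N r),
      omegaBar M θ (toN N ((idemBar M B (isBlockUnion_of_isPBlock hB) : MonoidAlgebra (Res M) G) * r)
        (isFixed_mul N (isFixed_of_mem_ctr N _) hr)) ≠ 0 := by
  haveI := Fintype.ofFinite (G ⧸ N)
  set eB := idemBar M B (isBlockUnion_of_isPBlock hB) with heB
  by_contra hno
  push Not at hno
  have hA := isBlockUnion_coverSet N (M := M) hb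
  obtain ⟨w, hw, hres⟩ := exists_ext N (idemBar M (coverSet N b) hA) fun g n => by
    rw [coeff_idemBar, coeff_idemBar]
    congr 1
    exact Subtype.ext (blockCoeff_coverSet_conj N b g n)
  have hwB : eB * w = eB := by
    have hwχ : ∀ χ' ∈ B, omegaBar M χ' w = 1 := by
      intro χ' hχ'
      obtain ⟨ψ, hψ⟩ := exists_constituent N χ'
      rw [omegaBar_eq_of_covers N hψ w hw, hres, omegaBar_idemBar,
        if_pos (mem_coverSet_of_covers N hB hb hχ hθ hcov hχ' hψ)]
    have hww : w * w = w := ctr_ext fun g => by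
      by_cases hg : g ∈ N
      · have := congrArg (fun a : Ctr (Res M) N => (a : MonoidAlgebra (Res M) N).coeff ⟨g, hg⟩)
          (show resCtr N (w * w) = resCtr N w by
            have e1 : toN N ((w : MonoidAlgebra (Res M) G) * (w : MonoidAlgebra (Res M) G))
                (isFixed_mul N (isFixed_of_mem_ctr N w) (isFixed_of_mem_ctr N w)) =
                resCtr N (w * w) := ctr_ext fun n => by simp [coeff_toN]
            have e2 : toN N (w : MonoidAlgebra (Res M) G) (isFixed_of_mem_ctr N w) = resCtr N w :=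
              ctr_ext fun n => by simp [coeff_toN]
            rw [← e1, toN_mul N _ _ (isFixed_of_mem_ctr N w) (isFixed_of_mem_ctr N w)
              (fun x hx => by_contra fun h => hx (hw x h)), e2, hres,
              idemBar_mul_self])
        simpa using this
      · rw [hw g hg, Subring.coe_mul, coeff_mul_eq_sum]
        refine Finset.sum_eq_zero fun x _ => ?_
        by_cases hx : x ∈ N
        · rw [hw (x⁻¹ * g) fun h => hg (mul_inv_cancel_left x g ▸ N.mul_mem hx h), mul_zero]
        · rw [hw x hx, zero_mul]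
    refine idem_eq_of_omegaBar_eq ?_ (idemBar_mul_self _ _) fun χ' => ?_
    · rw [mul_mul_mul_comm, hww, idemBar_mul_self]
    · rw [map_mul, omegaBar_idemBar]
      by_cases h : χ' ∈ B
      · rw [hwχ χ' h, mul_one]
      · rw [if_neg h, zero_mul]
  have hwfix : IsFixed N (w : MonoidAlgebra (Res M) G) := isFixed_of_mem_ctr N w
  have hwsupp : IsSupp N (w : MonoidAlgebra (Res M) G) := fun x hx =>
    by_contra fun h => hx (hw x h)
  have hall : ∀ (r : MonoidAlgebra (Res M) G) (hr : IsFixed N r) (ψ : IrrCharacter N),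
      omegaBar M ψ (toN N ((eB : MonoidAlgebra (Res M) G) * r)
        (isFixed_mul N (isFixed_of_mem_ctr N _) hr)) = 0 := by
    intro r hr ψ
    by_cases hψ : ψ ∈ coverSet N b
    · obtain ⟨x, θ', hθ', rfl⟩ := hψ
      have hfix : IsFixed N (conjA (Res M) x r) := fun u hu => by
        have h1 : conjA (Res M) (x⁻¹ * u * x) r = r := hr _ (by
          simpa using hN.conj_mem u hu x⁻¹)
        calc conjA (Res M) u (conjA (Res M) x r)
            = conjA (Res M) x (conjA (Res M) (x⁻¹ * u * x) r) := by
              rw [BlockPairs.conjA_conjA, BlockPairs.conjA_conjA]; congr 1; group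
          _ = conjA (Res M) x r := by rw [h1]
      have h0 := hno (conjA (Res M) x r) hfix
      have hθθ : omegaBar M θ' = omegaBar M θ := by
        rw [eq_blockOf_of_mem hb hθ, mem_blockOf] at hθ'
        exact ((sameBlock_iff θ θ').1 hθ').symm
      rw [← hθθ] at h0
      rw [show conjIrr N θ' x = BlockPairs.irrComp (MulAut.conjNormal (H := N) x) θ' from
        Subtype.ext rfl, omegaBar_irrComp _ _ _ _ fun n => ?_]
      · exact h0
      · rw [coeff_toN, coeff_toN]
        have hc : conjA (Res M) x (eB : MonoidAlgebra (Res M) G) = eB :=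
          isFixed_of_mem_ctr ⊤ eB x trivial
        conv_rhs => rw [← hc, ← BlockPairs.conjA_mul, conjA_coeff, MulAut.conjNormal_apply]
        congr 1
        group
    · have e : toN N ((eB : MonoidAlgebra (Res M) G) * r)
          (isFixed_mul N (isFixed_of_mem_ctr N _) hr) =
          resCtr N w * toN N ((eB : MonoidAlgebra (Res M) G) * r)
            (isFixed_mul N (isFixed_of_mem_ctr N _) hr) := by
        have e2 : toN N (w : MonoidAlgebra (Res M) G) hwfix = resCtr N w :=
          ctr_ext fun n => by simp [coeff_toN]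
        rw [← e2, ← toN_mul N _ _ hwfix (isFixed_mul N (isFixed_of_mem_ctr N _) hr) hwsupp]
        refine ctr_ext fun n => ?_
        rw [coeff_toN, coeff_toN, ← mul_assoc, ← Subring.coe_mul, mul_comm w eB, hwB]
      rw [e, map_mul, hres, omegaBar_idemBar, if_neg hψ, zero_mul]
  obtain ⟨m, hm⟩ := exists_pow_eq_zero N (isFixed_of_mem_ctr N eB) fun q c hc hcd => by
    refine ⟨isSupp_of_deg N (mul_inv_cancel q ▸ deg_mul N (deg_comp N q _) hcd),
      isFixed_mul N (isFixed_comp N q (isFixed_of_mem_ctr N eB)) hc, fun ψ => ?_⟩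
    refine Eq.trans ?_ (hall c hc ψ)
    congr 1
    refine ctr_ext fun n => ?_
    rw [coeff_toN, coeff_toN, coeff_mul_eq_sum, coeff_mul_eq_sum]
    refine Finset.sum_congr rfl fun x _ => ?_
    by_cases hx : c.coeff (x⁻¹ * (n : G)) = 0
    · rw [hx, mul_zero, mul_zero]
    · have h1 := hcd _ hx
      rw [QuotientGroup.mk_mul, (QuotientGroup.eq_one_iff (n : G)).2 n.2, mul_one,
        QuotientGroup.mk_inv, inv_inj] at h1
      simp [comp, h1]
  have hnil : eB ^ m = 0 := Subtype.ext (by simpa using hm)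
  have h1 := congrArg (omegaBar M χ) hnil
  rw [map_pow, omegaBar_idemBar, if_pos hχ, one_pow, map_zero] at h1
  exact one_ne_zero h1

open Classical in
/-- Knörr's theorem. -/
theorem exists_defectGroup_inf_eq (hM : Cfsg.IsPModular p M) {b : Set (IrrCharacter N)}
    (hb : Cfsg.IsPBlock M b) {Q : Subgroup G} (hQN : Q ≤ N)
    (hQ : Cfsg.IsDefectGroup p M b (Q.subgroupOf N)) {B : Set (IrrCharacter G)}
    (hB : Cfsg.IsPBlock M B) {χ : IrrCharacter G} (hχ : χ ∈ B) {θ : IrrCharacter N} (hθ : θ ∈ b)
    (hcov : Cfsg.classInner (fun n : N => (χ : G → ℂ) n) (θ : N → ℂ) ≠ 0) :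
    ∃ P : Subgroup G, Cfsg.IsDefectGroup p M B P ∧ P ⊓ N = Q := by
  haveI := charP_res hM
  set eB := idemBar M B (isBlockUnion_of_isPBlock hB) with heB
  obtain ⟨D, hD⟩ := exists_isDefectGroup (p := p) hB
  have hDp := IsDefectGroup.isPGroup hD
  -- `Q` lies in a defect group
  obtain ⟨r, hr, hne⟩ := exists_toN_omegaBar_ne_zero N hB hb hθ hχ hcov
  set z := toN N ((eB : MonoidAlgebra (Res M) G) * r) (isFixed_mul N (isFixed_of_mem_ctr N _) hr)
  haveI := Fintype.ofFinite (ConjClasses N)
  rw [eq_sum_classSum z, map_sum] at hne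
  obtain ⟨C, -, hC⟩ := Finset.exists_ne_zero_of_sum_ne_zero hne
  obtain ⟨n, rfl⟩ := ConjClasses.mk_surjective C
  rw [map_mul, omegaBar_scalar, classCoeff_mk, mul_ne_zero_iff, coeff_toN] at hC
  obtain ⟨hzn, hωn⟩ := hC
  obtain ⟨S, hS, -⟩ := exists_isSylowIn_ge (p := p) (K := Subgroup.centralizer ({n} : Set N))
    IsPGroup.of_bot bot_le
  obtain ⟨y, hy⟩ := IsDefectGroup.exists_conj_le hM hb hQ hθ hωn hS
  set S' := S.map N.subtype
  have hS'p : IsPGroup p S' := hS.2.1.map N.subtype
  have hS'N : S' ≤ N := Subgroup.map_subtype_le S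
  have hnS : (n : G) ∈ Subgroup.centralizer (S' : Set G) := by
    refine Subgroup.mem_centralizer_iff.2 ?_
    rintro _ ⟨s, hs, rfl⟩
    exact congrArg Subtype.val (Subgroup.mem_centralizer_singleton_iff.1 (hS.1 hs))
  have hbr := congrArg (fun a : MonoidAlgebra (Res M) G => a.coeff (n : G))
    (BlockPairs.br_mul (F := Res M) hS'p (isFixed_of_mem_ctr S' eB) (hr.mono hS'N))
  simp only [BlockPairs.br_coeff_mem _ _ hnS] at hbr
  rw [hbr, coeff_mul_eq_sum] at hzn
  obtain ⟨x, -, hx⟩ := Finset.exists_ne_zero_of_sum_ne_zero hzn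
  have hxC : x ∈ Subgroup.centralizer (S' : Set G) := by
    by_contra h
    rw [BlockPairs.br_coeff_not_mem _ _ h, zero_mul] at hx
    exact hx rfl
  rw [BlockPairs.br_coeff_mem _ _ hxC, mul_ne_zero_iff] at hx
  obtain ⟨g₁, hg₁⟩ := IsDefectGroup.domBy hM hB hD S' hS'p x hxC hx.1
  have hQS : cj (y : G) Q ≤ S' := by
    intro a ha
    rw [mem_cj] at ha
    refine ⟨⟨a, ?_⟩, hy ?_, rfl⟩
    · have := N.mul_mem (N.mul_mem y.2 (hQN ha)) (N.inv_mem y.2)
      simpa [mul_assoc] using this
    · rw [mem_cj, Subgroup.mem_subgroupOf]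
      exact ha
  have hQle : Q ≤ cj ((y : G)⁻¹ * g₁⁻¹) D ⊓ N := by
    refine le_inf (fun a ha => ?_) hQN
    rw [mem_cj]
    have h1 : (y : G) * a * (y : G)⁻¹ ∈ S' := hQS (by rw [mem_cj]; simpa [mul_assoc] using ha)
    have h2 : g₁ * ((y : G) * a * (y : G)⁻¹) * g₁⁻¹ ∈ D := hg₁ (by
      rw [mem_cj]; simpa [mul_assoc] using h1)
    simpa [mul_assoc] using h2
  set P := cj ((y : G)⁻¹ * g₁⁻¹) D with hPdef
  have hP : Cfsg.IsDefectGroup p M B P := IsDefectGroup.conj hB hD _
  -- and `P ⊓ N` is no larger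
  refine ⟨P, hP, (Subgroup.eq_of_le_of_card_ge hQle ?_).symm⟩
  have hA := isBlockUnion_coverSet N (M := M) hb
  obtain ⟨g, hg, hgne⟩ := IsDefectGroup.exists_coeff hB hP
  obtain ⟨w, hw, hres⟩ := exists_ext N (idemBar M (coverSet N b) hA) fun g n => by
    rw [coeff_idemBar, coeff_idemBar]
    congr 1
    exact Subtype.ext (blockCoeff_coverSet_conj N b g n)
  have hnz : ∃ x₀ : N, (x₀ : G) ∈ Subgroup.centralizer (P : Set G) ∧
      (idemBar M (coverSet N b) hA : MonoidAlgebra (Res M) N).coeff x₀ ≠ 0 := by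
    have hwB : w * eB = eB := by
      have hwχ : ∀ χ' ∈ B, omegaBar M χ' w = 1 := by
        intro χ' hχ'
        obtain ⟨ψ, hψ⟩ := exists_constituent N χ'
        rw [omegaBar_eq_of_covers N hψ w hw, hres, omegaBar_idemBar,
          if_pos (mem_coverSet_of_covers N hB hb hχ hθ hcov hχ' hψ)]
      have hww : resCtr N w * resCtr N w = resCtr N w := by rw [hres, idemBar_mul_self]
      have hww' : w * w = w := ctr_ext fun g => by
        by_cases hgN : g ∈ N
        · have := congrArg (fun a : Ctr (Res M) N => (a : MonoidAlgebra (Res M) N).coeff ⟨g, hgN⟩)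
            hww
          simp only [coeff_resCtr] at this
          rw [← this, Subring.coe_mul, Subring.coe_mul, coeff_mul_eq_sum, coeff_mul_eq_sum]
          simp only [coeff_resCtr, Subgroup.coe_mul, Subgroup.coe_inv]
          rw [← Finset.sum_subset (Finset.subset_univ (Finset.univ.filter (· ∈ N)))
            (fun x _ hxN => by
              rw [hw x fun h => hxN (Finset.mem_filter.2 ⟨Finset.mem_univ _, h⟩), zero_mul])]
          exact Finset.sum_subtype (p := (· ∈ N)) _ (fun x => by simp)
            (fun x => (w : MonoidAlgebra (Res M) G).coeff x *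
              (w : MonoidAlgebra (Res M) G).coeff (x⁻¹ * g))
        · rw [hw g hgN, Subring.coe_mul, coeff_mul_eq_sum]
          refine Finset.sum_eq_zero fun x _ => ?_
          by_cases hxN : x ∈ N
          · rw [hw (x⁻¹ * g) fun h => hgN (mul_inv_cancel_left x g ▸ N.mul_mem hxN h), mul_zero]
          · rw [hw x hxN, zero_mul]
      refine idem_eq_of_omegaBar_eq ?_ (idemBar_mul_self _ _) fun χ' => ?_
      · rw [mul_mul_mul_comm, hww', idemBar_mul_self]
      · rw [map_mul, omegaBar_idemBar]
        by_cases h : χ' ∈ B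
        · rw [hwχ χ' h, one_mul]
        · rw [if_neg h, mul_zero]
    rw [← heB, ← hwB, coeff_mul_centralizer (IsDefectGroup.isPGroup hP) w eB hg] at hgne
    obtain ⟨x₁, -, hx₁⟩ := Finset.exists_ne_zero_of_sum_ne_zero hgne
    by_cases hxc : x₁ ∈ Subgroup.centralizer (P : Set G)
    · rw [if_pos hxc, mul_ne_zero_iff] at hx₁
      have hxN : x₁ ∈ N := by_contra fun h => hx₁.1 (hw x₁ h)
      exact ⟨⟨x₁, hxN⟩, hxc, by rw [← hres, coeff_resCtr]; exact hx₁.1⟩
    · exact absurd (if_neg hxc) hx₁
  obtain ⟨x₀, hx₀C, hx₀⟩ := hnz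
  -- a conjugate of `b` survives at `x₀`
  obtain ⟨ψ, hψA, hψne⟩ : ∃ ψ ∈ coverSet N b,
      ¬ Cfsg.MemLocalIdeal M (Cfsg.blockCoeff (Cfsg.blockOf M (ψ : N → ℂ)) x₀) := by
    by_contra hcon
    push Not at hcon
    refine hx₀ ?_
    rw [coeff_idemBar]
    refine red_eq_zero_iff.2 ?_
    show Cfsg.MemLocalIdeal M (Cfsg.blockCoeff (coverSet N b) x₀)
    rw [blockCoeff_eq_sum]
    haveI := Fintype.ofFinite (Set (IrrCharacter N))
    rw [← Finset.sum_fiberwise (s := (Finset.univ : Finset (IrrCharacter N)))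
      (g := fun η : IrrCharacter N => Cfsg.blockOf M (η : N → ℂ)), Finset.mul_sum]
    refine memLocalIdeal_sum _ fun B' _ => ?_
    by_cases hne' : ∃ η ∈ coverSet N b, Cfsg.blockOf M (η : N → ℂ) = B'
    · obtain ⟨η, hηA, rfl⟩ := hne'
      have := hcon η hηA
      rw [blockCoeff_eq_sum] at this
      convert this using 2
      rw [Finset.sum_filter]
      refine Finset.sum_congr rfl fun η' _ => ?_
      by_cases hη' : Cfsg.blockOf M (η' : N → ℂ) = Cfsg.blockOf M (η : N → ℂ)
      · have hm : η' ∈ Cfsg.blockOf M (η : N → ℂ) := hη' ▸ mem_blockOf_self η'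
        rw [if_pos hη', if_pos hm, if_pos (hA η hηA hm)]
      · rw [if_neg hη', if_neg fun hm => hη' (blockOf_eq_of_mem hm)]
    · rw [Finset.sum_eq_zero fun η hη => ?_, mul_zero]
      · exact memLocalIdeal_zero
      · exact if_neg fun hηA => hne' ⟨η, hηA, (Finset.mem_filter.1 hη).2⟩
  obtain ⟨x, θ', hθ', rfl⟩ := hψA
  have hcoef : Cfsg.blockCoeff (Cfsg.blockOf M (conjIrr N θ' x : N → ℂ)) x₀ =
      Cfsg.blockCoeff b (MulAut.conjNormal (H := N) x x₀) := by
    have hset : ∀ η : IrrCharacter N,
        conjIrr N η x ∈ Cfsg.blockOf M (conjIrr N θ' x : N → ℂ) ↔ η ∈ b := fun η => by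
      rw [eq_blockOf_of_mem hb hθ', mem_blockOf, mem_blockOf]
      refine ⟨fun h => ?_, fun h => sameBlock_conjIrr N h x⟩
      have h2 := sameBlock_conjIrr N h x⁻¹
      rwa [conjIrr_mul, conjIrr_mul, mul_inv_cancel, conjIrr_one, conjIrr_one] at h2
    rw [blockCoeff_eq_sum, blockCoeff_eq_sum]
    congr 1
    refine (Fintype.sum_equiv
      { toFun := fun η => conjIrr N η x
        invFun := fun η => conjIrr N η x⁻¹
        left_inv := fun η => by dsimp only; rw [conjIrr_mul, mul_inv_cancel, conjIrr_one]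
        right_inv := fun η => by dsimp only; rw [conjIrr_mul, inv_mul_cancel, conjIrr_one] } _ _ fun η => ?_).symm
    simp only [Equiv.coe_fn_mk, hset]
    split_ifs
    · rw [show (conjIrr N η x : N → ℂ) = fun a => (η : N → ℂ) (MulAut.conjNormal (H := N) x a)
        from rfl]
      simp
    · rfl
  rw [hcoef] at hψne
  set x₁ := MulAut.conjNormal (H := N) x x₀ with hx₁
  have hne₁ : (idemBar M b (isBlockUnion_of_isPBlock hb) : MonoidAlgebra (Res M) N).coeff x₁ ≠ 0 :=
    (not_memLocalIdeal_blockCoeff_iff _ x₁).1 hψne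
  set R : Subgroup N := (cj x (P ⊓ N)).subgroupOf N
  have hRp : IsPGroup p R :=
    (((IsDefectGroup.isPGroup hP).to_le inf_le_left).map (MulAut.conj x).toMonoidHom).comap_subtype
  have hx₁R : x₁ ∈ Subgroup.centralizer (R : Set N) := by
    refine Subgroup.mem_centralizer_iff.2 fun a ha => Subtype.ext ?_
    have ha' : x⁻¹ * (a : G) * x ∈ P ⊓ N := mem_cj.1 ha
    have := Subgroup.mem_centralizer_iff.1 hx₀C _ ha'.1
    rw [Subgroup.coe_mul, Subgroup.coe_mul, hx₁, MulAut.conjNormal_apply]
    calc (a : G) * (x * x₀ * x⁻¹) = x * (x⁻¹ * a * x * x₀) * x⁻¹ := by group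
      _ = x * (x₀ * (x⁻¹ * a * x)) * x⁻¹ := by rw [this]
      _ = x * x₀ * x⁻¹ * a := by group
  obtain ⟨v, hv⟩ := IsDefectGroup.domBy hM hb hQ R hRp x₁ hx₁R hne₁
  have h1 := Subgroup.card_le_of_le hv
  have hle : cj x (P ⊓ N) ≤ N := by
    intro a ha
    have := hN.conj_mem _ (mem_cj.1 ha).2 x
    simpa [mul_assoc] using this
  rw [BlockPairs.card_cj, Nat.card_congr (Subgroup.subgroupOfEquivOfLe hle).toEquiv,
    BlockPairs.card_cj, Nat.card_congr (Subgroup.subgroupOfEquivOfLe hQN).toEquiv] at h1
  exact h1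

end CfsgLib.BlocksLocal.Knorr
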