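import Mathlib.GroupTheory.Sylow
import Mathlib.GroupTheory.Nilpotent
import Mathlib.GroupTheory.Subgroup.Centralizer
import Mathlib.Algebra.BigOperators.Group.Finset.Basic
import Mathlib.Tactic

/-!
# Cancelling normal chains of p-subgroups fixed by an element

Among the chains of nontrivial p-subgroups, normal in the largest member, whose members a given
p-element `x ≠ 1` normalizes, all but `{⟨x⟩}` cancel in pairs with equal stabilizer in `C(x)`.
-/

set_option autoImplicit false
set_option linter.unusedSectionVars false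

namespace CfsgLib.BlocksLocal.ChainToggle

universe u

variable {G : Type u} [Group G] [Finite G] (p : ℕ) [Fact p.Prime]

/-- The chains. -/
def chains : Set (Finset (Subgroup G)) :=
  {s | s.Nonempty ∧ (∀ Q ∈ s, ∀ R ∈ s, Q ≤ R ∨ R ≤ Q) ∧ (∀ Q ∈ s, Q ≠ ⊥ ∧ IsPGroup p Q) ∧
    ∃ T ∈ s, ∀ Q ∈ s, Q ≤ T ∧ T ≤ Subgroup.normalizer ((Q : Subgroup G) : Set G)}

/-- The stabilizer of a chain. -/
def stab (s : Finset (Subgroup G)) : Subgroup G :=
  ⨅ Q ∈ s, Subgroup.normalizer ((Q : Subgroup G) : Set G)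

theorem mem_stab {s : Finset (Subgroup G)} {g : G} :
    g ∈ stab s ↔ ∀ Q ∈ s, g ∈ Subgroup.normalizer ((Q : Subgroup G) : Set G) := by
  simp [stab, Subgroup.mem_iInf]

variable {p}

theorem mem_normalizer_sup {A B : Subgroup G} {g : G}
    (hA : g ∈ Subgroup.normalizer (A : Set G)) (hB : g ∈ Subgroup.normalizer (B : Set G)) :
    g ∈ Subgroup.normalizer ((A ⊔ B : Subgroup G) : Set G) := by
  have key : ∀ {D : Subgroup G}, g ∈ Subgroup.normalizer (D : Set G) →
      D.map (MulAut.conj g).toMonoidHom = D := by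
    intro D hD
    ext w
    rw [Subgroup.mem_map]
    constructor
    · rintro ⟨v, hv, rfl⟩
      exact (Subgroup.mem_normalizer_iff.1 hD v).1 hv
    · intro hw
      refine ⟨g⁻¹ * w * g, (Subgroup.mem_normalizer_iff.1 hD _).2 ?_, ?_⟩
      · rwa [show g * (g⁻¹ * w * g) * g⁻¹ = w by group]
      · show g * (g⁻¹ * w * g) * g⁻¹ = w
        group
  have e : (A ⊔ B).map (MulAut.conj g).toMonoidHom = A ⊔ B := by
    rw [Subgroup.map_sup, key hA, key hB]
  rw [Subgroup.mem_normalizer_iff]
  intro w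
  constructor
  · intro hw
    rw [← e]
    exact ⟨w, hw, rfl⟩
  · intro hw
    rw [← e] at hw
    obtain ⟨v, hv, hvw⟩ := hw
    rwa [show w = v from ((MulAut.conj g).injective hvw).symm]

theorem mem_normalizer_finsetSup {t : Finset (Subgroup G)} {g : G}
    (h : ∀ Q ∈ t, g ∈ Subgroup.normalizer ((Q : Subgroup G) : Set G)) :
    g ∈ Subgroup.normalizer ((t.sup id : Subgroup G) : Set G) := by
  classical
  induction t using Finset.induction_on with
  | empty =>
    rw [Finset.sup_empty, Subgroup.normalizer_eq_top]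
    exact Subgroup.mem_top g
  | insert a t ha ih =>
    rw [Finset.sup_insert]
    exact mem_normalizer_sup (h a (Finset.mem_insert_self _ _))
      (ih fun Q hQ => h Q (Finset.mem_insert_of_mem hQ))

/-- A largest member. -/
theorem exists_top {s : Finset (Subgroup G)} (hne : s.Nonempty)
    (hch : ∀ Q ∈ s, ∀ R ∈ s, Q ≤ R ∨ R ≤ Q) : ∃ T ∈ s, ∀ Q ∈ s, Q ≤ T := by
  obtain ⟨T, hT, hmax⟩ := s.exists_maximal hne
  exact ⟨T, hT, fun Q hQ => (hch Q hQ T hT).elim id fun h => hmax hQ h⟩

variable (x : G)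

/-- The group generated by the chain and `x`. -/
noncomputable def big (s : Finset (Subgroup G)) : Subgroup G := s.sup id ⊔ Subgroup.zpowers x

open Classical in
/-- The largest member avoiding `x`. -/
noncomputable def low (s : Finset (Subgroup G)) : Subgroup G :=
  (s.filter fun Q => x ∉ Q).sup id

/-- The normal closure of `x` in the group generated by the chain and `x`. -/
noncomputable def nc (s : Finset (Subgroup G)) : Subgroup G :=
  Subgroup.closure {w : G | ∃ k ∈ big x s, k * x * k⁻¹ = w}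

/-- The member to be toggled. -/
noncomputable def rr (s : Finset (Subgroup G)) : Subgroup G := low x s ⊔ nc x s

open Classical in
/-- The pairing. -/
noncomputable def toggle (s : Finset (Subgroup G)) : Finset (Subgroup G) :=
  if rr x s ∈ s then s.erase (rr x s) else insert (rr x s) s

variable {x}

theorem mem_nc (s : Finset (Subgroup G)) : x ∈ nc x s :=
  Subgroup.subset_closure ⟨1, one_mem _, by group⟩

theorem mem_rr (s : Finset (Subgroup G)) : x ∈ rr x s :=
  (le_sup_right : nc x s ≤ rr x s) (mem_nc s)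

theorem le_big {s : Finset (Subgroup G)} {Q : Subgroup G} (hQ : Q ∈ s) : Q ≤ big x s :=
  (Finset.le_sup (f := id) hQ).trans le_sup_left

theorem mem_big (s : Finset (Subgroup G)) : x ∈ big x s :=
  (le_sup_right : Subgroup.zpowers x ≤ big x s) (Subgroup.mem_zpowers x)

theorem low_le_big (s : Finset (Subgroup G)) : low x s ≤ big x s := by
  classical
  exact Finset.sup_le fun _ hQ => le_big (Finset.mem_filter.1 hQ).1

theorem nc_le_big (s : Finset (Subgroup G)) : nc x s ≤ big x s := by
  rw [nc, Subgroup.closure_le]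
  rintro _ ⟨k, hk, rfl⟩
  exact mul_mem (mul_mem hk (mem_big s)) (inv_mem hk)

theorem rr_le_big (s : Finset (Subgroup G)) : rr x s ≤ big x s :=
  sup_le (low_le_big s) (nc_le_big s)

/-- In a p-group a subgroup generating it together with the conjugates of its elements is
everything. -/
theorem le_of_normalClosure {K L : Subgroup G} (hK : IsPGroup p K) (hLK : L ≤ K)
    (h : ∀ N : Subgroup G, L ≤ N → N ≤ K → K ≤ Subgroup.normalizer (N : Set G) → K ≤ N) :
    K ≤ L := by
  haveI : Finite K := inferInstance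
  haveI := hK.isNilpotent
  by_contra hne
  have hne' : L.subgroupOf K ≠ ⊤ := fun e => hne (Subgroup.subgroupOf_eq_top.1 e)
  obtain ⟨m, hm, hLm⟩ := (eq_top_or_exists_le_coatom (L.subgroupOf K)).resolve_left hne'
  haveI : m.Normal := Subgroup.NormalizerCondition.normal_of_coatom m
    Group.normalizerCondition_of_isNilpotent hm
  refine hm.1 ?_
  have h1 := h (m.map K.subtype) ?_ (Subgroup.map_subtype_le m) ?_
  · refine Subgroup.map_injective K.subtype_injective
      (le_antisymm ((Subgroup.map_subtype_le m).trans ?_) ?_)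
    · rw [← MonoidHom.range_eq_map, Subgroup.range_subtype]
    · rw [← MonoidHom.range_eq_map, Subgroup.range_subtype]
      exact h1
  · intro l hl
    exact ⟨⟨l, hLK hl⟩, hLm hl, rfl⟩
  · intro k hk
    rw [Subgroup.mem_normalizer_iff]
    intro w
    constructor
    · rintro ⟨v, hv, rfl⟩
      exact ⟨⟨k, hk⟩ * v * ⟨k, hk⟩⁻¹, Subgroup.Normal.conj_mem ‹m.Normal› v hv _, rfl⟩
    · rintro ⟨v, hv, hvw⟩
      refine ⟨⟨k, hk⟩⁻¹ * v * ⟨k, hk⟩, ?_, ?_⟩
      · have := Subgroup.Normal.conj_mem ‹m.Normal› v hv ⟨k, hk⟩⁻¹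
        rwa [inv_inv] at this
      · show k⁻¹ * (v : G) * k = w
        rw [show ((v : G)) = k * w * k⁻¹ from hvw]
        group

section Valid

variable {s : Finset (Subgroup G)}

theorem facts (hx : ∃ j, orderOf x = p ^ j) (hs : s ∈ chains p) (hxs : x ∈ stab s) :
    IsPGroup p (big x s) ∧
      ∀ Q ∈ s, big x s ≤ Subgroup.normalizer ((Q : Subgroup G) : Set G) := by
  obtain ⟨hne, hch, hpg, T, hT, hTop⟩ := hs
  have hsup : s.sup id = T :=
    le_antisymm (Finset.sup_le fun Q hQ => (hTop Q hQ).1) (Finset.le_sup (f := id) hT)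
  obtain ⟨j, hj⟩ := hx
  have hxp : IsPGroup p (Subgroup.zpowers x) :=
    IsPGroup.of_card (n := j) (by rw [Nat.card_zpowers, hj])
  rw [big, hsup]
  refine ⟨(hpg T hT).2.to_sup_of_normal_left' hxp
    (Subgroup.zpowers_le.2 (mem_stab.1 hxs T hT)), fun Q hQ => ?_⟩
  exact sup_le (hTop Q hQ).2 (Subgroup.zpowers_le.2 (mem_stab.1 hxs Q hQ))

theorem nc_normal : big x s ≤ Subgroup.normalizer ((nc x s : Subgroup G) : Set G) := by
  intro k hk
  have hmap : ∀ k ∈ big x s, (nc x s).map (MulAut.conj k).toMonoidHom ≤ nc x s := by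
    intro k hk
    rw [nc, MonoidHom.map_closure, Subgroup.closure_le]
    rintro _ ⟨_, ⟨l, hl, rfl⟩, rfl⟩
    refine Subgroup.subset_closure ⟨k * l, mul_mem hk hl, ?_⟩
    show k * l * x * (k * l)⁻¹ = k * (l * x * l⁻¹) * k⁻¹
    group
  rw [Subgroup.mem_normalizer_iff]
  intro w
  constructor
  · exact fun hw => hmap k hk ⟨w, hw, rfl⟩
  · intro hw
    have h1 := hmap k⁻¹ (inv_mem hk) ⟨_, hw, rfl⟩
    have e : (MulAut.conj k⁻¹).toMonoidHom (k * w * k⁻¹) = w := by
      show k⁻¹ * (k * w * k⁻¹) * k⁻¹⁻¹ = w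
      group
    rwa [e] at h1

theorem rr_normal (hQ : ∀ Q ∈ s, big x s ≤ Subgroup.normalizer ((Q : Subgroup G) : Set G)) :
    big x s ≤ Subgroup.normalizer ((rr x s : Subgroup G) : Set G) := by
  classical
  exact fun k hk => mem_normalizer_sup (mem_normalizer_finsetSup fun Q hQs => hQ Q (Finset.mem_filter.1 hQs).1 hk)
    (nc_normal hk)

theorem low_mem (hs : s ∈ chains p) : low x s = ⊥ ∨ (low x s ∈ s ∧ x ∉ low x s) := by
  classical
  by_cases hf : (s.filter fun Q => x ∉ Q).Nonempty
  · right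
    obtain ⟨A, hA, hAm⟩ := exists_top hf fun Q hQ R hR =>
      hs.2.1 Q (Finset.mem_filter.1 hQ).1 R (Finset.mem_filter.1 hR).1
    have e : low x s = A := le_antisymm (Finset.sup_le hAm) (Finset.le_sup (f := id) hA)
    rw [e]
    exact Finset.mem_filter.1 hA
  · left
    rw [low, Finset.not_nonempty_iff_eq_empty.1 hf, Finset.sup_empty]

theorem rr_comparable (hs : s ∈ chains p)
    (hQ : ∀ Q ∈ s, big x s ≤ Subgroup.normalizer ((Q : Subgroup G) : Set G))
    {Q : Subgroup G} (hQs : Q ∈ s) : (x ∉ Q ∧ Q ≤ rr x s) ∨ (x ∈ Q ∧ rr x s ≤ Q) := by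
  classical
  by_cases hxQ : x ∈ Q
  · refine Or.inr ⟨hxQ, sup_le ?_ ?_⟩
    · rcases low_mem (x := x) hs with h | ⟨hA, hxA⟩
      · rw [h]; exact bot_le
      · exact (hs.2.1 _ hA Q hQs).elim id fun h => absurd (h hxQ) hxA
    · rw [nc, Subgroup.closure_le]
      rintro _ ⟨k, hk, rfl⟩
      exact (Subgroup.mem_normalizer_iff.1 (hQ Q hQs hk) x).1 hxQ
  · exact Or.inl ⟨hxQ, (Finset.le_sup (f := id) (Finset.mem_filter.2 ⟨hQs, hxQ⟩)).trans le_sup_left⟩

theorem toggle_mem_chains (hx1 : x ≠ 1) (hx : ∃ j, orderOf x = p ^ j) (hs : s ∈ chains p)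
    (hxs : x ∈ stab s) (hne : (toggle x s).Nonempty) : toggle x s ∈ chains p := by
  classical
  obtain ⟨hK, hQ⟩ := facts hx hs hxs
  have hmem : ∀ Q ∈ toggle x s, Q = rr x s ∨ Q ∈ s := by
    intro Q hQt
    rw [toggle] at hQt
    split_ifs at hQt
    · exact Or.inr (Finset.mem_of_mem_erase hQt)
    · exact Finset.mem_insert.1 hQt
  have hcmp : ∀ Q ∈ s, Q ≤ rr x s ∨ rr x s ≤ Q := fun Q hQs =>
    (rr_comparable hs hQ hQs).elim (fun h => Or.inl h.2) fun h => Or.inr h.2
  have hch : ∀ Q ∈ toggle x s, ∀ R ∈ toggle x s, Q ≤ R ∨ R ≤ Q := by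
    intro Q h1 R h2
    rcases hmem Q h1 with rfl | h1 <;> rcases hmem R h2 with rfl | h2
    · exact Or.inl le_rfl
    · exact (hcmp R h2).symm
    · exact hcmp Q h1
    · exact hs.2.1 Q h1 R h2
  have hle : ∀ Q ∈ toggle x s, Q ≤ big x s := fun Q h1 => by
    rcases hmem Q h1 with rfl | h1
    exacts [rr_le_big s, le_big h1]
  refine ⟨hne, hch, fun Q h1 => ⟨?_, hK.to_le (hle Q h1)⟩, ?_⟩
  · rcases hmem Q h1 with rfl | h1
    · intro e
      have := mem_rr (x := x) s
      rw [e, Subgroup.mem_bot] at this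
      exact hx1 this
    · exact (hs.2.2.1 Q h1).1
  · obtain ⟨T, hT, hTm⟩ := exists_top hne hch
    refine ⟨T, hT, fun Q h1 => ⟨hTm Q h1, (hle T hT).trans ?_⟩⟩
    rcases hmem Q h1 with rfl | h1
    exacts [rr_normal hQ, hQ Q h1]

theorem centralizer_stab_le_normalizer :
    stab s ⊓ Subgroup.centralizer ({x} : Set G) ≤
      Subgroup.normalizer ((rr x s : Subgroup G) : Set G) := by
  classical
  rintro c ⟨hcs, hcx⟩
  have hc : c * x = x * c := Subgroup.mem_centralizer_singleton_iff.1 hcx
  have hcQ := mem_stab.1 hcs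
  have hbig : ∀ {d : G}, d ∈ stab s → d * x = x * d →
      d ∈ Subgroup.normalizer ((big x s : Subgroup G) : Set G) := fun {d} hd hdx =>
    mem_normalizer_sup (mem_normalizer_finsetSup fun Q hQ => mem_stab.1 hd Q hQ)
      (Subgroup.centralizer_le_normalizer _ (Subgroup.mem_centralizer_iff.2 fun v ⟨i, hi⟩ =>
        hi ▸ ((show Commute d x from hdx).zpow_right i).eq.symm))
  refine mem_normalizer_sup (mem_normalizer_finsetSup fun Q hQ =>
    hcQ Q (Finset.mem_filter.1 hQ).1) ?_
  have hmap : ∀ d : G, d ∈ stab s → d * x = x * d →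
      ∀ w ∈ nc x s, d * w * d⁻¹ ∈ nc x s := by
    intro d hd hdx w hw
    have : (nc x s).map (MulAut.conj d).toMonoidHom ≤ nc x s := by
      rw [nc, MonoidHom.map_closure, Subgroup.closure_le]
      rintro _ ⟨_, ⟨l, hl, rfl⟩, rfl⟩
      refine Subgroup.subset_closure
        ⟨d * l * d⁻¹, (Subgroup.mem_normalizer_iff.1 (hbig hd hdx) l).1 hl, ?_⟩
      show d * l * d⁻¹ * x * (d * l * d⁻¹)⁻¹ = d * (l * x * l⁻¹) * d⁻¹
      rw [show d * l * d⁻¹ * x * (d * l * d⁻¹)⁻¹ = d * l * (d⁻¹ * (x * d)) * l⁻¹ * d⁻¹ by group,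
        ← hdx]
      group
    exact this ⟨w, hw, rfl⟩
  rw [Subgroup.mem_normalizer_iff]
  intro w
  refine ⟨hmap c hcs hc w, fun hw => ?_⟩
  have h1 := hmap c⁻¹ (inv_mem hcs) (Commute.inv_left (show Commute c x from hc)).eq _ hw
  rwa [show c⁻¹ * (c * w * c⁻¹) * c⁻¹⁻¹ = w by group] at h1

theorem stab_toggle :
    stab (toggle x s) ⊓ Subgroup.centralizer ({x} : Set G) ≥
      stab s ⊓ Subgroup.centralizer ({x} : Set G) := by
  classical
  refine le_inf (fun c hc => mem_stab.2 fun Q hQ => ?_) inf_le_right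
  rw [toggle] at hQ
  split_ifs at hQ
  · exact mem_stab.1 hc.1 Q (Finset.mem_of_mem_erase hQ)
  · rcases Finset.mem_insert.1 hQ with rfl | h
    exacts [centralizer_stab_le_normalizer hc, mem_stab.1 hc.1 Q h]

theorem mem_stab_toggle (hxs : x ∈ stab s) : x ∈ stab (toggle x s) :=
  (stab_toggle (s := s) ⟨hxs, Subgroup.mem_centralizer_singleton_iff.2 rfl⟩).1

theorem rr_insensitive (hx : ∃ j, orderOf x = p ^ j) (hs : s ∈ chains p) (hxs : x ∈ stab s) :
    rr x (toggle x s) = rr x s := by
  classical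
  obtain ⟨hK, hQ⟩ := facts hx hs hxs
  have hlow : low x (toggle x s) = low x s := by
    rw [low, low]
    congr 1
    rw [toggle]
    split_ifs
    · rw [Finset.filter_erase]
      exact Finset.erase_eq_self.2 fun h =>
        (show x ∉ rr x s from (Finset.mem_filter.1 h).2) (mem_rr s)
    · rw [Finset.filter_insert, if_neg (not_not.2 (mem_rr s))]
  suffices hb : big x (toggle x s) = big x s by rw [rr, rr, nc, nc, hb, hlow]
  rw [toggle]
  split_ifs with hR
  · refine le_antisymm (sup_le (Finset.sup_le fun Q h => le_big (Finset.mem_of_mem_erase h))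
      le_sup_right) ?_
    by_cases hRT : rr x s = big x s
    · refine le_of_normalClosure hK
        (sup_le (Finset.sup_le fun Q h => le_big (Finset.mem_of_mem_erase h)) le_sup_right)
        fun N hLN hNK hKN => ?_
      refine hRT.ge.trans (sup_le (le_trans ?_ hLN) ?_)
      · rcases low_mem (x := x) hs with h | ⟨hA, hxA⟩
        · rw [h]; exact bot_le
        · exact le_big (Finset.mem_erase.2 ⟨fun e => hxA (e ▸ mem_rr s), hA⟩)
      · rw [nc, Subgroup.closure_le]
        rintro _ ⟨k, hk, rfl⟩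
        exact (Subgroup.mem_normalizer_iff.1 (hKN hk) x).1 (hLN (mem_big _))
    · obtain ⟨T, hT, hTop⟩ := exists_top hs.1 hs.2.1
      have hTR : T ≠ rr x s := by
        intro e
        refine hRT (le_antisymm (rr_le_big s) (sup_le (Finset.sup_le fun Q h => e ▸ hTop Q h) ?_))
        exact Subgroup.zpowers_le.2 (mem_rr s)
      exact sup_le ((Finset.sup_le hTop).trans (le_big (Finset.mem_erase.2 ⟨hTR, hT⟩)))
        le_sup_right
  · refine le_antisymm (sup_le (Finset.sup_le fun Q h => ?_) le_sup_right)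
      (sup_le_sup_right (Finset.sup_mono (Finset.subset_insert _ _)) _)
    rcases Finset.mem_insert.1 h with rfl | h
    exacts [rr_le_big s, le_big h]

theorem toggle_toggle (hx : ∃ j, orderOf x = p ^ j) (hs : s ∈ chains p) (hxs : x ∈ stab s) :
    toggle x (toggle x s) = s := by
  classical
  have e := rr_insensitive hx hs hxs
  rw [show toggle x (toggle x s) = if rr x (toggle x s) ∈ toggle x s then
    (toggle x s).erase (rr x (toggle x s)) else insert (rr x (toggle x s)) (toggle x s) from rfl, e]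
  by_cases hR : rr x s ∈ s
  · rw [show toggle x s = s.erase (rr x s) from if_pos hR, if_neg (Finset.notMem_erase _ _),
      Finset.insert_erase hR]
  · rw [show toggle x s = insert (rr x s) s from if_neg hR, if_pos (Finset.mem_insert_self _ _),
      Finset.erase_insert hR]

theorem stab_toggle_eq (hx : ∃ j, orderOf x = p ^ j) (hs : s ∈ chains p) (hxs : x ∈ stab s) :
    stab (toggle x s) ⊓ Subgroup.centralizer ({x} : Set G) =
      stab s ⊓ Subgroup.centralizer ({x} : Set G) := by
  refine le_antisymm ?_ stab_toggle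
  have := stab_toggle (x := x) (s := toggle x s)
  rwa [toggle_toggle hx hs hxs] at this

theorem rr_singleton (hx : ∃ j, orderOf x = p ^ j) :
    rr x ({Subgroup.zpowers x} : Finset (Subgroup G)) = Subgroup.zpowers x := by
  classical
  have hb : big x ({Subgroup.zpowers x} : Finset (Subgroup G)) = Subgroup.zpowers x := by
    simp [big]
  exact le_antisymm ((rr_le_big _).trans hb.le) (Subgroup.zpowers_le.2 (mem_rr _))

theorem toggle_nonempty (hx : ∃ j, orderOf x = p ^ j) (hs : s ∈ chains p) (hxs : x ∈ stab s)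
    (hne : s ≠ {Subgroup.zpowers x}) : (toggle x s).Nonempty := by
  classical
  rw [toggle]
  split_ifs with hR
  · by_contra hem
    rw [Finset.not_nonempty_iff_eq_empty, Finset.erase_eq_empty_iff] at hem
    rcases hem with h | h
    · rw [h] at hR; exact absurd hR (Finset.notMem_empty _)
    obtain ⟨hK, hQ⟩ := facts hx hs hxs
    refine hne (h.trans (congrArg _ (le_antisymm ?_ (Subgroup.zpowers_le.2 (mem_rr s)))))
    have hbig : big x s = rr x s := le_antisymm (sup_le
      (Finset.sup_le fun Q hQs => le_of_eq (Finset.mem_singleton.1 (h ▸ hQs)))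
      (Subgroup.zpowers_le.2 (mem_rr s))) (rr_le_big s)
    refine hbig.ge.trans (le_of_normalClosure hK le_sup_right fun N hLN _ hKN => ?_)
    refine hbig.le.trans (sup_le ?_ ?_)
    · rcases low_mem (x := x) hs with e | ⟨hA, hxA⟩
      · rw [e]; exact bot_le
      · rw [h, Finset.mem_singleton] at hA
        rw [← h] at hA
        rw [hA] at hxA
        exact absurd (mem_rr s) hxA
    · rw [nc, Subgroup.closure_le]
      rintro _ ⟨k, hk, rfl⟩
      exact (Subgroup.mem_normalizer_iff.1 (hKN hk) x).1 (hLN (Subgroup.mem_zpowers x))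
  · exact Finset.insert_nonempty _ _

theorem card_toggle : (toggle x s).card + 1 = s.card ∨ (toggle x s).card = s.card + 1 := by
  classical
  rw [toggle]
  split_ifs with h
  · exact Or.inl (Finset.card_erase_add_one h)
  · exact Or.inr (Finset.card_insert_of_notMem h)

end Valid

open Classical in
/-- The signed sum of a function of the stabilizer in `C(x)` over the chains fixed by `g`. -/
theorem sum_chains {R : Type*} [CommRing R] (hx1 : x ≠ 1) (hx : ∃ j, orderOf x = p ^ j) {g : G}
    (hgx : Commute g x) (hxg : x ∈ Subgroup.zpowers g) (C : Finset (Finset (Subgroup G)))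
    (hC : ∀ s, s ∈ C ↔ s ∈ chains p) (f : Subgroup G → R) :
    ∑ s ∈ C, (if g ∈ stab s then
      (-1 : R) ^ (s.card - 1) * f (stab s ⊓ Subgroup.centralizer ({x} : Set G)) else 0) =
      f (Subgroup.centralizer ({x} : Set G)) := by
  have hgC : g ∈ Subgroup.centralizer ({x} : Set G) :=
    Subgroup.mem_centralizer_singleton_iff.2 hgx.eq
  set s₀ : Finset (Subgroup G) := {Subgroup.zpowers x}
  have hs0 : s₀ ∈ C := by
    rw [hC]
    obtain ⟨j, hj⟩ := hx
    have hp' : IsPGroup p (Subgroup.zpowers x) :=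
      IsPGroup.of_card (n := j) (by rw [Nat.card_zpowers, hj])
    refine ⟨Finset.singleton_nonempty _, fun Q hQ R hR => Or.inl ?_,
      fun Q hQ => ?_, _, Finset.mem_singleton_self _, fun Q hQ => ?_⟩
    · rw [Finset.mem_singleton.1 hQ, Finset.mem_singleton.1 hR]
    · rw [Finset.mem_singleton.1 hQ]
      exact ⟨fun e => hx1 (Subgroup.zpowers_eq_bot.1 e), hp'⟩
    · rw [Finset.mem_singleton.1 hQ]
      exact ⟨le_rfl, Subgroup.le_normalizer⟩
  have hst0 : Subgroup.centralizer ({x} : Set G) ≤ stab s₀ := fun c hc => mem_stab.2 fun Q hQ => by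
    rw [Finset.mem_singleton.1 hQ]
    exact Subgroup.centralizer_le_normalizer _ (Subgroup.mem_centralizer_iff.2 fun v ⟨i, hi⟩ =>
      hi ▸ ((show Commute c x from Subgroup.mem_centralizer_singleton_iff.1 hc).zpow_right i).eq.symm)
  rw [← Finset.add_sum_erase C _ hs0, if_pos (hst0 hgC), inf_eq_right.2 hst0,
    Finset.card_singleton, pow_zero, one_mul, add_eq_left, ← Finset.sum_filter]
  have hmem : ∀ {s : Finset (Subgroup G)}, s ∈ (C.erase s₀).filter (fun s => g ∈ stab s) →
      s ∈ chains p ∧ x ∈ stab s ∧ s ≠ s₀ ∧ g ∈ stab s := by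
    intro s hs
    rw [Finset.mem_filter, Finset.mem_erase, hC] at hs
    exact ⟨hs.1.2, Subgroup.zpowers_le.2 hs.2 hxg, hs.1.1, hs.2⟩
  refine Finset.sum_involution (fun s _ => toggle x s) (fun s hs => ?_) (fun s hs _ => ?_)
    (fun s hs => ?_) fun s hs => ?_
  · obtain ⟨h1, h2, h3, -⟩ := hmem hs
    rw [stab_toggle_eq hx h1 h2, ← add_mul]
    have h0 : 0 < s.card := Finset.card_pos.2 h1.1
    have h0' : 0 < (toggle x s).card := Finset.card_pos.2 (toggle_nonempty hx h1 h2 h3)
    suffices (-1 : R) ^ (s.card - 1) + (-1 : R) ^ ((toggle x s).card - 1) = 0 by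
      rw [this, zero_mul]
    rcases card_toggle (x := x) (s := s) with e | e
    · rw [show s.card - 1 = (toggle x s).card - 1 + 1 by omega, pow_succ]; ring
    · rw [show (toggle x s).card - 1 = s.card - 1 + 1 by omega, pow_succ]; ring
  · intro e
    rcases card_toggle (x := x) (s := s) with e' | e' <;> rw [e] at e' <;> omega
  · obtain ⟨h1, h2, h3, h4⟩ := hmem hs
    rw [Finset.mem_filter, Finset.mem_erase, hC]
    have ht := toggle_mem_chains hx1 hx h1 h2 (toggle_nonempty hx h1 h2 h3)
    refine ⟨⟨fun e => ?_, ht⟩, (stab_toggle (x := x) (s := s) ⟨h4, hgC⟩).1⟩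
    have hback := toggle_toggle hx h1 h2
    rw [e, toggle, rr_singleton hx, if_pos (Finset.mem_singleton_self _),
      Finset.erase_singleton] at hback
    exact h1.1.ne_empty hback.symm
  · obtain ⟨h1, h2, -, -⟩ := hmem hs
    exact toggle_toggle hx h1 h2

end CfsgLib.BlocksLocal.ChainToggle
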