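import Cfsg.Agent.Blocks.GroupAlgebra
import Mathlib.RingTheory.SimpleModule.Basic
import Mathlib.RingTheory.Jacobson.Semiprimary
import Mathlib.RingTheory.Artinian.Module
import Mathlib.RingTheory.Artinian.Ring
import Mathlib.RingTheory.Finiteness.Finsupp

/-!
# The annihilator in the algebra of a normal subgroup of a central idempotent

For `N` normal in `G` and a central idempotent `e` of the group algebra of `G` over a field, the
annihilator of `e` in the group algebra of `N` is generated by a central idempotent.
-/

set_option autoImplicit false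
set_option linter.unusedSectionVars false

namespace CfsgLib.BlocksLocal.CoverAll

open CfsgLib.Blocks

/-- In a semisimple ring, the idempotent generating a two-sided ideal as a left ideal also acts as
the identity from the left. -/
theorem exists_unit_of_twoSided {S : Type*} [Ring S] [IsSemisimpleRing S] (I : Ideal S)
    [I.IsTwoSided] : ∃ e ∈ I, ∀ t ∈ I, e * t = t := by
  obtain ⟨e, he, hI⟩ := IsSemisimpleRing.ideal_eq_span_idempotent I
  have heI : e ∈ I := hI ▸ Ideal.mem_span_singleton_self e
  have hte : ∀ t ∈ I, t * e = t := fun t ht => by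
    obtain ⟨r, rfl⟩ := Ideal.mem_span_singleton'.1 (hI ▸ ht)
    rw [mul_assoc, he.eq]
  refine ⟨e, heI, fun t ht => ?_⟩
  set x := (1 - e) * t with hx
  obtain ⟨f, hf, hJ⟩ := IsSemisimpleRing.ideal_eq_span_idempotent (Ideal.span {x})
  obtain ⟨r, hr⟩ := Ideal.mem_span_singleton'.1 (hJ ▸ Ideal.mem_span_singleton_self f :
    f ∈ Ideal.span {x})
  have hxf : ∃ a, a * f = x :=
    Ideal.mem_span_singleton'.1 (hJ ▸ Ideal.mem_span_singleton_self x)
  have htr : t * r * (1 - e) = 0 := by
    rw [mul_sub, mul_one, hte _ (I.mul_mem_right r ht), sub_self]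
  have hf0 : f = 0 := by
    have h2 : r * x * (r * x) = r * (1 - e) * (t * r * (1 - e)) * t := by
      rw [hx]; simp only [mul_assoc]
    rw [← hf.eq, ← hr, h2, htr, mul_zero, zero_mul]
  obtain ⟨a, ha⟩ := hxf
  have h0 : x = 0 := by rw [← ha, hf0, mul_zero]
  rw [hx, sub_mul, one_mul, sub_eq_zero] at h0
  exact h0.symm

section Inc

variable {k : Type*} [CommRing k] {G : Type*} [Group G] [Finite G] (N : Subgroup G)

variable (k) in
/-- The inclusion of the group algebra of a subgroup. -/
noncomputable def inc : MonoidAlgebra k N →+* MonoidAlgebra k G :=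
  MonoidAlgebra.mapDomainRingHom k N.subtype

theorem inc_single (n : N) (r : k) :
    inc k N (MonoidAlgebra.single n r) = MonoidAlgebra.single (n : G) r := by
  simp [inc]

/-- The part of an element supported in a subgroup. -/
noncomputable def proj (x : MonoidAlgebra k G) : MonoidAlgebra k N := ofFun fun n => x.coeff n

@[simp] theorem coeff_proj (x : MonoidAlgebra k G) (n : N) : (proj N x).coeff n = x.coeff n := by
  simp [proj]

theorem proj_add (x y : MonoidAlgebra k G) : proj N (x + y) = proj N x + proj N y :=
  MonoidAlgebra.ext (Finsupp.ext fun n => by simp)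

theorem proj_zero : proj N (0 : MonoidAlgebra k G) = 0 :=
  MonoidAlgebra.ext (Finsupp.ext fun n => by simp)

theorem proj_sum {ι : Type*} (s : Finset ι) (f : ι → MonoidAlgebra k G) :
    proj N (∑ i ∈ s, f i) = ∑ i ∈ s, proj N (f i) :=
  map_sum ({ toFun := proj N, map_zero' := proj_zero N, map_add' := proj_add N } :
    MonoidAlgebra k G →+ MonoidAlgebra k N) f s

theorem proj_inc_mul (a : MonoidAlgebra k N) (x : MonoidAlgebra k G) :
    proj N (inc k N a * x) = a * proj N x := by
  induction a using MonoidAlgebra.induction_linear with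
  | zero => simp [proj_zero]
  | add u v hu hv => rw [map_add, add_mul, proj_add, hu, hv, add_mul]
  | single n r =>
    ext m
    rw [inc_single, coeff_proj, MonoidAlgebra.coeff_single_mul_apply,
      MonoidAlgebra.coeff_single_mul_apply, coeff_proj]
    simp

theorem proj_mul_inc (x : MonoidAlgebra k G) (a : MonoidAlgebra k N) :
    proj N (x * inc k N a) = proj N x * a := by
  induction a using MonoidAlgebra.induction_linear with
  | zero => simp [proj_zero]
  | add u v hu hv => rw [map_add, mul_add, proj_add, hu, hv, mul_add]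
  | single n r =>
    ext m
    rw [inc_single, coeff_proj, MonoidAlgebra.coeff_mul_single_apply,
      MonoidAlgebra.coeff_mul_single_apply, coeff_proj]
    simp

end Inc

variable {k : Type*} [Field k] {G : Type*} [Group G] [Finite G] (N : Subgroup G) [hN : N.Normal]

variable (k) in
/-- Conjugation on the group algebra of a normal subgroup. -/
noncomputable def cN (g : G) : MonoidAlgebra k N ≃+* MonoidAlgebra k N :=
  MonoidAlgebra.mapDomainRingEquiv k (MulAut.conjNormal (H := N) g)

theorem single_mul_inc (g : G) (a : MonoidAlgebra k N) :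
    MonoidAlgebra.single g 1 * inc k N a = inc k N (cN k N g a) * MonoidAlgebra.single g 1 := by
  induction a using MonoidAlgebra.induction_linear with
  | zero => simp
  | add u v hu hv => simp only [map_add, mul_add, add_mul, hu, hv]
  | single n r =>
    have h : cN k N g (MonoidAlgebra.single n r) =
        MonoidAlgebra.single (MulAut.conjNormal (H := N) g n) r := by
      apply MonoidAlgebra.ext; simp [cN]
    rw [h, inc_single, inc_single, MonoidAlgebra.single_mul_single,
      MonoidAlgebra.single_mul_single, one_mul, mul_one, MulAut.conjNormal_apply]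
    simp

theorem proj_single_mul (g : G) (y : MonoidAlgebra k G) :
    proj N (MonoidAlgebra.single g 1 * y) = cN k N g (proj N (y * MonoidAlgebra.single g 1)) := by
  apply MonoidAlgebra.ext
  ext m
  obtain ⟨n, rfl⟩ := (MulAut.conjNormal (H := N) g).surjective m
  simp [cN, MulAut.conjNormal_apply, mul_assoc]

open Classical in
/-- Decomposition along the cosets. -/
theorem eq_sum_coset [Fintype (G ⧸ N)] (x : MonoidAlgebra k G) :
    x = ∑ q : G ⧸ N, inc k N (proj N (x * MonoidAlgebra.single q.out⁻¹ 1)) *
      MonoidAlgebra.single q.out 1 := by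
  induction x using MonoidAlgebra.induction_linear with
  | zero => simp [proj_zero]
  | add u v hu hv =>
    simp only [add_mul, proj_add, map_add, Finset.sum_add_distrib]
    rw [← hu, ← hv]
  | single g r =>
    have hm : g * ((g : G ⧸ N).out)⁻¹ ∈ N := by
      rw [← QuotientGroup.eq_one_iff (N := N), QuotientGroup.mk_mul, QuotientGroup.mk_inv,
        QuotientGroup.out_eq', mul_inv_cancel]
    rw [Finset.sum_eq_single (g : G ⧸ N)]
    · have h : proj N (MonoidAlgebra.single g r * MonoidAlgebra.single (g : G ⧸ N).out⁻¹ 1) =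
          MonoidAlgebra.single (⟨_, hm⟩ : N) r := by
        apply MonoidAlgebra.ext
        ext m
        rw [coeff_proj, MonoidAlgebra.single_mul_single, mul_one, MonoidAlgebra.coeff_single,
          MonoidAlgebra.coeff_single, Finsupp.single_apply, Finsupp.single_apply]
        exact if_congr ⟨fun h => Subtype.ext h, fun h => congrArg Subtype.val h⟩ rfl rfl
      rw [h, inc_single, MonoidAlgebra.single_mul_single, mul_one, inv_mul_cancel_right]
    · intro q _ hq
      have h : proj N (MonoidAlgebra.single g r * MonoidAlgebra.single q.out⁻¹ 1) = 0 := by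
        apply MonoidAlgebra.ext
        ext m
        rw [coeff_proj, MonoidAlgebra.single_mul_single, mul_one, MonoidAlgebra.coeff_single,
          Finsupp.single_apply, if_neg]
        · simp
        · intro he
          apply hq
          have h1 : ((g * q.out⁻¹ : G) : G ⧸ N) = 1 := (QuotientGroup.eq_one_iff _).2 (he ▸ m.2)
          rw [QuotientGroup.mk_mul, QuotientGroup.mk_inv, QuotientGroup.out_eq',
            mul_inv_eq_one] at h1
          exact h1.symm
      rw [h, map_zero, zero_mul]
    · simp

theorem cN_mem_jacobson (g : G) {a : MonoidAlgebra k N}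
    (ha : a ∈ Ring.jacobson (MonoidAlgebra k N)) :
    cN k N g a ∈ Ring.jacobson (MonoidAlgebra k N) :=
  haveI : RingHomSurjective (cN k N g : MonoidAlgebra k N →+* MonoidAlgebra k N) :=
    ⟨(cN k N g).surjective⟩
  Ring.le_comap_jacobson (cN k N g : MonoidAlgebra k N →+* MonoidAlgebra k N) ha

/-- **The annihilator of a central idempotent in the algebra of a normal subgroup.** -/
theorem exists_central_idem {e : MonoidAlgebra k G} (he : e ∈ Ctr k G) (hee : e * e = e) :
    ∃ w ∈ Ctr k N, w * w = w ∧ inc k N w * e = 0 ∧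
      ∀ x, inc k N x * e = 0 → x * w = x := by
  classical
  haveI := Fintype.ofFinite (G ⧸ N)
  haveI := IsArtinianRing.of_finite k (MonoidAlgebra k N)
  set J := Ring.jacobson (MonoidAlgebra k N) with hJ
  have hec : ∀ y, y * e = e * y := Subring.mem_center_iff.1 he
  let p : G → MonoidAlgebra k N := fun h => proj N (e * MonoidAlgebra.single h 1)
  -- the annihilator
  let L : Set (MonoidAlgebra k N) := {x | inc k N x * e = 0}
  have hLp : ∀ x ∈ L, ∀ h, x * p h = 0 := fun x hx h => by
    show x * proj N _ = 0
    rw [← proj_inc_mul, ← mul_assoc, hx, zero_mul, proj_zero]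
  have hLc : ∀ x ∈ L, ∀ g, cN k N g x ∈ L := fun x hx g => by
    show inc k N (cN k N g x) * e = 0
    have h1 : inc k N (cN k N g x) * e * MonoidAlgebra.single g 1 = 0 := by
      rw [mul_assoc, ← hec, ← mul_assoc, ← single_mul_inc, mul_assoc, hx, mul_zero]
    have h2 := congrArg (· * MonoidAlgebra.single g⁻¹ (1 : k)) h1
    simpa [mul_assoc, MonoidAlgebra.single_mul_single, ← MonoidAlgebra.one_def] using h2
  have hpL : ∀ x ∈ L, ∀ h, p h * x = 0 := fun x hx h => by
    show proj N _ * x = 0
    rw [← proj_mul_inc, mul_assoc, single_mul_inc, ← mul_assoc, ← hec, hLc x hx h, zero_mul,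
      proj_zero]
  have hLl : ∀ x ∈ L, ∀ r, r * x ∈ L := fun x hx r => by
    show inc k N (r * x) * e = 0
    rw [map_mul, mul_assoc, hx, mul_zero]
  have hLr : ∀ x ∈ L, ∀ r, x * r ∈ L := fun x hx r => by
    show inc k N (x * r) * e = 0
    rw [map_mul, mul_assoc, hec, ← mul_assoc, hx, zero_mul]
  -- its two-sided annihilator
  let T : Ideal (MonoidAlgebra k N) :=
    { carrier := {x | ∀ l ∈ L, l * x = 0 ∧ x * l = 0}
      zero_mem' := fun l _ => ⟨mul_zero l, zero_mul l⟩
      add_mem' := fun {a b} ha hb l hl =>
        ⟨by rw [mul_add, (ha l hl).1, (hb l hl).1, add_zero],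
          by rw [add_mul, (ha l hl).2, (hb l hl).2, add_zero]⟩
      smul_mem' := fun r x hx l hl =>
        ⟨by rw [smul_eq_mul, ← mul_assoc, (hx _ (hLr l hl r)).1],
          by rw [smul_eq_mul, mul_assoc, (hx l hl).2, mul_zero]⟩ }
  haveI : T.IsTwoSided := ⟨fun {x} r hx l hl =>
    ⟨by rw [← mul_assoc, (hx l hl).1, zero_mul], by rw [mul_assoc, (hx _ (hLl l hl r)).2]⟩⟩
  have hpT : ∀ h, p h ∈ T := fun h l hl => ⟨hLp l hl h, hpL l hl h⟩
  -- an element of the annihilator acting as the identity modulo the radical
  haveI : (T.map (Ideal.Quotient.mk J)).IsTwoSided := ⟨fun {x} r hx => by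
    obtain ⟨a, ha, rfl⟩ := (Ideal.mem_map_iff_of_surjective _ Ideal.Quotient.mk_surjective).1 hx
    obtain ⟨b, rfl⟩ := Ideal.Quotient.mk_surjective r
    rw [← map_mul]
    exact Ideal.mem_map_of_mem _ (T.mul_mem_right b ha)⟩
  obtain ⟨ē, hēT, hē⟩ := exists_unit_of_twoSided (T.map (Ideal.Quotient.mk J))
  obtain ⟨u, huT, rfl⟩ :=
    (Ideal.mem_map_iff_of_surjective _ Ideal.Quotient.mk_surjective).1 hēT
  have hu : ∀ t ∈ T, (1 - u) * t ∈ J := fun t ht => by
    rw [← Ideal.Quotient.eq_zero_iff_mem, map_mul, map_sub, map_one, sub_mul, one_mul,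
      hē _ (Ideal.mem_map_of_mem _ ht), sub_self]
  set v := 1 - u with hv
  have hpow : ∀ i : ℕ, ∀ h, v ^ i * p h ∈ J ^ i := by
    intro i
    induction i with
    | zero => intro h; simp [Submodule.pow_zero]
    | succ i ih =>
      intro h
      have h1 : v ^ (i + 1) * p h = proj N ((inc k N (v ^ i) * e) *
          (inc k N v * e * MonoidAlgebra.single h 1)) := by
        show v ^ (i + 1) * proj N _ = _
        rw [← proj_inc_mul, pow_succ, map_mul]
        congr 1
        conv_lhs => rw [← hee]
        simp only [mul_assoc]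
        rw [← mul_assoc (inc k N v) e, hec (inc k N v), mul_assoc]
      rw [h1, eq_sum_coset N (inc k N (v ^ i) * e), Finset.sum_mul, proj_sum]
      refine (J ^ (i + 1)).sum_mem fun q _ => ?_
      rw [mul_assoc, proj_inc_mul, proj_single_mul, Submodule.pow_succ]
      refine Ideal.mul_mem_mul ?_ (cN_mem_jacobson N _ ?_)
      · rw [mul_assoc, proj_inc_mul]
        exact ih _
      · rw [mul_assoc, mul_assoc, proj_inc_mul, MonoidAlgebra.single_mul_single, mul_one]
        exact hu _ (hpT _)
  obtain ⟨n, hn⟩ := (IsSemiprimaryRing.isNilpotent : IsNilpotent J)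
  have hwe : inc k N (v ^ n) * e = 0 := by
    rw [eq_sum_coset N (inc k N (v ^ n) * e)]
    refine Finset.sum_eq_zero fun q _ => ?_
    have h := hpow n q.out⁻¹
    rw [hn] at h
    rw [mul_assoc, proj_inc_mul, show v ^ n * proj N (e * MonoidAlgebra.single q.out⁻¹ 1) = 0
      from h, map_zero, zero_mul]
  have h1w : ∀ m : ℕ, 1 - v ^ m ∈ T := by
    intro m
    induction m with
    | zero => simp
    | succ m ih =>
      have : 1 - v ^ (m + 1) = (1 - v ^ m) * v + u := by
        rw [pow_succ, hv]; noncomm_ring
      rw [this]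
      exact T.add_mem (T.mul_mem_right _ ih) huT
  have hwL : v ^ n ∈ L := hwe
  set w := v ^ n with hw
  have hww : w * w = w := by
    have h := (h1w n w hwL).1
    rw [mul_sub, mul_one, sub_eq_zero] at h
    exact h.symm
  refine ⟨w, Subring.mem_center_iff.2 fun r => ?_, hww, hwe, fun x hx => ?_⟩
  · have h2 := (h1w n _ (hLr w hwL r)).1
    have h3 := (h1w n _ (hLl w hwL r)).2
    rw [mul_sub, mul_one, sub_eq_zero] at h2
    rw [sub_mul, one_mul, sub_eq_zero, ← mul_assoc] at h3
    rw [h3, ← h2]
  · have h := (h1w n x hx).1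
    rw [mul_sub, mul_one, sub_eq_zero] at h
    exact h.symm

end CfsgLib.BlocksLocal.CoverAll
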