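import Cfsg.Agent.BlocksLocal.Reynolds
import Cfsg.Agent.Blocks.FirstMain

/-!
# The extended first main theorem

A block `b` of `P C(P)` with defect group `P` induces a block with defect group `P` exactly when
its inertia group in the normaliser has index prime to `p` over `P C(P)`.
-/

set_option autoImplicit false
set_option linter.style.haveILetI false
set_option linter.unusedSectionVars false

namespace CfsgLib.BlocksLocal

open Cfsg CfsgLib.Blocks

universe u

variable {G : Type u} [Group G] [Fintype G] {M : Ideal AlgInt} [M.IsPrime] {p : ℕ} [Fact p.Prime]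

/-- The degree of a character in terms of a constituent of its restriction to a normal subgroup. -/
theorem charDegree_eq_mul_orbit (N : Subgroup G) [N.Normal] [Fintype N] {χ : IrrCharacter G}
    {θ : IrrCharacter N}
    (hcov : Cfsg.classInner (fun n : N => (χ : G → ℂ) n) (θ : N → ℂ) ≠ 0) :
    ∃ m : ℕ, m ≠ 0 ∧ Cfsg.charDegree (χ : G → ℂ) =
      m * ((CharactersDeep.Clifford.orbit N (θ : N → ℂ)).card *
        Cfsg.charDegree (θ : N → ℂ)) := by
  classical
  obtain ⟨m, hm⟩ := Characters.classInner_character_irr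
    (Characters.isCharacter_restrict N (Characters.isCharacter_of_isIrr χ.2)) θ.2
  have hval := congrFun (CharactersDeep.Clifford.restrict_eq_orbit_sum N χ.2 θ.2 hcov) 1
  rw [Pi.smul_apply, Finset.sum_apply, Finset.sum_congr rfl
    (g := fun _ => (θ : N → ℂ) 1) (fun f hf => by
      obtain ⟨x, rfl⟩ := (CharactersDeep.Clifford.mem_orbit N).1 hf
      show (θ : N → ℂ) (MulAut.conjNormal x 1) = _
      rw [map_one]), Finset.sum_const, nsmul_eq_mul, smul_eq_mul, hm] at hval
  refine ⟨m, fun h => hcov (by rw [hm, h, Nat.cast_zero]), ?_⟩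
  have : ((Cfsg.charDegree (χ : G → ℂ) : ℕ) : ℂ) =
      ((m * ((CharactersDeep.Clifford.orbit N (θ : N → ℂ)).card *
        Cfsg.charDegree (θ : N → ℂ)) : ℕ) : ℂ) := by
    rw [charDegree_cast, Nat.cast_mul, Nat.cast_mul, charDegree_cast]
    exact hval
  exact_mod_cast this

open Classical in
/-- The extended first main theorem. -/
theorem isDefectGroup_induced_iff (hM : Cfsg.IsPModular p M) {P H : Subgroup G} [Fintype H]
    (hP : IsPGroup p P) (hH : H = P ⊔ Subgroup.centralizer (P : Set G))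
    {b : Set (IrrCharacter H)} (hb : Cfsg.IsPBlock M b)
    (hbP : Cfsg.IsDefectGroup p M b (P.subgroupOf H)) {B : Set (IrrCharacter G)}
    (hind : Cfsg.IsInducedBlock M H b B) {T : Subgroup G}
    (hT : ∀ g : G, g ∈ T ↔ (g ∈ Subgroup.normalizer (P : Set G) ∧ ∀ θ ∈ b,
      ∀ θ' : IrrCharacter H, (∀ h h' : H, (h' : G) = g * h * g⁻¹ →
        (θ' : H → ℂ) h' = (θ : H → ℂ) h) → θ' ∈ b)) :
    Cfsg.IsDefectGroup p M B P ↔ ¬ p ∣ H.relIndex T := by
  set NN := Subgroup.normalizer (P : Set G) with hNN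
  have hPH : P ≤ H := hH ▸ le_sup_left
  have hCH : Subgroup.centralizer (P : Set G) ≤ H := hH ▸ le_sup_right
  have hHN : H ≤ NN := hH ▸ sup_le Subgroup.le_normalizer (Subgroup.centralizer_le_normalizer _)
  haveI hP'n : (P.subgroupOf NN).Normal := subgroupOf_normal P
  set P' := P.subgroupOf NN with hP'
  have hP'p : IsPGroup p P' := hP.comap_subtype
  haveI := Fintype.ofFinite NN
  haveI := Fintype.ofFinite ↥(P' ⊔ Subgroup.centralizer (P' : Set NN))
  set L := P' ⊔ Subgroup.centralizer (P' : Set NN) with hL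
  have hLmem : ∀ n : NN, n ∈ L ↔ (n : G) ∈ H := by
    intro n
    constructor
    · intro hn
      have hle : L ≤ H.subgroupOf NN := sup_le (fun x hx => hPH hx) fun c hc =>
        hCH (Subgroup.mem_centralizer_iff.2 fun u hu => congrArg Subtype.val
          (Subgroup.mem_centralizer_iff.1 hc ⟨u, Subgroup.le_normalizer hu⟩ hu))
      exact hle hn
    · intro hn
      have hle : H ≤ L.map NN.subtype := hH ▸ sup_le
        (fun x hx => ⟨⟨x, Subgroup.le_normalizer hx⟩, Subgroup.mem_sup_left hx, rfl⟩)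
        (fun c hc => ⟨⟨c, Subgroup.centralizer_le_normalizer _ hc⟩, Subgroup.mem_sup_right
          (Subgroup.mem_centralizer_iff.2 fun u hu =>
            Subtype.ext (Subgroup.mem_centralizer_iff.1 hc (u : G) hu)), rfl⟩)
      obtain ⟨m, hm, he⟩ := hle hn
      rwa [← Subtype.ext (a1 := m) (a2 := n) he]
  let e : L ≃* H :=
    { toFun := fun x => ⟨((x : NN) : G), (hLmem x).1 x.2⟩
      invFun := fun h => ⟨⟨(h : G), hHN h.2⟩, (hLmem _).2 h.2⟩
      left_inv := fun x => rfl
      right_inv := fun h => rfl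
      map_mul' := fun x y => rfl }
  have hcardP : Nat.card P' = Nat.card P :=
    Nat.card_congr (Subgroup.subgroupOfEquivOfLe (Subgroup.le_normalizer : P ≤ NN)).toEquiv
  have hcardL : Nat.card L = Nat.card H := Nat.card_congr e.toEquiv
  have hTN : T ≤ NN := fun g hg => ((hT g).1 hg).1
  set T' := T.subgroupOf NN with hT'
  have hrel : L.relIndex T' = H.relIndex T := by
    have h1 : L.map NN.subtype = H := le_antisymm
      (fun g ⟨x, hx, he⟩ => he ▸ (hLmem x).1 hx)
      (fun g hg => ⟨⟨g, hHN hg⟩, (hLmem _).2 hg, rfl⟩)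
    have h2 : T'.map NN.subtype = T := by
      rw [hT', Subgroup.subgroupOf_map_subtype, inf_of_le_left hTN]
    rw [← Subgroup.relIndex_map_map_of_injective L T' NN.subtype_injective, h1, h2]
  -- a covering character and its block
  have hover : ∀ θ ∈ b, ∀ χ : IrrCharacter NN,
      Cfsg.classInner (fun n : L => (χ : NN → ℂ) n) (BlockPairs.irrComp e θ : L → ℂ) ≠ 0 →
        Cfsg.IsInducedBlock M NN (Cfsg.blockOf M (χ : NN → ℂ)) B := by
    intro θ hθ χ hcov
    obtain ⟨χB, hχB⟩ := isPBlock_nonempty hind.2.1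
    refine (isInducedBlock_iff NN (isPBlock_blockOf χ) hind.2.1 (mem_blockOf_self χ) hχB).2
      fun a => ?_
    rw [omegaBar_resCtr_eq_brRes hM hP Subgroup.le_normalizer le_rfl,
      omegaBar_eq_of_covers L hcov _ fun n hn => coeff_brRes_of_notMem le_rfl _ fun hc =>
        hn ((hLmem n).2 (hCH hc)),
      ← (isInducedBlock_iff H hb hind.2.1 hθ hχB).1 hind a,
      omegaBar_resCtr_eq_brRes hM hP hPH hHN]
    refine omegaBar_irrComp e θ _ _ fun x => ?_
    rw [coeff_resCtr]
    by_cases hc : ((x : NN) : G) ∈ Subgroup.centralizer (P : Set G)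
    · rw [coeff_brRes_of_mem le_rfl _ hc, coeff_brRes_of_mem hHN _ (h := e x) hc]
      rfl
    · rw [coeff_brRes_of_notMem le_rfl _ hc, coeff_brRes_of_notMem hHN _ (h := e x) hc]
  -- fixed blocks and membership in `T'`
  have hfixT : ∀ u ∈ T', ∀ θ ∈ b, Cfsg.SameBlock M (BlockPairs.irrComp e θ : L → ℂ)
      (conjIrr L (BlockPairs.irrComp e θ) u : L → ℂ) := by
    intro u hu θ hθ
    have hui : ((u⁻¹ : NN) : G) ∈ T := T'.inv_mem hu
    set θ₂ := BlockPairs.irrComp e.symm (conjIrr L (BlockPairs.irrComp e θ) u)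
    have h2 : θ₂ ∈ b := ((hT _).1 hui).2 θ hθ θ₂ fun h h' hh => by
      show (θ : H → ℂ) (e (MulAut.conjNormal (H := L) u (e.symm h'))) = (θ : H → ℂ) h
      refine congrArg (θ : H → ℂ) (Subtype.ext ?_)
      show (((MulAut.conjNormal (H := L) u (e.symm h') : L) : NN) : G) = h
      rw [MulAut.conjNormal_apply, Subgroup.coe_mul, Subgroup.coe_mul, Subgroup.coe_inv]
      show (u : G) * (h' : G) * (u : G)⁻¹ = h
      rw [hh, Subgroup.coe_inv]
      group
    rw [eq_blockOf_of_mem hb hθ, mem_blockOf] at h2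
    have h3 := sameBlock_irrComp e h2
    rwa [BlockPairs.irrComp_symm] at h3
  have hmemT : ∀ (g : NN), ∀ θ ∈ b,
      conjIrr L (BlockPairs.irrComp e θ) g = BlockPairs.irrComp e θ → g ∈ T' := by
    intro g θ hθ hg
    refine (hT g).2 ⟨g.2, fun η hη η' hη' => ?_⟩
    have hgi : conjIrr L (BlockPairs.irrComp e θ) g⁻¹ = BlockPairs.irrComp e θ := by
      conv_lhs => rw [← hg, conjIrr_mul, mul_inv_cancel, conjIrr_one]
    have he : BlockPairs.irrComp e η' = conjIrr L (BlockPairs.irrComp e η) g⁻¹ := by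
      refine Subtype.ext (funext fun x => ?_)
      show (η' : H → ℂ) (e x) = (η : H → ℂ) (e (MulAut.conjNormal (H := L) g⁻¹ x))
      refine hη' _ _ ?_
      show ((x : NN) : G) = (g : G) * (((MulAut.conjNormal (H := L) g⁻¹ x : L) : NN) : G) *
        (g : G)⁻¹
      simp [MulAut.conjNormal_apply, mul_assoc]
    have hηθ : Cfsg.SameBlock M (θ : H → ℂ) (η : H → ℂ) := by
      rw [eq_blockOf_of_mem hb hθ, mem_blockOf] at hη
      exact hη
    have h1 := sameBlock_conjIrr L (sameBlock_irrComp e hηθ) g⁻¹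
    rw [hgi, ← he] at h1
    have h2 := sameBlock_irrComp e.symm h1
    rw [show BlockPairs.irrComp e.symm (BlockPairs.irrComp e θ) = θ from
        BlockPairs.irrComp_symm e.symm θ,
      show BlockPairs.irrComp e.symm (BlockPairs.irrComp e η') = η' from
        BlockPairs.irrComp_symm e.symm η'] at h2
    rw [eq_blockOf_of_mem hb hθ, mem_blockOf]
    exact h2
  obtain ⟨θ, hθ⟩ := isPBlock_nonempty hb
  obtain ⟨φ, hφ, hcov⟩ := CharactersDeep.Clifford.exists_over (G := NN) (N := L)
    (BlockPairs.irrComp e θ).2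
  let χ : IrrCharacter NN := ⟨φ, hφ⟩
  have hβind := hover θ hθ χ hcov
  have hβ := isPBlock_blockOf (M := M) χ
  constructor
  · intro hBD
    have hβD := defect_local_of_induced hM hP hβind hBD
    obtain ⟨S, hS, -⟩ := exists_isSylowIn_ge (p := p) (K := T') IsPGroup.of_bot bot_le
    have hSL : S ≤ L := fun u hu => mem_of_fixes hM hβ hβD (mem_blockOf_self χ) hcov (by
      obtain ⟨k, hk⟩ := IsPGroup.iff_orderOf.1 hS.2.1 ⟨u, hu⟩
      exact ⟨k, by rwa [Subgroup.orderOf_mk] at hk⟩) (hfixT u (hS.1 hu) θ hθ)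
    intro hd
    rw [← hrel] at hd
    exact hS.2.2 (hd.trans (Subgroup.relIndex_dvd_of_le_left T' hSL))
  · intro hndvd
    refine defect_of_local hM hP hβind ?_
    obtain ⟨R, hR⟩ := exists_isDefectGroup (p := p) hβ
    have hle := le_defect_local hM hP hβ hR
    obtain ⟨χ', hχ', hdeg⟩ : ∃ χ' ∈ Cfsg.blockOf M (χ : NN → ℂ),
        Cfsg.blockHeight p (Cfsg.blockOf M (χ : NN → ℂ)) (χ' : NN → ℂ) = 0 :=
      exists_height_zero hM hβ
    obtain ⟨ψ, hψ⟩ := exists_constituent L χ'
    have hb' : Cfsg.IsPBlock M (Cfsg.blockOf M (BlockPairs.irrComp e θ : L → ℂ)) :=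
      isPBlock_blockOf _
    obtain ⟨x, η₀, hη₀, rfl⟩ := mem_coverSet_of_covers L hβ hb' (mem_blockOf_self χ)
      (mem_blockOf_self _) hcov hχ' hψ
    have hψ' : Cfsg.classInner (fun n : L => (χ' : NN → ℂ) n) (η₀ : L → ℂ) ≠ 0 := by
      rwa [coe_conjIrr, CharactersDeep.Clifford.classInner_restrict_conjBy L
        (Characters.isClassFunction_of_isIrr χ'.2)] at hψ
    set η := BlockPairs.irrComp e.symm η₀
    have hηe : BlockPairs.irrComp e η = η₀ := BlockPairs.irrComp_symm e η₀
    have hη : η ∈ b := by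
      have h := sameBlock_irrComp e.symm hη₀
      rw [show BlockPairs.irrComp e.symm (BlockPairs.irrComp e θ) = θ from
        BlockPairs.irrComp_symm e.symm θ] at h
      rw [eq_blockOf_of_mem hb hθ, mem_blockOf]
      exact h
    obtain ⟨m, hm0, hm⟩ := charDegree_eq_mul_orbit L hψ'
    let T1 : Subgroup NN :=
      { carrier := {g | conjIrr L η₀ g = η₀}
        one_mem' := conjIrr_one L η₀
        mul_mem' := fun {a c} (ha : conjIrr L η₀ a = η₀) (hc : conjIrr L η₀ c = η₀) => by
          show conjIrr L η₀ (a * c) = η₀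
          rw [← conjIrr_mul, ha, hc]
        inv_mem' := fun {a} (ha : conjIrr L η₀ a = η₀) => by
          show conjIrr L η₀ a⁻¹ = η₀
          conv_lhs => rw [← ha, conjIrr_mul, mul_inv_cancel, conjIrr_one] }
    have hT1 : T1 ≤ T' := fun g (hg : conjIrr L η₀ g = η₀) => hmemT g η hη (by rw [hηe, hg])
    have horb := CharactersDeep.Clifford.card_orbit_mul L (η₀ : L → ℂ) T1 fun g =>
      ⟨fun h => congrArg Subtype.val h, fun h => Subtype.ext h⟩
    have horb0 : (CharactersDeep.Clifford.orbit L (η₀ : L → ℂ)).card ≠ 0 := fun h => by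
      rw [h, zero_mul] at horb
      exact Nat.card_pos.ne' horb.symm
    have hdeg1 : Cfsg.charDegree (η₀ : L → ℂ) = Cfsg.charDegree (η : H → ℂ) := by
      have h1 : ((Cfsg.charDegree (η₀ : L → ℂ) : ℕ) : ℂ) = (Cfsg.charDegree (η : H → ℂ) : ℕ) := by
        rw [charDegree_cast, charDegree_cast, ← hηe, BlockPairs.irrComp_apply, map_one]
      exact_mod_cast h1
    have e1 := congrArg (fun m => m.factorization p) horb
    simp only [Nat.factorization_mul horb0 Nat.card_pos.ne', Finsupp.add_apply] at e1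
    rw [hdeg1] at hm
    have e2 := congrArg (fun m => m.factorization p) hm
    simp only [Nat.factorization_mul hm0 (mul_ne_zero horb0 (charDegree_ne_zero η)),
      Nat.factorization_mul horb0 (charDegree_ne_zero η), Finsupp.add_apply] at e2
    have e3 : (Nat.card T1).factorization p ≤ (Nat.card T').factorization p :=
      (Nat.factorization_le_iff_dvd Nat.card_pos.ne' Nat.card_pos.ne').2
        (Subgroup.card_dvd_of_le hT1) p
    have e4 := congrArg (fun m => m.factorization p)
      (PLocal.card_mul_relIndex (inf_le_right : L ⊓ T' ≤ T'))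
    rw [Subgroup.inf_relIndex_right, hrel] at e4
    simp only [Nat.factorization_mul Nat.card_pos.ne'
      (fun h : H.relIndex T = 0 => hndvd (h ▸ dvd_zero p)), Finsupp.add_apply,
      Nat.factorization_eq_zero_of_not_dvd hndvd] at e4
    have e5 : (Nat.card ↥(L ⊓ T')).factorization p ≤ (Nat.card L).factorization p :=
      (Nat.factorization_le_iff_dvd Nat.card_pos.ne' Nat.card_pos.ne').2
        (Subgroup.card_dvd_of_le inf_le_left) p
    have e6 := defect_add_degree_ge hM hb hbP hη
    rw [Nat.card_congr (Subgroup.subgroupOfEquivOfLe hPH).toEquiv] at e6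
    have e7 := blockHeight_eq hM hβ hR hχ'
    rw [hdeg] at e7
    rw [hcardL] at e5
    suffices hPR : P' = R by rwa [← hPR] at hR
    refine Subgroup.eq_of_le_of_card_ge hle ?_
    obtain ⟨i, hi⟩ := IsPGroup.iff_card.1 hP'p
    obtain ⟨j, hj⟩ := IsPGroup.iff_card.1 (IsDefectGroup.isPGroup hR)
    rw [hj, Nat.Prime.factorization_pow (Fact.out : p.Prime), Finsupp.single_eq_same] at e7
    rw [← hcardP, hi, Nat.Prime.factorization_pow (Fact.out : p.Prime), Finsupp.single_eq_same] at e6
    rw [hj, hi]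
    exact Nat.pow_le_pow_right (Fact.out : p.Prime).pos (by omega)

end CfsgLib.BlocksLocal
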