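import Cfsg.Agent.BlocksLocal.CoverAll
import Cfsg.Agent.Blocks.Height
import Cfsg.Agent.Characters.Classes
import Mathlib.RingTheory.SimpleModule.Basic
import Mathlib.RepresentationTheory.Irreducible

/-!
# The idempotent of an extension of an irreducible character

If `χ` restricts irreducibly along `ι : A →* L`, the simple component of `χ` is spanned by the image
of the group algebra of `A`.
-/

set_option autoImplicit false
set_option linter.unusedSectionVars false

namespace CfsgLib.BlocksLocal.Weighted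

open Cfsg CfsgLib.Blocks CfsgLib.BlocksLocal.CoverAll
open MonoidAlgebra (single)
open scoped ComplexConjugate

universe u

variable {L A : Type u} [Group L] [Fintype L] [Group A] [Fintype A]

theorem asAlgebraHom_surjective {V : Type*} [AddCommGroup V] [Module ℂ V] [FiniteDimensional ℂ V]
    (ρ : Representation ℂ L V) [ρ.IsIrreducible] : Function.Surjective ρ.asAlgebraHom := by
  classical
  intro T
  haveI : FiniteDimensional ℂ ρ.asModule := inferInstanceAs (FiniteDimensional ℂ V)
  have hend : ∀ φ : Module.End (MonoidAlgebra ℂ L) ρ.asModule, ∃ c : ℂ, ∀ m, φ m = c • m := fun φ => by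
    obtain ⟨c, hc⟩ := (IsSimpleModule.algebraMap_end_bijective_of_isAlgClosed ℂ
      (A := MonoidAlgebra ℂ L) (V := ρ.asModule)).2 φ
    exact ⟨c, fun m => by rw [← hc]; rfl⟩
  let F : Module.End (Module.End (MonoidAlgebra ℂ L) ρ.asModule) ρ.asModule :=
    { toFun := fun m => ρ.asModuleEquiv.symm (T (ρ.asModuleEquiv m))
      map_add' := fun x y => by simp
      map_smul' := fun φ m => by
        obtain ⟨c, hc⟩ := hend φ
        simp [Module.End.smul_def, hc] }
  let b := Module.finBasis ℂ V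
  obtain ⟨r, hr⟩ := jacobson_density F
    (Finset.univ.image fun i => ρ.asModuleEquiv.symm (b i))
  refine ⟨r, b.ext fun i => ?_⟩
  have h := congrArg ρ.asModuleEquiv (hr _ (Finset.mem_image_of_mem _ (Finset.mem_univ i)))
  simpa [F, Representation.asModuleEquiv_map_smul] using h.symm

theorem evalFun_single_mul (θ : L → ℂ) (g : L) (y : MonoidAlgebra ℂ L) :
    evalFun θ (single g 1 * y) = ∑ h : L, y.coeff h * θ (g * h) := by
  rw [evalFun]
  refine (Fintype.sum_equiv (Equiv.mulLeft g) _ _ fun h => ?_).symm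
  simp

theorem blockCoeff_singleton (χ : IrrCharacter L) (g : L) :
    Cfsg.blockCoeff {χ} g = (Nat.card L : ℂ)⁻¹ * ((χ : L → ℂ) 1 * conj ((χ : L → ℂ) g)) := by
  rw [Cfsg.blockCoeff, finsum_mem_singleton]

theorem coeff_mul_setIdem_singleton (χ : IrrCharacter L) (y : MonoidAlgebra ℂ L) (g : L) :
    (y * (setIdemC {χ} : MonoidAlgebra ℂ L)).coeff g =
      (Nat.card L : ℂ)⁻¹ * (χ : L → ℂ) 1 * evalFun (χ : L → ℂ) (single g⁻¹ 1 * y) := by
  rw [coeff_mul_eq_sum, evalFun_single_mul, Finset.mul_sum]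
  refine Finset.sum_congr rfl fun h _ => ?_
  rw [coeff_setIdemC, blockCoeff_singleton,
    ← Characters.character_inv (Characters.isCharacter_of_isIrr χ.2), mul_inv_rev, inv_inv]
  ring

/-- Elements with the same action multiply the idempotent alike. -/
theorem mul_setIdem_congr (χ : IrrCharacter L) {V : Type*} [AddCommGroup V] [Module ℂ V]
    [FiniteDimensional ℂ V] (σ : Representation ℂ L V) (hσ : σ.character = (χ : L → ℂ))
    {y y' : MonoidAlgebra ℂ L} (h : σ.asAlgebraHom y = σ.asAlgebraHom y') :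
    y * (setIdemC {χ} : MonoidAlgebra ℂ L) = y' * (setIdemC {χ} : MonoidAlgebra ℂ L) := by
  refine MonoidAlgebra.ext (Finsupp.ext fun g => ?_)
  rw [coeff_mul_setIdem_singleton, coeff_mul_setIdem_singleton, ← hσ, ← trace_asAlgebraHom,
    ← trace_asAlgebraHom, map_mul σ.asAlgebraHom, map_mul σ.asAlgebraHom, h]

section Restriction

variable (ι : A →* L) (χ : IrrCharacter L) (θ : IrrCharacter A)

theorem asAlgebraHom_comp {V : Type*} [AddCommGroup V] [Module ℂ V] (σ : Representation ℂ L V)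
    (m : MonoidAlgebra ℂ A) :
    σ.asAlgebraHom (MonoidAlgebra.mapDomainRingHom ℂ ι m) = Representation.asAlgebraHom (σ.comp ι : Representation ℂ A V) m := by
  induction m using MonoidAlgebra.induction_linear with
  | zero => simp
  | add u v hu hv => simp only [map_add, hu, hv]
  | single n r => simp

theorem exists_map_mul_eq (h : ∀ a, (χ : L → ℂ) (ι a) = (θ : A → ℂ) a) (y : MonoidAlgebra ℂ L) :
    ∃ m : MonoidAlgebra ℂ A, y * (setIdemC {χ} : MonoidAlgebra ℂ L) =
      MonoidAlgebra.mapDomainRingHom ℂ ι m * (setIdemC {χ} : MonoidAlgebra ℂ L) := by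
  obtain ⟨n, σ, -, hσ⟩ := χ.2
  obtain ⟨d, ρ, hρ, hρθ⟩ := θ.2
  haveI := hρ
  let τ : Representation ℂ A (Fin n → ℂ) := σ.comp ι
  have hτ : τ.character = (θ : A → ℂ) := funext fun a => by
    rw [← h a, ← hσ]; rfl
  obtain ⟨e⟩ := Characters.equiv_of_char_eq ρ τ (hρθ.trans hτ.symm)
  haveI : τ.IsIrreducible := (Characters.isIrreducible_congr e).1 hρ
  obtain ⟨m, hm⟩ := asAlgebraHom_surjective τ (σ.asAlgebraHom y)
  exact ⟨m, mul_setIdem_congr χ σ hσ (by rw [asAlgebraHom_comp]; exact hm.symm)⟩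

theorem map_setIdem_mul (h : ∀ a, (χ : L → ℂ) (ι a) = (θ : A → ℂ) a) :
    MonoidAlgebra.mapDomainRingHom ℂ ι (setIdemC {θ} : MonoidAlgebra ℂ A) *
      (setIdemC {χ} : MonoidAlgebra ℂ L) = (setIdemC {χ} : MonoidAlgebra ℂ L) := by
  classical
  obtain ⟨n, σ, -, hσ⟩ := χ.2
  obtain ⟨d, ρ, hρ, hρθ⟩ := θ.2
  haveI := hρ
  let τ : Representation ℂ A (Fin n → ℂ) := σ.comp ι
  have hτ : τ.character = (θ : A → ℂ) := funext fun a => by
    rw [← h a, ← hσ]; rfl
  obtain ⟨e⟩ := Characters.equiv_of_char_eq ρ τ (hρθ.trans hτ.symm)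
  haveI : τ.IsIrreducible := (Characters.isIrreducible_congr e).1 hρ
  conv_rhs => rw [← one_mul (setIdemC {χ} : MonoidAlgebra ℂ L)]
  refine mul_setIdem_congr χ σ hσ ?_
  rw [asAlgebraHom_comp, map_one]
  obtain ⟨c, hc⟩ := exists_scalar_of_mem_ctr τ (setIdemC {θ})
  have h1 := congrArg (LinearMap.trace ℂ (Fin n → ℂ)) hc
  rw [trace_asAlgebraHom, map_smul, hτ, LinearMap.trace_id, smul_eq_mul] at h1
  have h2 := omega_setIdemC ({θ} : Set (IrrCharacter A)) θ
  rw [if_pos (Set.mem_singleton θ), omega_apply] at h2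
  have hd : (θ : A → ℂ) 1 = (Module.finrank ℂ (Fin n → ℂ) : ℂ) := by
    rw [← hτ, Representation.char_one]
  have h0 := Characters.irr_one_ne_zero θ.2
  rw [div_eq_one_iff_eq h0] at h2
  rw [evalFun, h2, ← hd, eq_comm, mul_left_eq_self₀] at h1
  rcases h1 with h1 | h1
  · rw [hc, h1, one_smul]; rfl
  · exact absurd h1 h0

end Restriction

end CfsgLib.BlocksLocal.Weighted
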