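import Cfsg.Agent.BlocksLocal.WeightedCosets
import Cfsg.Agent.PLocal.PSolvable

/-!
# Idempotents supported on p-regular elements in p-solvable groups

In a p-solvable group a set of irreducible characters whose degree-weighted sum vanishes at the
p-singular elements is a union of blocks.
-/

set_option autoImplicit false
set_option linter.unusedSectionVars false
set_option linter.style.haveILetI false

namespace CfsgLib.BlocksLocal.Weighted

open Cfsg CfsgLib.Blocks CfsgLib.BlocksLocal.CoverAll
open MonoidAlgebra (single)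
open scoped ComplexConjugate

universe u

variable {G : Type u} [Group G] [Fintype G] {p : ℕ} [Fact p.Prime]
  {N : Subgroup G} [hN : N.Normal] [Fintype N]

theorem sum_setIdem_singleton :
    ∑ θ : IrrCharacter N, (setIdemC {θ} : MonoidAlgebra ℂ N) = 1 := by
  classical
  have h : ∑ θ : IrrCharacter N, (setIdemC {θ} : Ctr ℂ N) = 1 := ctr_ext_omega fun ψ => by
    rw [map_sum, map_one, Finset.sum_eq_single ψ]
    · rw [omega_setIdemC, if_pos (Set.mem_singleton ψ)]
    · intro θ _ hne
      rw [omega_setIdemC, if_neg (fun h => hne (Set.mem_singleton_iff.1 h).symm)]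
    · simp
  simpa [AddSubmonoidClass.coe_finsetSum] using congrArg Subtype.val h

/-- The stabilizer of a character of a normal subgroup. -/
def stabilizer (θ : IrrCharacter N) : Subgroup G where
  carrier := {g | ∀ n : N, (θ : N → ℂ) (MulAut.conjNormal g n) = (θ : N → ℂ) n}
  one_mem' := fun n => by rw [map_one]; rfl
  mul_mem' := fun {a b} ha hb n => by rw [map_mul, MulAut.mul_apply, ha, hb]
  inv_mem' := fun {a} ha n => by
    have h := ha (MulAut.conjNormal a⁻¹ n)
    rw [← MulAut.mul_apply, ← map_mul, mul_inv_cancel, map_one] at h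
    exact h.symm

theorem le_stabilizer (θ : IrrCharacter N) : N ≤ stabilizer θ := fun m hm n => by
  refine Eq.trans (congrArg (θ : N → ℂ) (Subtype.ext ?_))
    (Characters.isClassFunction_of_isIrr θ.2 n ⟨m, hm⟩)
  rw [MulAut.conjNormal_apply]; rfl

theorem blockCoeff_conjNormal (θ : IrrCharacter N) {t : G} (ht : t ∈ stabilizer θ) (n : N) :
    Cfsg.blockCoeff {θ} (MulAut.conjNormal t n) = Cfsg.blockCoeff {θ} n := by
  rw [blockCoeff_singleton, blockCoeff_singleton, ht n]

theorem coeff_inc_idem_conj (θ : IrrCharacter N) {t : G} (ht : t ∈ stabilizer θ) (x : G) :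
    (inc ℂ N (setIdemC {θ} : MonoidAlgebra ℂ N)).coeff (t * x * t⁻¹) =
      (inc ℂ N (setIdemC {θ} : MonoidAlgebra ℂ N)).coeff x := by
  by_cases hx : x ∈ N
  · obtain ⟨x, rfl⟩ : ∃ y : N, (y : G) = x := ⟨⟨x, hx⟩, rfl⟩
    rw [show t * (x : G) * t⁻¹ = ((MulAut.conjNormal t x : N) : G) from
      (MulAut.conjNormal_apply t x).symm, coeff_inc_of_mem, coeff_inc_of_mem, coeff_setIdemC,
      coeff_setIdemC, blockCoeff_conjNormal θ ht]
  · rw [coeff_inc_of_notMem _ _ hx, coeff_inc_of_notMem]
    exact fun h => hx (by simpa [mul_assoc] using hN.conj_mem' _ h t)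

theorem inc_mul_single_mul_inc (θ : IrrCharacter N) {g : G} (hg : g ∉ stabilizer θ) (c : ℂ) :
    inc ℂ N (setIdemC {θ} : MonoidAlgebra ℂ N) * single g c *
      inc ℂ N (setIdemC {θ} : MonoidAlgebra ℂ N) = 0 := by
  classical
  obtain ⟨θ', hθ'⟩ : ∃ θ' : IrrCharacter N, (θ' : N → ℂ) =
      fun n => (θ : N → ℂ) ((MulAut.conjNormal (H := N) g).symm n) :=
    ⟨⟨_, ConstrainedBlock.isIrr_comp_equiv (MulAut.conjNormal (H := N) g).symm θ⟩, rfl⟩
  have hne : θ ∉ ({θ'} : Set (IrrCharacter N)) := fun h => hg fun n => by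
    rw [Set.mem_singleton_iff] at h
    have h1 := congrFun hθ' (MulAut.conjNormal (H := N) g n)
    rw [← h, MulEquiv.symm_apply_apply] at h1
    exact h1
  have hc : cN ℂ N g (setIdemC {θ} : MonoidAlgebra ℂ N) =
      (setIdemC {θ'} : MonoidAlgebra ℂ N) := MonoidAlgebra.ext (Finsupp.ext fun n => by
    obtain ⟨m, rfl⟩ := (MulAut.conjNormal (H := N) g).surjective n
    rw [coeff_setIdemC, blockCoeff_singleton, hθ']
    simp [cN, blockCoeff_singleton])
  have hz : setIdemC {θ} * setIdemC {θ'} = 0 := ctr_ext_omega fun ψ => by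
    rw [map_mul, omega_setIdemC, omega_setIdemC, map_zero]
    by_cases hψ : ψ ∈ ({θ} : Set (IrrCharacter N))
    · rw [Set.mem_singleton_iff.1 hψ, if_neg hne, mul_zero]
    · rw [if_neg hψ, zero_mul]
  have h1 : single g c = single (1 : G) c * single g 1 := by
    rw [MonoidAlgebra.single_mul_single, one_mul, mul_one]
  rw [h1, mul_assoc, mul_assoc (single 1 c), single_mul_inc, hc, ← mul_assoc, ← mul_assoc,
    mul_assoc _ (single 1 c), MonoidAlgebra.single_one_comm c, ← mul_assoc, ← map_mul,
    ← Subring.coe_mul, hz, Subring.coe_zero, map_zero, zero_mul, zero_mul]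

theorem isIdem_inc (θ : IrrCharacter N) :
    inc ℂ N (setIdemC {θ} : MonoidAlgebra ℂ N) * inc ℂ N (setIdemC {θ} : MonoidAlgebra ℂ N) =
      inc ℂ N (setIdemC {θ} : MonoidAlgebra ℂ N) := by
  rw [← map_mul, ← Subring.coe_mul, setIdemC_mul_self]

variable {f : MonoidAlgebra ℂ G} (hf : Good p f) (θ : IrrCharacter N)

include hf in
theorem piece_idem :
    (inc ℂ N (setIdemC {θ} : MonoidAlgebra ℂ N) * f) *
      (inc ℂ N (setIdemC {θ} : MonoidAlgebra ℂ N) * f) =
      inc ℂ N (setIdemC {θ} : MonoidAlgebra ℂ N) * f := by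
  set E := inc ℂ N (setIdemC {θ} : MonoidAlgebra ℂ N)
  rw [mul_assoc, ← mul_assoc f, ← Subring.mem_center_iff.1 hf.central E, mul_assoc E f f, hf.idem,
    ← mul_assoc, isIdem_inc]

include hf in
theorem piece_mul_inc :
    (inc ℂ N (setIdemC {θ} : MonoidAlgebra ℂ N) * f) *
      inc ℂ N (setIdemC {θ} : MonoidAlgebra ℂ N) =
      inc ℂ N (setIdemC {θ} : MonoidAlgebra ℂ N) * f := by
  rw [mul_assoc, ← Subring.mem_center_iff.1 hf.central, ← mul_assoc, isIdem_inc]

include hf in
theorem piece_herm (g : G) :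
    (inc ℂ N (setIdemC {θ} : MonoidAlgebra ℂ N) * f).coeff g⁻¹ =
      conj ((inc ℂ N (setIdemC {θ} : MonoidAlgebra ℂ N) * f).coeff g) := by
  classical
  rw [coeff_inc_mul, coeff_inc_mul, map_sum]
  refine Fintype.sum_equiv (Equiv.inv N) _ _ fun n => ?_
  simp only [coeff_setIdemC, Equiv.inv_apply]
  rw [map_mul (starRingEnd ℂ), ← blockCoeff_inv, ← hf.herm, inv_inv, InvMemClass.coe_inv, inv_inv, mul_inv_rev,
    ← coeff_conj_of_mem_ctr hf.central ((n : G)⁻¹ * g⁻¹) (n : G)]
  congr 2
  group

include hf in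
theorem piece_reg (hNp : ¬ p ∣ Nat.card N) {g : G} (hg : p ∣ orderOf g) :
    (inc ℂ N (setIdemC {θ} : MonoidAlgebra ℂ N) * f).coeff g = 0 := by
  classical
  rw [coeff_inc_mul]
  refine Finset.sum_eq_zero fun n _ => ?_
  rw [hf.reg, mul_zero]
  by_contra hd
  apply hd
  have hm : ((n : G)⁻¹ * g : G) = ((n : G)⁻¹ * g) := rfl
  have h1 : (((n : G)⁻¹ * g : G) : G ⧸ N) = (g : G ⧸ N) := by
    rw [QuotientGroup.mk_mul, QuotientGroup.mk_inv, (QuotientGroup.eq_one_iff (n : G)).2 n.2,
      inv_one, one_mul]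
  have h2 : orderOf (g : G ⧸ N) ∣ orderOf ((n : G)⁻¹ * g) := by
    rw [← h1]; exact orderOf_map_dvd (QuotientGroup.mk' N) _
  have h3 : g ^ (orderOf (g : G ⧸ N) * Nat.card N) = 1 := by
    have hx : g ^ orderOf (g : G ⧸ N) ∈ N := (QuotientGroup.eq_one_iff _).1 (by
      rw [QuotientGroup.mk_pow, pow_orderOf_eq_one])
    rw [pow_mul]
    exact congrArg Subtype.val (pow_card_eq_one' (G := N) (x := ⟨_, hx⟩))
  rcases (Fact.out : p.Prime).dvd_mul.1 (hg.trans (orderOf_dvd_of_pow_eq_one h3)) with h | h
  · exact h.trans h2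
  · exact absurd h hNp

include hf in
theorem piece_conj {t : G} (ht : t ∈ stabilizer θ) (x : G) :
    (inc ℂ N (setIdemC {θ} : MonoidAlgebra ℂ N) * f).coeff (t * x * t⁻¹) =
      (inc ℂ N (setIdemC {θ} : MonoidAlgebra ℂ N) * f).coeff x := by
  set E := inc ℂ N (setIdemC {θ} : MonoidAlgebra ℂ N)
  have hE : single t 1 * E = E * single t 1 :=
    single_mul_eq_mul_single fun y => coeff_inc_idem_conj θ ht y
  have h : single t 1 * (E * f) = E * f * single t 1 := by
    rw [← mul_assoc, hE, mul_assoc, Subring.mem_center_iff.1 hf.central (single t 1), mul_assoc]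
  have := congrArg (fun a : MonoidAlgebra ℂ G => a.coeff (t * x)) h
  simp only [MonoidAlgebra.coeff_single_mul_apply, MonoidAlgebra.coeff_mul_single_apply,
    inv_mul_cancel_left, one_mul, mul_one] at this
  exact this.symm

include hf in
theorem piece_supp {g : G} (hg : g ∉ stabilizer θ) :
    (inc ℂ N (setIdemC {θ} : MonoidAlgebra ℂ N) * f).coeff g = 0 := by
  classical
  set e := (setIdemC {θ} : MonoidAlgebra ℂ N) with he
  have key : ∀ a : MonoidAlgebra ℂ G, (inc ℂ N e * a * inc ℂ N e).coeff g = 0 := by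
    intro a
    induction a using MonoidAlgebra.induction_linear with
    | zero => simp
    | add u v hu hv => simp [mul_add, add_mul, hu, hv]
    | single h c =>
      by_cases hh : h ∈ stabilizer θ
      · have hE : single h 1 * inc ℂ N e = inc ℂ N e * single h 1 :=
          single_mul_eq_mul_single fun y => coeff_inc_idem_conj θ hh y
        have h1 : single h c = single (1 : G) c * single h 1 := by
          rw [MonoidAlgebra.single_mul_single, one_mul, mul_one]
        rw [h1, mul_assoc, mul_assoc (single 1 c), hE, ← mul_assoc (single 1 c),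
          MonoidAlgebra.single_one_comm c, mul_assoc (inc ℂ N e) (single 1 c),
          MonoidAlgebra.single_mul_single, ← mul_assoc, ← map_mul,
          MonoidAlgebra.coeff_mul_single_apply, coeff_inc_of_notMem, zero_mul]
        intro hm
        refine hg ?_
        have := (stabilizer θ).mul_mem (le_stabilizer θ hm) hh
        simpa using this
      · rw [inc_mul_single_mul_inc θ hh]; simp
  rw [← piece_mul_inc hf θ]
  exact key f

variable {M : Ideal AlgInt} [M.IsPrime]

omit hf θ f hN in
/-- **Good idempotents of p-solvable groups have local integral coefficients.** -/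
theorem memLocalRing_of_good (hM : Cfsg.IsPModular p M) (hsolv : Cfsg.IsPSolvable p G)
    {f : MonoidAlgebra ℂ G} (hf : Good p f) (g : G) : Cfsg.MemLocalRing M (f.coeff g) := by
  classical
  induction hc : Nat.card G using Nat.strong_induction_on generalizing G with
  | _ m ih =>
    set N := Cfsg.pPrimeCore p G with hNdef
    haveI := Fintype.ofFinite N
    have hNp : ¬ p ∣ Nat.card N :=
      (Nat.Prime.coprime_iff_not_dvd (Fact.out : p.Prime)).1
        (PLocal.coprime_card_pPrimeCore p G).symm
    have hdec : f = ∑ θ : IrrCharacter N, inc ℂ N (setIdemC {θ} : MonoidAlgebra ℂ N) * f := by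
      rw [← Finset.sum_mul, ← map_sum, sum_setIdem_singleton, map_one, one_mul]
    rw [hdec, MonoidAlgebra.coeff_sum, Finsupp.finsetSum_apply]
    refine (localRing M).sum_mem fun θ _ => ?_
    by_cases hT : stabilizer θ = ⊤
    · have hθ : ConstrainedBlock.Invariant N θ := fun x n => by
        refine Eq.trans (congrArg (θ : N → ℂ) (Subtype.ext (MulAut.conjNormal_apply x n).symm)) ?_
        exact (hT ▸ Subgroup.mem_top x : x ∈ stabilizer θ) n
      have hgood : Good p (inc ℂ N (setIdemC {θ} : MonoidAlgebra ℂ N) * f) :=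
        ⟨mem_ctr_iff.2 fun x t => piece_conj hf θ (hT ▸ Subgroup.mem_top t) x, piece_idem hf θ,
          piece_herm hf θ, fun x hx => piece_reg hf θ hNp hx⟩
      exact memLocalRing_of_invariant hM hNp (PLocal.isPGroup_pCore p (G ⧸ N))
        (PLocal.centralizer_pCore_le (PLocal.isPSolvable_quotient hsolv N)
          (PLocal.pPrimeCore_quotient_pPrimeCore_eq_bot p G)) hθ hgood (piece_mul_inc hf θ) g
    · by_cases hgT : g ∈ stabilizer θ
      swap
      · rw [piece_supp hf θ hgT]; exact (localRing M).zero_mem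
      set T := stabilizer θ with hTdef
      haveI := Fintype.ofFinite T
      set a := inc ℂ N (setIdemC {θ} : MonoidAlgebra ℂ N) * f with ha
      have haT : a = inc ℂ T (proj T a) := MonoidAlgebra.ext (Finsupp.ext fun x => by
        by_cases hx : x ∈ T
        · rw [show x = ((⟨x, hx⟩ : T) : G) from rfl, coeff_inc_of_mem, coeff_proj]
        · rw [coeff_inc_of_notMem _ _ hx]; exact piece_supp hf θ hx)
      have hgood : Good p (proj T a) := by
        refine ⟨mem_ctr_iff.2 fun x t => ?_, inc_injective T ?_, fun x => ?_, fun x hx => ?_⟩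
        · rw [coeff_proj, coeff_proj]
          exact piece_conj hf θ t.2 (x : G)
        · rw [map_mul, ← haT]; exact piece_idem hf θ
        · rw [coeff_proj, coeff_proj, InvMemClass.coe_inv]; exact piece_herm hf θ x
        · rw [coeff_proj]
          exact piece_reg hf θ hNp (by rwa [Subgroup.orderOf_coe])
      have hlt : Nat.card T < Nat.card G :=
        lt_of_le_of_ne (Subgroup.card_le_card_group T) fun h => hT (Subgroup.eq_top_of_card_eq T h)
      have := ih (Nat.card T) (hc ▸ hlt) (G := T) (PLocal.isPSolvable_subgroup hsolv T) hgood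
        ⟨g, hgT⟩ rfl
      rwa [coeff_proj] at this

end CfsgLib.BlocksLocal.Weighted
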