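import Cfsg.Agent.BlocksLocal.InertiaDefect
import Cfsg.Agent.BlocksLocal.WeightedUnion
import Cfsg.Agent.ConstrainedBlock.Principal
import Cfsg.Agent.CharactersDeep.Gallagher
import Cfsg.Agent.GaloisAverage.Ito
import Cfsg.Agent.PLocal.Constraint
import Cfsg.Agent.S0854
import Cfsg.Agent.S0887

/-!
# Heights in p-solvable groups

The height of a character in a block with defect group `P` of a p-solvable group is at most the
exponent of `p` in the index of the centre of `P`.
-/

set_option autoImplicit false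
set_option linter.unusedSectionVars false
set_option linter.style.haveILetI false

namespace CfsgLib.BlocksLocal.HeightBound

open Cfsg CfsgLib.Blocks
open CfsgLib.BlockPairs (cj mem_cj card_cj)
open scoped ComplexConjugate

universe u

variable {G : Type u} [Group G] [Fintype G] {M : Ideal AlgInt} [M.IsPrime] {p : ℕ} [Fact p.Prime]

theorem index_center_eq {A B : Type u} [Group A] [Group B] [Finite A] [Finite B] (e : A ≃* B) :
    (Subgroup.center A).index = (Subgroup.center B).index := by
  have h1 := (Subgroup.center A).card_mul_index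
  rw [Nat.card_congr e.toEquiv, ← (Subgroup.center B).card_mul_index,
    Nat.card_congr (Subgroup.centerCongr e).toEquiv] at h1
  exact Nat.eq_of_mul_eq_mul_left Nat.card_pos h1

/-- The degree over an invariant character is bounded by the index of an abelian section. -/
theorem factorization_degree_le_index {N A : Subgroup G} [hNn : N.Normal] [Fintype N] [A.Normal]
    (hNA : N ≤ A) (hNp : ¬ p ∣ Nat.card N) (hq : ∃ k, N.relIndex A = p ^ k)
    (hab : ∀ a ∈ A, ∀ b ∈ A, a * b * a⁻¹ * b⁻¹ ∈ N)
    {θ : IrrCharacter N} (hθ : ConstrainedBlock.Invariant N θ) {χ : IrrCharacter G}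
    (hover : ConstrainedBlock.Over N θ χ) :
    (Cfsg.charDegree (χ : G → ℂ)).factorization p ≤ A.index.factorization p := by
  classical
  haveI := Fintype.ofFinite A
  set N' := N.subgroupOf A with hN'
  haveI : N'.Normal := hNn.subgroupOf A
  haveI := Fintype.ofFinite N'
  let e : N' ≃* N := Subgroup.subgroupOfEquivOfLe hNA
  obtain ⟨η, hres, -⟩ := ConstrainedBlock.exists_invariant_extension hθ hNp A hNA hq
  have hηN : (fun n : N' => (η : A → ℂ) n) = fun n : N' => (θ : N → ℂ) (e n) :=
    funext fun n => (congrArg (η : A → ℂ) (Subtype.ext rfl)).trans (hres (e n))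
  have hθ' : Cfsg.IsIrrCharacter N' fun n : N' => (η : A → ℂ) n := by
    rw [hηN]; exact Characters.isIrr_comp e.toMonoidHom e.surjective θ.2
  -- a constituent on `A` over `θ`
  obtain ⟨m, hm⟩ := Characters.exists_nat_coeff
    (Characters.isCharacter_restrict A (Characters.isCharacter_of_isIrr χ.2))
  obtain ⟨φ, hφ0, hφθ⟩ : ∃ φ : IrrCharacter A, m φ ≠ 0 ∧
      Cfsg.classInner (fun n : N' => (φ : A → ℂ) n) (fun n : N' => (η : A → ℂ) n) ≠ 0 := by
    by_contra hno
    simp only [not_exists, not_and, not_not] at hno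
    refine hover ?_
    have h1 : Cfsg.classInner (fun n : N => (χ : G → ℂ) n) (θ : N → ℂ) =
        Cfsg.classInner (fun n : N' => (χ : G → ℂ) (n : A)) (fun n : N' => (η : A → ℂ) n) := by
      rw [hηN]
      simp only [Cfsg.classInner]
      rw [Nat.card_congr e.toEquiv]
      congr 1
      exact (Fintype.sum_equiv e.toEquiv _ _ fun n => rfl).symm
    have h2 : (fun n : N' => (χ : G → ℂ) (n : A)) =
        ∑ φ : IrrCharacter A, (m φ : ℂ) • fun n : N' => (φ : A → ℂ) n := by
      funext n
      have := congrFun hm (n : A)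
      simp only [Finset.sum_apply, Pi.smul_apply] at this ⊢
      exact this
    rw [h1, h2, Characters.classInner_sum_left]
    refine Finset.sum_eq_zero fun φ _ => ?_
    rw [Characters.classInner_smul_left]
    by_cases h : m φ = 0
    · rw [h, Nat.cast_zero, zero_mul]
    · rw [hno φ h, mul_zero]
  obtain ⟨β, hβ, hφβ⟩ :=
    CharactersDeep.Gallagher.exists_eq_prodInfl N' η.2 hθ' φ.2 hφθ
  have hcomm : ∀ a ∈ (⊤ : Subgroup (A ⧸ N')), ∀ b ∈ (⊤ : Subgroup (A ⧸ N')), a * b = b * a := by
    intro a _ b _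
    obtain ⟨a, rfl⟩ := QuotientGroup.mk_surjective a
    obtain ⟨b, rfl⟩ := QuotientGroup.mk_surjective b
    rw [← mul_inv_eq_one, ← QuotientGroup.mk_mul, ← QuotientGroup.mk_mul, ← QuotientGroup.mk_inv,
      ← QuotientGroup.mk_mul, QuotientGroup.eq_one_iff, Subgroup.mem_subgroupOf]
    simpa [mul_assoc] using hab _ a.2 _ b.2
  haveI := Fintype.ofFinite (A ⧸ N')
  obtain ⟨d, hd, hdvd⟩ := GaloisAverage.exists_degree_dvd_index hβ ⊤ hcomm
  rw [Subgroup.index_top, Nat.dvd_one] at hdvd
  have hφ1 : (φ : A → ℂ) 1 = (θ : N → ℂ) 1 := by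
    rw [congrFun hφβ 1, CharactersDeep.Gallagher.prodInfl, QuotientGroup.mk_one, hd, hdvd,
      Nat.cast_one, mul_one, ← hres 1, map_one]
  have hcon : Cfsg.classInner (fun a : A => (χ : G → ℂ) a) (φ : A → ℂ) ≠ 0 := by
    rw [hm, Characters.classInner_irr_coeff, Nat.cast_ne_zero]
    exact hφ0
  obtain ⟨hdc, hquot⟩ := Cfsg.Agent.S0887.result A (χ : G → ℂ) χ.2 (φ : A → ℂ) φ.2 hcon
    (Cfsg.charDegree (χ : G → ℂ)) (Cfsg.charDegree (θ : N → ℂ))
    (charDegree_cast χ).symm (hφ1.trans (charDegree_cast θ).symm)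
  have h3 := (Nat.factorization_le_iff_dvd
    (Nat.div_pos (Nat.le_of_dvd (Nat.pos_of_ne_zero (charDegree_ne_zero χ)) hdc)
      (Nat.pos_of_ne_zero (charDegree_ne_zero θ))).ne' Subgroup.index_ne_zero_of_finite).2 hquot p
  rw [Nat.factorization_div hdc, Finsupp.tsub_apply,
    Nat.factorization_eq_zero_of_not_dvd (ConstrainedBlock.not_dvd_charDegree hNp θ),
    Nat.sub_zero] at h3
  exact h3

open Classical in
/-- The bound over an invariant character of `O_{p'}`. -/
theorem height_le_of_invariant (hM : Cfsg.IsPModular p M) (hsolv : Cfsg.IsPSolvable p G)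
    {N : Subgroup G} [hNn : N.Normal] [Fintype N] (hN : N = Cfsg.pPrimeCore p G)
    {θ : IrrCharacter N} (hθ : ConstrainedBlock.Invariant N θ) {B : Set (IrrCharacter G)}
    (hB : Cfsg.IsPBlock M B) {P : Subgroup G} (hP : Cfsg.IsDefectGroup p M B P)
    {χ : IrrCharacter G} (hχ : χ ∈ B) (hover : ConstrainedBlock.Over N θ χ) :
    Cfsg.blockHeight p B (χ : G → ℂ) ≤ ((Subgroup.center P).index).factorization p := by
  set L := Cfsg.pPrimePCore p G with hL
  have hcard : ¬ p ∣ Nat.card N := hN ▸
    (Nat.Prime.coprime_iff_not_dvd (Fact.out : p.Prime)).1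
      (PLocal.coprime_card_pPrimeCore p G).symm
  have hNL : N ≤ L := hN ▸ PLocal.pPrimeCore_le_pPrimePCore p G
  have hq : ∃ k, N.relIndex L = p ^ k := hN ▸ PLocal.relIndex_pPrimeCore_pPrimePCore
  obtain ⟨S⟩ : Nonempty (Sylow p L) := inferInstance
  have hQ := Blocks.isSylowIn_map_subtype S
  have hCQ := PLocal.isPConstrained_of_isPSolvable hsolv S
  haveI : L.Normal := by rw [hL]; infer_instance
  have hs := ConstrainedBlock.setting_of_constrained hcard hNL hq hQ.1 hQ.2.1 hQ.2.2 hCQ
  have hB' := ConstrainedBlock.isPBlock_overSet hs hM hθ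
  have hBeq : B = ConstrainedBlock.overSet (X := G) θ := isPBlock_eq_of_mem hB hB' hχ hover
  obtain ⟨P₀, rfl⟩ : ∃ P₀ : Sylow p G, (P₀ : Subgroup G) = P := by
    obtain ⟨P₁⟩ : Nonempty (Sylow p G) := inferInstance
    obtain ⟨x, hx⟩ := IsDefectGroup.exists_conj hM hB
      (hBeq ▸ ConstrainedBlock.isDefectGroup_overSet hs hM hθ P₁) hP
    exact ⟨x • P₁, by rw [← hx, Sylow.coe_subgroup_smul]; rfl⟩
  -- the abelian section
  set Q := Cfsg.pCore p (G ⧸ N) with hQdef
  set Z := Q ⊓ Subgroup.centralizer (Q : Set (G ⧸ N)) with hZ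
  haveI : Z.Normal := by rw [hZ]; infer_instance
  set A := Z.comap (QuotientGroup.mk' N) with hA
  haveI : A.Normal := inferInstanceAs (Z.comap _).Normal
  have hNA : N ≤ A := fun n hn => by
    rw [hA, Subgroup.mem_comap, QuotientGroup.mk'_apply, (QuotientGroup.eq_one_iff n).2 hn]
    exact one_mem _
  have hqA : ∃ k, N.relIndex A = p ^ k := by
    have h1 : N.relIndex A = Nat.card (A.map (QuotientGroup.mk' N)) := by
      rw [← Subgroup.relIndex_ker, QuotientGroup.ker_mk']
    rw [h1, hA, Subgroup.map_comap_eq_self_of_surjective (QuotientGroup.mk'_surjective N)]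
    exact IsPGroup.iff_card.1 ((PLocal.isPGroup_pCore p (G ⧸ N)).to_le inf_le_left)
  have hab : ∀ a ∈ A, ∀ b ∈ A, a * b * a⁻¹ * b⁻¹ ∈ N := by
    intro a ha b hb
    have hc : (b : G ⧸ N) * (a : G ⧸ N) = (a : G ⧸ N) * (b : G ⧸ N) :=
      Subgroup.mem_centralizer_iff.1 (show (a : G ⧸ N) ∈ Z from ha).2 _
        (show (b : G ⧸ N) ∈ Z from hb).1
    rw [← QuotientGroup.eq_one_iff, QuotientGroup.mk_mul, QuotientGroup.mk_mul,
      QuotientGroup.mk_mul, QuotientGroup.mk_inv, QuotientGroup.mk_inv, ← hc]
    simp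
  have hdeg := factorization_degree_le_index hNA hcard hqA hab hθ hover
  -- the centre of `P` lies in `A`
  have hQP : Q ≤ (P₀ : Subgroup G).map (QuotientGroup.mk' N) :=
    PLocal.pCore_le_sylow (P₀.mapSurjective (QuotientGroup.mk'_surjective N))
  have hZA : (Subgroup.center (P₀ : Subgroup G)).map (P₀ : Subgroup G).subtype ≤ A := by
    rintro _ ⟨z, hz, rfl⟩
    have hzc : ((z : G) : G ⧸ N) ∈ Subgroup.centralizer (Q : Set (G ⧸ N)) :=
      Subgroup.mem_centralizer_iff.2 fun q hq => by
        obtain ⟨u, hu, rfl⟩ := hQP hq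
        have h := congrArg Subtype.val (Subgroup.mem_center_iff.1 hz ⟨u, hu⟩)
        simpa using congrArg (fun x : G => (x : G ⧸ N)) h
    refine ⟨PLocal.centralizer_pCore_le (PLocal.isPSolvable_quotient hsolv N)
      (by subst hN; exact PLocal.pPrimeCore_quotient_pPrimeCore_eq_bot p G) hzc, hzc⟩
  -- counting
  set cP := Nat.card (P₀ : Subgroup G)
  have hGP : (Nat.card G).factorization p = cP.factorization p := by
    rw [← (P₀ : Subgroup G).card_mul_index, Nat.factorization_mul Nat.card_pos.ne'
      Subgroup.index_ne_zero_of_finite, Finsupp.add_apply,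
      Nat.factorization_eq_zero_of_not_dvd P₀.not_dvd_index, add_zero]
  have hZc : (Nat.card (Subgroup.center (P₀ : Subgroup G))).factorization p ≤
      (Nat.card A).factorization p := by
    refine (Nat.factorization_le_iff_dvd Nat.card_pos.ne' Nat.card_pos.ne').2 ?_ p
    rw [← Subgroup.card_map_of_injective (K := Subgroup.center (P₀ : Subgroup G))
      (P₀ : Subgroup G).subtype_injective]
    exact Subgroup.card_dvd_of_le hZA
  have e1 : (Nat.card G).factorization p =
      (Nat.card A).factorization p + A.index.factorization p := by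
    rw [← A.card_mul_index, Nat.factorization_mul Nat.card_pos.ne'
      Subgroup.index_ne_zero_of_finite, Finsupp.add_apply]
  have e2 : cP.factorization p = (Nat.card (Subgroup.center (P₀ : Subgroup G))).factorization p +
      (Subgroup.center (P₀ : Subgroup G)).index.factorization p := by
    show (Nat.card (P₀ : Subgroup G)).factorization p = _
    rw [← (Subgroup.center (P₀ : Subgroup G)).card_mul_index,
      Nat.factorization_mul Nat.card_pos.ne' Subgroup.index_ne_zero_of_finite, Finsupp.add_apply]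
  have e3 : Cfsg.blockHeight p B (χ : G → ℂ) ≤ (Cfsg.charDegree (χ : G → ℂ)).factorization p :=
    Nat.sub_le _ _
  omega

open Classical in
/-- **The height bound.** -/
theorem height_le (hM : Cfsg.IsPModular p M) (hsolv : Cfsg.IsPSolvable p G)
    {B : Set (IrrCharacter G)} (hB : Cfsg.IsPBlock M B) {P : Subgroup G}
    (hP : Cfsg.IsDefectGroup p M B P) {χ : IrrCharacter G} (hχ : χ ∈ B) :
    Cfsg.blockHeight p B (χ : G → ℂ) ≤ ((Subgroup.center P).index).factorization p := by
  induction hc : Nat.card G using Nat.strong_induction_on generalizing G with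
  | _ k ih =>
    set N := Cfsg.pPrimeCore p G with hNdef
    haveI := Fintype.ofFinite N
    obtain ⟨θ, hθ⟩ := BlocksLocal.exists_constituent N χ
    set T := Weighted.stabilizer θ with hTdef
    by_cases hT : T = ⊤
    · refine height_le_of_invariant hM hsolv hNdef (θ := θ) (fun x n => ?_) hB hP hχ hθ
      refine Eq.trans (congrArg (θ : N → ℂ) (Subtype.ext (MulAut.conjNormal_apply x n).symm)) ?_
      exact (hT ▸ Subgroup.mem_top x : x ∈ T) n
    haveI := Fintype.ofFinite T
    have hNT : N ≤ T := Weighted.le_stabilizer θ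
    have hmem : ∀ g : G, g ∈ T ↔ ∀ n : N, (θ : N → ℂ) ⟨g * n * g⁻¹,
        Subgroup.Normal.conj_mem inferInstance (n : G) n.2 g⟩ = (θ : N → ℂ) n := fun g =>
      forall_congr' fun n => by
        rw [show MulAut.conjNormal g n = (⟨g * n * g⁻¹, _⟩ : N) from
          Subtype.ext (MulAut.conjNormal_apply g n)]
    obtain ⟨ψ₀, hψ₀, hind, hinner⟩ :=
      Cfsg.Agent.S0854.result N (θ : N → ℂ) θ.2 T hmem hNT (χ : G → ℂ) χ.2 hθ
    let ψ : IrrCharacter T := ⟨ψ₀, hψ₀⟩
    -- the characters of `T` over `θ`
    set N' := N.subgroupOf T with hN'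
    haveI := Fintype.ofFinite N'
    let e : N' ≃* N := Subgroup.subgroupOfEquivOfLe hNT
    let θ' : IrrCharacter N' := ⟨_, ConstrainedBlock.isIrr_comp_equiv e θ⟩
    have hθ' : ConstrainedBlock.Invariant N' θ' := fun t n => by
      refine Eq.trans ?_ ((hmem (t : G)).1 t.2 (e n))
      exact congrArg (θ : N → ℂ) (Subtype.ext rfl)
    have hN'p : ¬ p ∣ Nat.card N' := by
      rw [Nat.card_congr e.toEquiv]
      exact (Nat.Prime.coprime_iff_not_dvd (Fact.out : p.Prime)).1
        (PLocal.coprime_card_pPrimeCore p G).symm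
    set A : Set (IrrCharacter T) := {φ | ConstrainedBlock.Over N' θ' φ} with hA
    have hAu : IsBlockUnion M A := by
      intro φ hφ φ' hφ'
      have h := DFunLike.congr_fun ((sameBlock_iff φ φ').1 hφ')
        (ConstrainedBlock.eCtr hM hN'p hθ')
      rw [ConstrainedBlock.omegaBar_eCtr, ConstrainedBlock.omegaBar_eCtr,
        if_pos (show ConstrainedBlock.Over N' θ' φ from hφ)] at h
      by_contra hn
      rw [if_neg (show ¬ ConstrainedBlock.Over N' θ' φ' from hn)] at h
      exact one_ne_zero h
    have htr : ∀ f : T → ℂ, Cfsg.classInner (fun n : N' => f n) (θ' : N' → ℂ) =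
        Cfsg.classInner (fun n : N => f ⟨(n : G), hNT n.2⟩) (θ : N → ℂ) := fun f => by
      simp only [Cfsg.classInner]
      rw [Nat.card_congr e.toEquiv]
      congr 1
      exact Fintype.sum_equiv e.toEquiv _ _ fun n => rfl
    have hψA : ψ ∈ A := by
      show Cfsg.classInner (fun n : N' => ψ₀ n) (θ' : N' → ℂ) ≠ 0
      rw [htr, hinner]; exact hθ
    obtain ⟨m, hm⟩ := Characters.exists_nat_coeff
      (Characters.isCharacter_restrict T (Characters.isCharacter_of_isIrr χ.2))
    have hmφ : ∀ φ : IrrCharacter T,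
        Cfsg.classInner (fun t : T => (χ : G → ℂ) t) (φ : T → ℂ) = (m φ : ℂ) := fun φ => by
      rw [hm, Characters.classInner_irr_coeff]
    have hmψ : m ψ = 1 := by
      have h : (m ψ : ℂ) = ((1 : ℕ) : ℂ) := by
        rw [← hmφ, ← Characters.classInner_indFun_right T ψ₀
          (Characters.isClassFunction_of_isIrr χ.2), hind, Characters.classInner_isIrr_self χ.2,
          Nat.cast_one]
      exact_mod_cast h
    have hk : ∀ φ : IrrCharacter T, ∃ l : ℕ,
        Cfsg.classInner (fun n : N' => (φ : T → ℂ) n) (θ' : N' → ℂ) = l := fun φ =>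
      Characters.classInner_character_irr
        (Characters.isCharacter_restrict N' (Characters.isCharacter_of_isIrr φ.2)) θ'.2
    choose l hl using hk
    have hsum : ∑ φ : IrrCharacter T, m φ * l φ = l ψ := by
      apply Nat.cast_injective (R := ℂ)
      push_cast
      have h1 := htr fun t : T => (χ : G → ℂ) t
      have h2 : (fun n : N' => (χ : G → ℂ) (n : T)) =
          ∑ φ : IrrCharacter T, (m φ : ℂ) • fun n : N' => (φ : T → ℂ) n := by
        funext n
        have := congrFun hm (n : T)
        simp only [Finset.sum_apply, Pi.smul_apply] at this ⊢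
        exact this
      rw [h2, Characters.classInner_sum_left] at h1
      simp only [Characters.classInner_smul_left, hl] at h1
      rw [h1, ← hl ψ, htr, show (ψ : T → ℂ) = ψ₀ from rfl, hinner]
    have honly : ∀ φ ∈ A, φ ≠ ψ →
        Cfsg.classInner (fun t : T => (χ : G → ℂ) t) (φ : T → ℂ) = 0 := by
      intro φ hφ hne
      have h1 : m φ * l φ + m ψ * l ψ ≤ l ψ := by
        rw [← Finset.sum_pair hne (f := fun φ => m φ * l φ)]
        exact (Finset.sum_le_sum_of_subset (Finset.subset_univ _)).trans hsum.le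
      have h2 : m φ * l φ = 0 := by rw [hmψ, one_mul] at h1; omega
      have h3 : l φ ≠ 0 := fun h => hφ (by rw [hl, h, Nat.cast_zero])
      rw [hmφ, (mul_eq_zero.1 h2).resolve_right h3, Nat.cast_zero]
    obtain ⟨D, hD⟩ := exists_isDefectGroup (p := p) (isPBlock_blockOf (M := M) ψ)
    obtain ⟨x, hx⟩ := Inertia.exists_cj_eq_of_separated hM (ψ := ψ) hind hAu hψA honly hB hχ hP hD
    have hlt : Nat.card T < Nat.card G :=
      lt_of_le_of_ne (Subgroup.card_le_card_group T) fun h => hT (Subgroup.eq_top_of_card_eq T h)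
    have hih := ih (Nat.card T) (hc ▸ hlt) (G := T) (PLocal.isPSolvable_subgroup hsolv T)
      (isPBlock_blockOf ψ) hD (mem_blockOf_self ψ) rfl
    let eP : P ≃* D :=
      (Subgroup.equivMapOfInjective P (MulAut.conj x).toMonoidHom (MulAut.conj x).injective).trans
        ((MulEquiv.subgroupCongr hx).trans
          (Subgroup.equivMapOfInjective D T.subtype T.subtype_injective).symm)
    rw [index_center_eq eP]
    have hcardPD : Nat.card P = Nat.card D := Nat.card_congr eP.toEquiv
    have h1 := blockHeight_eq hM hB hP hχ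
    have h2 := blockHeight_eq hM (isPBlock_blockOf ψ) hD (mem_blockOf_self ψ)
    have hdeg : Cfsg.charDegree (χ : G → ℂ) = T.index * Cfsg.charDegree (ψ : T → ℂ) := by
      apply Nat.cast_injective (R := ℂ)
      rw [Nat.cast_mul, charDegree_cast, charDegree_cast, ← hind, Characters.indFun_one]
    rw [hcardPD, hdeg, Nat.factorization_mul Subgroup.index_ne_zero_of_finite
      (charDegree_ne_zero ψ), Finsupp.add_apply, ← T.card_mul_index,
      Nat.factorization_mul Nat.card_pos.ne' Subgroup.index_ne_zero_of_finite,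
      Finsupp.add_apply] at h1
    omega

end CfsgLib.BlocksLocal.HeightBound
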