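import Mathlib
import Cfsg.Agent.Small.ExceptionalGram

/-!
# Columns of a block with a homocyclic defect group of rank two

Pure arithmetic of Brauer's argument: integer columns on an abelian group `V` with a fixed-point
free automorphism of order three, orthogonal across orbits and satisfying one structure constant
relation, contain a second row of degree one that is trivial on `V`.
-/

set_option autoImplicit false
set_option linter.unusedSectionVars false

namespace CfsgLib.BlocksLocal.Columns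

open scoped ComplexConjugate

variable {V : Type} [AddCommGroup V] [Fintype V] [DecidableEq V]

/-- The number theory at the end. -/
theorem eq_one_of_relations {A B Y k₁ k₂ k₃ q : ℤ} (hq : 16 ∣ q) (hA : A = 1 + q * k₁)
    (hB : B = 1 + q * k₂) (hY : Y = -3 + q * k₃) (hlin : 1 + A + B + Y = 0)
    (hinv : A * B * Y + B * Y + A * Y + 9 * (A * B) = 0) : A = 1 ∨ B = 1 := by
  obtain ⟨r, rfl⟩ := hq
  by_contra hcon
  push Not at hcon
  obtain ⟨hA1, hB1⟩ := hcon
  have hA' : A = 1 + 16 * (r * k₁) := by rw [hA]; ring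
  have hB' : B = 1 + 16 * (r * k₂) := by rw [hB]; ring
  have hY' : Y = -3 + 16 * (r * k₃) := by rw [hY]; ring
  generalize r * k₁ = a at hA'
  generalize r * k₂ = b at hB'
  generalize r * k₃ = c at hY'
  have ha : 15 ≤ |A| := by rcases abs_cases A with h | h <;> omega
  have hb : 15 ≤ |B| := by rcases abs_cases B with h | h <;> omega
  have h9 : |Y| * |A * B + B + A| = 9 * (|A| * |B|) := by
    have h : Y * (A * B + B + A) = -(9 * (A * B)) := by linarith
    rw [← abs_mul, h, abs_neg, abs_mul, abs_mul]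
    norm_num
  have hlow : |A| * |B| - |B| - |A| ≤ |A * B + B + A| := by
    have h1 : A * B = (A * B + B + A) + (-B + -A) := by ring
    have h2 := abs_add_le (A * B + B + A) (-B + -A)
    rw [← h1, abs_mul] at h2
    have h3 := abs_add_le (-B) (-A)
    rw [abs_neg, abs_neg] at h3
    linarith
  have hYle : |Y| ≤ 10 := by
    by_contra hlt
    push Not at hlt
    nlinarith [mul_le_mul_of_nonneg_right hlt.le (abs_nonneg (A * B + B + A)),
      mul_nonneg (sub_nonneg.2 ha) (sub_nonneg.2 hb)]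
  have hY3 : Y = -3 := by rcases abs_cases Y with h | h <;> omega
  rw [hY3] at hlin hinv
  have h2 : A + B = 2 := by omega
  have h1 : A * B = 1 := by nlinarith
  rcases Int.eq_one_or_neg_one_of_mul_eq_one h1 with h | h <;> omega

theorem sum_conj_eq_ite (ψ : AddChar V ℂ) [Decidable (ψ = 0)] :
    ∑ w, conj (ψ w) = if ψ = 0 then (Fintype.card V : ℂ) else 0 := by
  rw [← map_sum, AddChar.sum_eq_ite]
  split_ifs <;> simp

variable (α : V ≃+ V)

/-- A character moved by the automorphism. -/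
noncomputable def tw (ψ : AddChar V ℂ) : AddChar V ℂ := ψ.compAddMonoidHom α.toAddMonoidHom

theorem tw_apply (ψ : AddChar V ℂ) (w : V) : tw α ψ w = ψ (α w) := rfl

/-- The orbit of a character. -/
noncomputable def orb (ψ : AddChar V ℂ) : Finset (AddChar V ℂ) :=
  haveI := Classical.decEq (AddChar V ℂ)
  {ψ, tw α ψ, tw α (tw α ψ)}

theorem mem_orb {ψ φ : AddChar V ℂ} :
    φ ∈ orb α ψ ↔ φ = ψ ∨ φ = tw α ψ ∨ φ = tw α (tw α ψ) := by simp [orb]

variable (hα3 : ∀ v, α (α (α v)) = v) (hfpf : ∀ v, α v = v → v = 0)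
include hα3 hfpf

theorem tw_three (ψ : AddChar V ℂ) : tw α (tw α (tw α ψ)) = ψ := by
  ext w
  simp only [tw_apply, hα3]

theorem orb_tw (ψ : AddChar V ℂ) : orb α (tw α ψ) = orb α ψ := by
  ext φ
  rw [mem_orb, mem_orb, tw_three α hα3 hfpf]
  tauto

theorem orb_eq_of_mem {ψ φ : AddChar V ℂ} (h : φ ∈ orb α ψ) : orb α φ = orb α ψ := by
  rcases (mem_orb α).1 h with rfl | rfl | rfl
  · rfl
  · exact orb_tw α hα3 hfpf ψ
  · rw [orb_tw α hα3 hfpf, orb_tw α hα3 hfpf]

theorem eq_zero_of_tw_eq {ψ : AddChar V ℂ} (h : tw α ψ = ψ) : ψ = 0 := by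
  have hinj : Function.Injective fun w : V => α w - w := fun a b hab => by
    have : α (a - b) = a - b := by
      have h' : α a - a = α b - b := hab
      rw [map_sub]
      linear_combination (norm := abel) h'
    exact sub_eq_zero.1 (hfpf _ this)
  ext w
  obtain ⟨a, rfl⟩ := Finite.surjective_of_injective hinj w
  show ψ (α a - a) = 1
  rw [sub_eq_add_neg, AddChar.map_add_eq_mul, ← tw_apply, h, ← AddChar.map_add_eq_mul,
    add_neg_cancel, AddChar.map_zero_eq_one]

theorem tw_ne_zero {ψ : AddChar V ℂ} (h : ψ ≠ 0) : tw α ψ ≠ 0 := fun h0 => h <| by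
  rw [← tw_three α hα3 hfpf ψ, h0]
  ext w
  simp [tw_apply]

theorem sum_orb {ψ : AddChar V ℂ} (h : ψ ≠ 0) {R : Type*} [AddCommMonoid R]
    (g : AddChar V ℂ → R) :
    ∑ φ ∈ orb α ψ, g φ = g ψ + (g (tw α ψ) + g (tw α (tw α ψ))) := by
  classical
  have h1 : ψ ≠ tw α ψ := fun e => h (eq_zero_of_tw_eq α hα3 hfpf e.symm)
  have h2 : ψ ≠ tw α (tw α ψ) := fun e => by
    have := congrArg (tw α) e
    rw [tw_three α hα3 hfpf] at this
    exact h1 this.symm
  have h3 : tw α ψ ≠ tw α (tw α ψ) := fun e => tw_ne_zero α hα3 hfpf h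
    (eq_zero_of_tw_eq α hα3 hfpf e.symm)
  rw [show orb α ψ = {ψ, tw α ψ, tw α (tw α ψ)} by ext φ; simp [mem_orb],
    Finset.sum_insert (by simp [h1, h2]), Finset.sum_insert (by simp [h3]), Finset.sum_singleton]

variable {I : Type*} [Fintype I] [DecidableEq I] (d : I → ℕ) (f : I → V → ℂ)

/-- **The column argument.** -/
theorem exists_second_trivial_row (hd : ∀ i, 0 < d i) (hf0 : ∀ i, f i 0 = d i)
    (hq : 16 ∣ Fintype.card V)
    (hinv : ∀ i v, f i (α v) = f i v)
    (hint : ∀ i (ψ : AddChar V ℂ), ∃ k : ℤ, ∑ w, f i w * conj (ψ w) = (Fintype.card V : ℂ) * k)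
    (i₀ : I) (htriv : ∀ v, f i₀ v = 1)
    (horth : ∀ v w, v ≠ 0 → w ≠ 0 → ∑ i, f i v * conj (f i w) =
      if w = v ∨ w = α v ∨ w = α (α v) then (Fintype.card V : ℂ) else 0)
    (hdeg : ∀ v, v ≠ 0 → ∑ i, (d i : ℂ) * f i v = 0)
    {t u : V} (ht : t ≠ 0) (ht2 : t + t = 0) (hu : u ≠ 0) (hu2 : u + u ≠ 0)
    (hstr : ∑ i, f i t ^ 2 / (d i : ℂ) * f i u = 0) :
    ∃ i, i ≠ i₀ ∧ d i = 1 ∧ ∀ v, f i v = 1 := by
  classical
  have hV : (Fintype.card V : ℂ) ≠ 0 := Nat.cast_ne_zero.2 Fintype.card_ne_zero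
  have hV0 : ∀ {z : V}, z ≠ 0 → ∑ ψ : AddChar V ℂ, ψ z = 0 := fun {z} hz => by
    rw [AddChar.sum_apply_eq_ite, if_neg hz]
  -- Fourier coefficients
  choose c hc using hint
  set q : ℂ := (Fintype.card V : ℂ) with hqdef
  have hexp : ∀ i v, f i v = ∑ ψ : AddChar V ℂ, (c i ψ : ℂ) * ψ v := by
    intro i v
    refine mul_left_cancel₀ hV ?_
    rw [Finset.mul_sum]
    simp only [← mul_assoc, ← hc, Finset.sum_mul]
    rw [Finset.sum_comm, Finset.sum_eq_single v]
    · simp only [mul_assoc, ← AddChar.map_neg_eq_conj, ← AddChar.map_add_eq_mul,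
        neg_add_cancel, AddChar.map_zero_eq_one, mul_one]
      rw [Finset.sum_const, Finset.card_univ, nsmul_eq_mul, AddChar.card_eq]
    · intro w _ hw
      simp only [mul_assoc, ← AddChar.map_neg_eq_conj, ← AddChar.map_add_eq_mul]
      rw [← Finset.mul_sum, hV0 (fun h => hw (neg_add_eq_zero.1 h)), mul_zero]
    · simp
  have hctw : ∀ i ψ, c i (tw α ψ) = c i ψ := by
    intro i ψ
    have h : (Fintype.card V : ℂ) * (c i (tw α ψ) : ℂ) = (Fintype.card V : ℂ) * (c i ψ : ℂ) := by
      rw [← hc, ← hc]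
      refine Fintype.sum_equiv α.toEquiv _ _ fun w => ?_
      show f i w * conj (tw α ψ w) = f i (α w) * conj (ψ (α w))
      rw [tw_apply, hinv]
    exact_mod_cast mul_left_cancel₀ hV h
  let ν : AddChar V ℂ → I → ℤ := fun ψ i => c i 0 - c i ψ
  have hνdef : ∀ ψ i, q * (ν ψ i : ℂ) = ∑ w, f i w * (1 - conj (ψ w)) := by
    intro ψ i
    simp only [ν, Int.cast_sub, mul_sub, ← hc, mul_one, Finset.sum_sub_distrib]
    simp
  have hνorb : ∀ ψ φ, φ ∈ orb α ψ → ν φ = ν ψ := by
    intro ψ φ hφ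
    funext i
    rcases (mem_orb α).1 hφ with rfl | rfl | rfl <;> simp [ν, hctw]
  have hνconj : ∀ ψ i, q * (ν ψ i : ℂ) = ∑ w, conj (f i w) * (1 - ψ w) := by
    intro ψ i
    have h := congrArg conj (hνdef ψ i)
    simpa [hqdef] using h
  have hinner : ∀ ψ φ : AddChar V ℂ, ψ ≠ 0 → φ ≠ 0 →
      ∑ i, ν ψ i * ν φ i = 3 + if φ ∈ orb α ψ then 1 else 0 := by
    intro ψ φ hψ hφ
    have hsum1 : ∀ χ : AddChar V ℂ, χ ≠ 0 →
        ∑ a, (1 - conj (ψ a)) * (1 - χ a) = q * (1 + if ψ = χ then 1 else 0) := by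
      intro χ hχ
      have h1 : ∑ a, conj (ψ a) * χ a = if ψ = χ then q else 0 := by
        have : ∀ a, conj (ψ a) * χ a = (χ - ψ) a := fun a => by
          rw [AddChar.sub_apply, AddChar.map_neg_eq_conj, mul_comm]
        rw [Finset.sum_congr rfl fun a _ => this a, AddChar.sum_eq_ite]
        simp only [sub_eq_zero, @eq_comm _ χ ψ]
        rfl
      simp only [sub_mul, mul_sub, one_mul, mul_one, Finset.sum_sub_distrib, h1,
        sum_conj_eq_ite, AddChar.sum_eq_ite, if_neg hψ, if_neg hχ]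
      simp only [Finset.sum_const, Finset.card_univ, nsmul_eq_mul, mul_one, sub_zero]
      split_ifs <;> ring
    have h : (q * q) * ((∑ i, ν ψ i * ν φ i : ℤ) : ℂ) =
        (q * q) * (((3 + if φ ∈ orb α ψ then 1 else 0 : ℤ)) : ℂ) := by
      push_cast
      calc q * q * ∑ i, (ν ψ i : ℂ) * (ν φ i : ℂ)
          = ∑ i, (q * (ν ψ i : ℂ)) * (q * (ν φ i : ℂ)) := by
            rw [Finset.mul_sum]; exact Finset.sum_congr rfl fun i _ => by ring
        _ = ∑ a, ∑ b, (1 - conj (ψ a)) * (1 - φ b) * ∑ i, f i a * conj (f i b) := by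
            rw [Finset.sum_congr rfl fun i _ => by rw [hνdef ψ, hνconj φ, Finset.sum_mul_sum],
              Finset.sum_comm]
            refine Finset.sum_congr rfl fun a _ => ?_
            rw [Finset.sum_comm]
            refine Finset.sum_congr rfl fun b _ => ?_
            rw [Finset.mul_sum]
            exact Finset.sum_congr rfl fun i _ => by ring
        _ = ∑ a, (1 - conj (ψ a)) * q * ((1 - φ a) + ((1 - φ (α a)) + (1 - φ (α (α a))))) := by
            refine Finset.sum_congr rfl fun a _ => ?_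
            by_cases ha : a = 0
            · subst ha; simp
            have h1 : a ≠ α a := fun e => ha (hfpf a e.symm)
            have h2 : a ≠ α (α a) := fun e => by
              have := congrArg α e
              rw [hα3] at this
              exact h1 this.symm
            have h3 : α a ≠ α (α a) := fun e => h1 (α.injective e)
            rw [Finset.sum_congr rfl (g := fun b => (1 - conj (ψ a)) * q *
              (if b ∈ ({a, α a, α (α a)} : Finset V) then 1 - φ b else 0)) fun b _ => ?_]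
            · rw [← Finset.mul_sum, Finset.sum_ite_mem, Finset.univ_inter,
                Finset.sum_insert (by simp [h1, h2]), Finset.sum_insert (by simp [h3]),
                Finset.sum_singleton]
            · by_cases hb : b = 0
              · subst hb; simp
              rw [horth a b ha hb]
              simp only [Finset.mem_insert, Finset.mem_singleton]
              split_ifs <;> ring
        _ = q * (∑ a, (1 - conj (ψ a)) * (1 - φ a) +
              (∑ a, (1 - conj (ψ a)) * (1 - tw α φ a) +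
                ∑ a, (1 - conj (ψ a)) * (1 - tw α (tw α φ) a))) := by
            simp only [tw_apply, ← Finset.sum_add_distrib, Finset.mul_sum]
            exact Finset.sum_congr rfl fun a _ => by ring
        _ = _ := by
            rw [hsum1 φ hφ, hsum1 _ (tw_ne_zero α hα3 hfpf hφ),
              hsum1 _ (tw_ne_zero α hα3 hfpf (tw_ne_zero α hα3 hfpf hφ))]
            have hsplit : (if φ ∈ orb α ψ then (1 : ℂ) else 0) =
                ∑ χ ∈ orb α φ, if ψ = χ then (1 : ℂ) else 0 := by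
              rw [Finset.sum_ite_eq]
              refine if_congr ⟨fun h => ?_, fun h => ?_⟩ rfl rfl
              · rw [orb_eq_of_mem α hα3 hfpf h]; exact (mem_orb α).2 (Or.inl rfl)
              · rw [orb_eq_of_mem α hα3 hfpf h]; exact (mem_orb α).2 (Or.inl rfl)
            rw [hsplit, sum_orb α hα3 hfpf hφ]
            ring
    exact_mod_cast mul_left_cancel₀ (mul_ne_zero hV hV) h
  have hνdeg : ∀ ψ, ∑ i, ν ψ i * (d i : ℤ) = 0 := by
    intro ψ
    have h : q * ((∑ i, ν ψ i * (d i : ℤ) : ℤ) : ℂ) = q * ((0 : ℤ) : ℂ) := by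
      push_cast
      rw [mul_zero, Finset.mul_sum]
      calc ∑ i, q * ((ν ψ i : ℂ) * (d i : ℂ))
          = ∑ w, (1 - conj (ψ w)) * ∑ i, (d i : ℂ) * f i w := by
            simp only [← mul_assoc, hνdef, Finset.sum_mul, Finset.mul_sum]
            rw [Finset.sum_comm]
            exact Finset.sum_congr rfl fun w _ => Finset.sum_congr rfl fun i _ => by ring
        _ = 0 := Finset.sum_eq_zero fun w _ => by
            by_cases hw : w = 0
            · subst hw; simp
            · rw [hdeg w hw, mul_zero]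
    exact_mod_cast mul_left_cancel₀ hV h
  -- the orbits
  set S : Finset (AddChar V ℂ) := Finset.univ.filter (· ≠ 0) with hS
  let O := {o : Finset (AddChar V ℂ) // o ∈ S.image (orb α)}
  have hrep : ∀ o : O, ∃ ψ, ψ ≠ 0 ∧ orb α ψ = o.1 := fun o => by
    obtain ⟨ψ, hψ, he⟩ := Finset.mem_image.1 o.2
    exact ⟨ψ, (Finset.mem_filter.1 hψ).2, he⟩
  choose rep hrep0 hrepo using hrep
  have hscard : S.card + 1 = Fintype.card V := by
    rw [hS, Finset.filter_ne', Finset.card_erase_of_mem (Finset.mem_univ _), Finset.card_univ,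
      AddChar.card_eq]
    have := Fintype.card_pos (α := V)
    omega
  have hOcard : 5 ≤ Fintype.card O := by
    have h1 : S.card ≤ 3 * (S.image (orb α)).card := by
      refine Finset.card_le_mul_card_image _ 3 fun o ho => ?_
      obtain ⟨ψ, -, rfl⟩ := Finset.mem_image.1 ho
      refine le_trans (Finset.card_le_card (t := orb α ψ) fun φ hφ => ?_) ?_
      · rw [← (Finset.mem_filter.1 hφ).2]
        exact (mem_orb α).2 (Or.inl rfl)
      · rw [show orb α ψ = {ψ, tw α ψ, tw α (tw α ψ)} by ext φ; simp [mem_orb]]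
        exact Finset.card_le_three
    rw [Fintype.card_coe]
    have h16 := Nat.le_of_dvd Fintype.card_pos hq
    omega
  have hG : ∀ o o' : O, ∑ i, ν (rep o) i * ν (rep o') i = 3 + if o = o' then 1 else 0 := by
    intro o o'
    rw [hinner _ _ (hrep0 o) (hrep0 o')]
    congr 1
    refine if_congr ⟨fun h => Subtype.ext ?_, fun h => ?_⟩ rfl rfl
    · rw [← hrepo o, ← hrepo o', orb_eq_of_mem α hα3 hfpf h]
    · subst h; exact (mem_orb α).2 (Or.inl rfl)
  have hc0 : ∀ ψ, c i₀ ψ = if ψ = 0 then 1 else 0 := by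
    intro ψ
    have h : q * (c i₀ ψ : ℂ) = q * ((if ψ = 0 then (1 : ℤ) else 0 : ℤ) : ℂ) := by
      rw [← hc]
      simp only [htriv, one_mul, sum_conj_eq_ite]
      split_ifs <;> simp [hqdef]
    exact_mod_cast mul_left_cancel₀ hV h
  have hi₀ : ∀ ψ, ψ ≠ 0 → ν ψ i₀ = 1 := fun ψ hψ => by simp [ν, hc0, hψ]
  obtain ⟨b, σ, β, x, hσ, hxinj, hxv, hxb, hb2, hxi₀, hxd⟩ :=
    CfsgLib.Small.Exceptional.exists_family (fun o : O => ν (rep o)) d 3 hd hG
      (fun o => hνdeg _) i₀ (fun o => hi₀ _ (hrep0 o)) (by omega)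
  obtain ⟨o₀⟩ : Nonempty O := Fintype.card_pos_iff.1 (by omega)
  have hbi₀ : b i₀ = 1 := by
    have h := hxv o₀ i₀
    rw [if_neg (hxi₀ o₀).symm, add_zero, hi₀ _ (hrep0 o₀)] at h
    exact h.symm
  have hβ : β = 0 := by
    have h1 : ∑ i ∈ insert i₀ (Finset.univ.image x), b i * b i ≤ ∑ i, b i * b i :=
      Finset.sum_le_sum_of_subset_of_nonneg (Finset.subset_univ _) fun i _ _ =>
        mul_self_nonneg _
    rw [Finset.sum_insert (by simpa using fun o => hxi₀ o),
      Finset.sum_image fun a _ a' _ h => hxinj h, hbi₀, hb2] at h1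
    simp only [hxb, Finset.sum_const, Finset.card_univ, nsmul_eq_mul] at h1
    have h5 : (5 : ℤ) ≤ (Fintype.card O : ℤ) := by exact_mod_cast hOcard
    by_contra h0
    have h2 : 1 ≤ β * β := by have := mul_self_pos.2 h0; omega
    rcases hσ with rfl | rfl <;> nlinarith [mul_self_nonneg (β + 1), mul_self_nonneg (β - 1)]
  subst hβ
  rw [mul_zero, sub_zero] at hb2
  -- the multiplicity of each orbit
  have hmemS : ∀ ψ, ψ ∈ S ↔ ψ ≠ 0 := fun ψ => by simp [hS]
  let oo : S → O := fun ψ => ⟨orb α ψ.1, Finset.mem_image_of_mem _ ψ.2⟩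
  have hν : ∀ (ψ : S) i, ν ψ.1 i = b i + if x (oo ψ) = i then σ else 0 := by
    intro ψ i
    rw [hνorb (rep (oo ψ)) ψ.1 (by rw [hrepo]; exact (mem_orb α).2 (Or.inl rfl)), hxv]
    simp only [@eq_comm _ i]
  have hsumS : ∀ g : AddChar V ℂ → ℂ, ∑ ψ, g ψ = g 0 + ∑ ψ : S, g ψ.1 := by
    intro g
    rw [Finset.sum_coe_sort S g, hS, Finset.filter_ne',
      Finset.add_sum_erase _ _ (Finset.mem_univ _)]
  have hfiber : ∀ (o : O) (g : AddChar V ℂ → ℂ),
      ∑ ψ : S, (if x (oo ψ) = x o then g ψ.1 else 0) =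
        g (rep o) + (g (tw α (rep o)) + g (tw α (tw α (rep o)))) := by
    intro o g
    rw [← sum_orb α hα3 hfpf (hrep0 o) g, ← Finset.sum_filter]
    refine Finset.sum_bij (fun ψ _ => ψ.1) (fun ψ hψ => ?_) (fun a _ a' _ h => Subtype.ext h)
      (fun χ hχ => ?_) (fun _ _ => rfl)
    · have := congrArg Subtype.val (hxinj (Finset.mem_filter.1 hψ).2)
      rw [hrepo, ← this]
      exact (mem_orb α).2 (Or.inl rfl)
    · have hχS : χ ∈ S := by
        rw [hmemS]
        rcases (mem_orb α).1 hχ with rfl | rfl | rfl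
        exacts [hrep0 o, tw_ne_zero α hα3 hfpf (hrep0 o),
          tw_ne_zero α hα3 hfpf (tw_ne_zero α hα3 hfpf (hrep0 o))]
      exact ⟨⟨χ, hχS⟩, Finset.mem_filter.2 ⟨Finset.mem_univ _,
        congrArg x (Subtype.ext ((orb_eq_of_mem α hα3 hfpf hχ).trans (hrepo o)))⟩, rfl⟩
  have hval : ∀ i w, w ≠ 0 →
      f i w = b i - σ * ∑ ψ : S, (if x (oo ψ) = i then ψ.1 w else 0) := by
    intro i w hw
    rw [hexp, hsumS]
    have h0 : ∑ ψ : S, ψ.1 w = -1 := by
      have := hV0 hw
      rw [hsumS, AddChar.zero_apply] at this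
      linear_combination this
    have hcS : ∀ ψ : S, (c i ψ.1 : ℂ) = c i 0 - b i - (if x (oo ψ) = i then (σ : ℂ) else 0) := by
      intro ψ
      have := congrArg (fun z : ℤ => (z : ℂ)) (hν ψ i)
      simp only [ν] at this
      push_cast at this
      linear_combination -this
    simp only [AddChar.zero_apply, mul_one, hcS, sub_mul, Finset.sum_sub_distrib, ← Finset.mul_sum,
      h0, ite_mul, zero_mul]
    rw [Finset.mul_sum]
    simp only [mul_ite, mul_zero]
    ring
  have hdval : ∀ i, (d i : ℤ) = Fintype.card V * (c i 0 - b i) + b i -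
      σ * (Finset.univ.filter fun ψ : S => x (oo ψ) = i).card := by
    intro i
    have h := hexp i 0
    rw [hf0, hsumS] at h
    simp only [AddChar.map_zero_eq_one, mul_one] at h
    have h' : (d i : ℤ) = c i 0 + ∑ ψ : S, c i ψ.1 := by exact_mod_cast h
    rw [h', Finset.sum_congr rfl (g := fun ψ : S => c i 0 - b i - if x (oo ψ) = i then σ else 0)
      fun ψ _ => by have := hν ψ i; simp only [ν] at this; omega]
    rw [Finset.sum_sub_distrib, Finset.sum_const, ← Finset.sum_filter, Finset.sum_const,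
      Finset.card_univ, Fintype.card_coe, nsmul_eq_mul, nsmul_eq_mul, ← hscard]
    push_cast
    ring
  -- the structure relation
  set Λ : AddChar V ℂ → V → ℂ := fun ψ w => ψ w + (ψ (α w) + ψ (α (α w))) with hΛ
  have htsum : t + (α t + α (α t)) = 0 := hfpf _ (by rw [map_add, map_add, hα3]; abel)
  have hαt : ∀ v : V, v + v = 0 → α v + α v = 0 := fun v hv => by rw [← map_add, hv, map_zero]
  have hΛsq : ∀ ψ : AddChar V ℂ, Λ ψ t ^ 2 = 3 + 2 * Λ ψ t := by
    intro ψ
    have hsq : ∀ v : V, v + v = 0 → ψ v * ψ v = 1 := fun v hv => by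
      rw [← AddChar.map_add_eq_mul, hv, AddChar.map_zero_eq_one]
    have h1 := hsq t ht2
    have h2 := hsq _ (hαt t ht2)
    have h3 := hsq _ (hαt _ (hαt t ht2))
    have h4 : ψ t * (ψ (α t) * ψ (α (α t))) = 1 := by
      rw [← AddChar.map_add_eq_mul, ← AddChar.map_add_eq_mul, htsum, AddChar.map_zero_eq_one]
    simp only [hΛ]
    linear_combination h1 + h2 + h3 +
      2 * (ψ (α (α t)) * h4 - ψ t * ψ (α t) * h3) + 2 * (ψ (α t) * h4 - ψ t * ψ (α (α t)) * h2)
      + 2 * (ψ t * h4 - ψ (α t) * ψ (α (α t)) * h1)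
  have hnine : ∑ ψ : S, Λ ψ.1 t ^ 2 * ψ.1 u = -9 := by
    have hne : ∀ v : V, v + v = 0 → v + u ≠ 0 := fun v hv h => hu2 (by
      have : u = v := by rw [← add_right_inj v, h, hv]
      rw [this, hv])
    have e : ∀ ψ : AddChar V ℂ, Λ ψ t ^ 2 * ψ u =
        3 * ψ u + 2 * (ψ (t + u) + (ψ (α t + u) + ψ (α (α t) + u))) := fun ψ => by
      rw [hΛsq]
      simp only [hΛ, AddChar.map_add_eq_mul]
      ring
    have := hsumS fun ψ => Λ ψ t ^ 2 * ψ u
    simp only [e, Finset.sum_add_distrib, ← Finset.mul_sum, hV0 hu, hV0 (hne t ht2),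
      hV0 (hne _ (hαt t ht2)), hV0 (hne _ (hαt _ (hαt t ht2)))] at this ⊢
    simp only [AddChar.zero_apply] at this
    linear_combination -this
  have hX : ∀ o, d (x o) = d (x o₀) := fun o => hxd o o₀
  set X := d (x o₀) with hXdef
  have hterm : ∀ i, f i t ^ 2 / (d i : ℂ) * f i u =
      (b i : ℂ) ^ 3 / (d i : ℂ) -
        (σ : ℂ) / (X : ℂ) * ∑ ψ : S, (if x (oo ψ) = i then Λ ψ.1 t ^ 2 * ψ.1 u else 0) := by
    intro i
    rw [hval i t ht, hval i u hu]
    by_cases hi : ∃ o, x o = i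
    · obtain ⟨o, rfl⟩ := hi
      have hΛo : Λ (rep o) t ^ 2 * Λ (rep o) u =
          ∑ ψ : S, (if x (oo ψ) = x o then Λ ψ.1 t ^ 2 * ψ.1 u else 0) := by
        rw [hfiber o fun ψ => Λ ψ t ^ 2 * ψ u]
        simp only [hΛ, tw_apply, hα3]
        ring
      rw [← hΛo, hfiber o fun ψ => ψ t, hfiber o fun ψ => ψ u, hxb, hX]
      simp only [hΛ, tw_apply]
      rcases hσ with rfl | rfl <;> push_cast <;> ring
    · push Not at hi
      rw [Finset.sum_eq_zero fun ψ _ => if_neg (hi (oo ψ)),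
        Finset.sum_eq_zero fun ψ _ => if_neg (hi (oo ψ)),
        Finset.sum_eq_zero fun ψ _ => if_neg (hi (oo ψ))]
      ring
  have hrel : ∑ i, (b i : ℂ) ^ 3 / (d i : ℂ) + 9 * (σ : ℂ) / (X : ℂ) = 0 := by
    rw [Finset.sum_congr rfl fun i _ => hterm i, Finset.sum_sub_distrib, ← Finset.mul_sum,
      Finset.sum_comm] at hstr
    simp only [Finset.sum_ite_eq, Finset.mem_univ, if_true, hnine] at hstr
    linear_combination hstr
  -- the two further rows
  set T := (Finset.univ.filter fun i => b i ≠ 0).erase i₀ with hT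
  have hb1 : ∀ i, b i * b i = if b i ≠ 0 then 1 else 0 := by
    intro i
    have h : b i * b i ≤ 3 :=
      hb2 ▸ Finset.single_le_sum (f := fun i => b i * b i) (fun i _ => mul_self_nonneg _)
        (Finset.mem_univ i)
    have h' : -1 ≤ b i ∧ b i ≤ 1 := ⟨by nlinarith, by nlinarith⟩
    rcases (show b i = -1 ∨ b i = 0 ∨ b i = 1 by omega) with h | h | h <;> simp [h]
  have hTcard : T.card = 2 := by
    have hb2' := hb2
    rw [Finset.sum_congr rfl fun i _ => hb1 i, Finset.sum_boole] at hb2'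
    rw [hT, Finset.card_erase_of_mem (by simp [hbi₀])]
    have : (Finset.univ.filter fun i => b i ≠ 0).card = 3 := by exact_mod_cast hb2'
    omega
  obtain ⟨i₁, i₂, h12, hT12⟩ := Finset.card_eq_two.1 hTcard
  have hb0 : ∀ i, i ≠ i₀ → i ≠ i₁ → i ≠ i₂ → b i = 0 := by
    intro i h0 h1 h2
    by_contra hne
    have : i ∈ T := by simp [hT, h0, hne]
    rw [hT12] at this
    simp [h1, h2] at this
  have hi1 : i₁ ∈ T := by simp [hT12]
  have hi2 : i₂ ∈ T := by simp [hT12]
  simp only [hT, Finset.mem_erase, Finset.mem_filter, Finset.mem_univ, true_and] at hi1 hi2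
  have hnx : ∀ i, b i ≠ 0 → ∀ o, x o ≠ i := fun i hi o h => hi (h ▸ hxb o)
  have hsum3 : ∀ {R : Type} [AddCommMonoid R] (g : I → R), (∀ i, b i = 0 → g i = 0) →
      ∑ i, g i = g i₀ + (g i₁ + g i₂) := by
    intro R _ g hg
    rw [← Finset.sum_subset (Finset.subset_univ ({i₀, i₁, i₂} : Finset I)) fun i _ hi => ?_]
    · rw [Finset.sum_insert (by simp [hi1.1.symm, hi2.1.symm]),
        Finset.sum_insert (by simp [h12]), Finset.sum_singleton]
    · simp only [Finset.mem_insert, Finset.mem_singleton, not_or] at hi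
      exact hg i (hb0 i hi.1 hi.2.1 hi.2.2)
  have hd0 : d i₀ = 1 := by
    have := htriv 0
    rw [hf0] at this
    exact_mod_cast this
  have hcube : ∀ i, (b i : ℂ) ^ 3 = (b i : ℂ) := fun i => by
    have := hb1 i
    by_cases h : b i = 0
    · simp [h]
    · rw [if_pos h] at this
      have : (b i : ℂ) * b i = 1 := by exact_mod_cast this
      linear_combination (b i : ℂ) * this
  simp only [hcube] at hrel
  rw [hsum3 (fun i => (b i : ℂ) / (d i : ℂ)) fun i h => by simp [h], hbi₀, hd0] at hrel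
  have hdC : ∀ i, (d i : ℂ) ≠ 0 := fun i => Nat.cast_ne_zero.2 (hd i).ne'
  have hXC : (X : ℂ) ≠ 0 := hdC _
  push_cast at hrel
  have e1 := div_mul_cancel₀ (b i₁ : ℂ) (hdC i₁)
  have e2 := div_mul_cancel₀ (b i₂ : ℂ) (hdC i₂)
  have e3 := div_mul_cancel₀ (9 * (σ : ℂ)) hXC
  have hrelZ : (d i₁ : ℤ) * d i₂ * X + b i₁ * d i₂ * X + b i₂ * d i₁ * X +
      9 * σ * d i₁ * d i₂ = 0 := by
    apply Int.cast_injective (α := ℂ)
    push_cast
    linear_combination (d i₁ : ℂ) * d i₂ * X * hrel - (d i₂ : ℂ) * X * e1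
      - (d i₁ : ℂ) * X * e2 - (d i₁ : ℂ) * d i₂ * e3
  have hlin : 1 + b i₁ * d i₁ + b i₂ * d i₂ + σ * X = 0 := by
    have h := hνdeg (rep o₀)
    simp only [hxv o₀, add_mul, Finset.sum_add_distrib, ite_mul, zero_mul, Finset.sum_ite_eq',
      Finset.mem_univ, if_true] at h
    rw [hsum3 (fun i => b i * (d i : ℤ)) fun i h => by simp [h], hbi₀, hd0] at h
    push_cast at h
    linarith
  have hcong : ∀ i, b i ≠ 0 → ∃ k : ℤ, b i * d i = 1 + Fintype.card V * k := by
    intro i hi
    have h := hdval i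
    rw [Finset.filter_false_of_mem fun ψ _ => hnx i hi _, Finset.card_empty] at h
    have h1 := hb1 i
    rw [if_pos hi] at h1
    exact ⟨b i * (c i 0 - b i), by rw [h]; push_cast; linear_combination h1⟩
  obtain ⟨k₁, hk₁⟩ := hcong i₁ hi1.2
  obtain ⟨k₂, hk₂⟩ := hcong i₂ hi2.2
  obtain ⟨k₃, hk₃⟩ : ∃ k : ℤ, σ * X = -3 + Fintype.card V * k := by
    have h := hdval (x o₀)
    have hf3 : (Finset.univ.filter fun ψ : S => x (oo ψ) = x o₀).card = 3 := by
      have := hfiber o₀ fun _ => 1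
      rw [Finset.sum_boole] at this
      norm_num at this
      exact_mod_cast this
    rw [hf3, hxb] at h
    refine ⟨σ * c (x o₀) 0, ?_⟩
    rw [hXdef, h]
    rcases hσ with rfl | rfl <;> ring
  have hσσ : σ * σ = 1 := by rcases hσ with rfl | rfl <;> norm_num
  have hb11 : b i₁ * b i₁ = 1 := by rw [hb1, if_pos hi1.2]
  have hb22 : b i₂ * b i₂ = 1 := by rw [hb1, if_pos hi2.2]
  have key := eq_one_of_relations (A := b i₁ * d i₁) (B := b i₂ * d i₂) (Y := σ * X)
    (q := (Fintype.card V : ℤ)) (by exact_mod_cast hq) hk₁ hk₂ hk₃ hlin (by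
      linear_combination b i₁ * b i₂ * σ * hrelZ - b i₂ * (d i₂ : ℤ) * σ * X * hb11
        - b i₁ * (d i₁ : ℤ) * σ * X * hb22 - 9 * b i₁ * b i₂ * (d i₁ : ℤ) * d i₂ * hσσ)
  have hfinal : ∀ i, i ≠ i₀ → b i ≠ 0 → b i * d i = 1 →
      i ≠ i₀ ∧ d i = 1 ∧ ∀ v, f i v = 1 := by
    intro i hne hi h1
    have hb : b i = 1 := by
      rcases Int.eq_one_or_neg_one_of_mul_eq_one h1 with h | h
      · exact h
      · have hp : (0 : ℤ) < d i := by exact_mod_cast hd i
        rw [h] at h1; omega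
    have hd1 : d i = 1 := by rw [hb, one_mul] at h1; exact_mod_cast h1
    refine ⟨hne, hd1, fun v => ?_⟩
    by_cases hv : v = 0
    · rw [hv, hf0, hd1, Nat.cast_one]
    · rw [hval i v hv, Finset.sum_eq_zero fun ψ _ => if_neg (hnx i hi (oo ψ)), hb]
      simp
  rcases key with h | h
  exacts [⟨i₁, hfinal i₁ hi1.1 hi1.2 h⟩, ⟨i₂, hfinal i₂ hi2.1 hi2.2 h⟩]

end CfsgLib.BlocksLocal.Columns
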