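import Cfsg.Agent.Blocks.InducedDefect
import Cfsg.Agent.Blocks.Height
import Cfsg.Agent.PrincipalBlock.Nilpotent
import Cfsg.Agent.Characters.Induction

/-!
# Defect groups of an inducing block separated by an idempotent

If the irreducible character `χ` is induced from `ψ`, and `ψ` is the only constituent of the
restriction of `χ` in some union of blocks of the subgroup, then the blocks of `χ` and of `ψ` have
a common defect group.
-/

set_option autoImplicit false
set_option linter.unusedSectionVars false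
set_option linter.style.haveILetI false

namespace CfsgLib.BlocksLocal.Inertia

open Cfsg CfsgLib.Blocks
open CfsgLib.BlockPairs (cj mem_cj cj_cj card_cj)
open scoped ComplexConjugate

universe u

variable {G : Type u} [Group G] [Fintype G] {M : Ideal AlgInt} [M.IsPrime] {p : ℕ} [Fact p.Prime]
  {T : Subgroup G} [Fintype T]

open Classical in
/-- A central element of a subgroup, extended by zero. -/
noncomputable def ext0 (z : Ctr (localRing M) T) (x : G) : localRing M :=
  if h : x ∈ T then (z : MonoidAlgebra (localRing M) T).coeff ⟨x, h⟩ else 0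

theorem ext0_conj (z : Ctr (localRing M) T) (t : T) (x : G) :
    ext0 z ((t : G)⁻¹ * x * t) = ext0 z x := by
  by_cases hx : x ∈ T
  · have hy : (t : G)⁻¹ * x * t ∈ T := T.mul_mem (T.mul_mem (T.inv_mem t.2) hx) t.2
    rw [ext0, ext0, dif_pos hy, dif_pos hx, ← coeff_conj_of_mem_ctr z.2 ⟨x, hx⟩ t⁻¹]
    congr 1
    exact Subtype.ext (by simp)
  · have hy : (t : G)⁻¹ * x * t ∉ T := fun h => hx (by
      simpa [mul_assoc] using T.mul_mem (T.mul_mem t.2 h) (T.inv_mem t.2))
    rw [ext0, ext0, dif_neg hy, dif_neg hx]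

theorem ext0_rep (z : Ctr (localRing M) T) (g : G) (x : G) :
    ext0 z ((g : G ⧸ T).out⁻¹ * x * (g : G ⧸ T).out) = ext0 z (g⁻¹ * x * g) := by
  obtain ⟨t, ht⟩ := QuotientGroup.mk_out_eq_mul T g
  rw [ht, ← ext0_conj z t (g⁻¹ * x * g)]
  congr 1
  group

variable [Fintype (G ⧸ T)]

/-- The relative trace of a central element of a subgroup. -/
noncomputable def trCtr (z : Ctr (localRing M) T) : Ctr (localRing M) G :=
  ⟨Blocks.ofFun fun x => ∑ q : G ⧸ T, ext0 z (q.out⁻¹ * x * q.out), mem_ctr_iff.2 fun x h => by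
    simp only [coeff_ofFun]
    refine Fintype.sum_equiv (MulAction.toPerm h⁻¹) _ _ fun q => ?_
    have h1 : MulAction.toPerm h⁻¹ q = ((h⁻¹ * q.out : G) : G ⧸ T) := by
      rw [MulAction.toPerm_apply]
      conv_lhs => rw [← QuotientGroup.out_eq' q]
      rfl
    rw [h1, ext0_rep]
    congr 1
    group⟩

theorem coeff_trCtr (z : Ctr (localRing M) T) (x : G) :
    (trCtr z : MonoidAlgebra (localRing M) G).coeff x =
      ∑ q : G ⧸ T, ext0 z (q.out⁻¹ * x * q.out) := by
  simp [trCtr]

theorem omega_trCtr (χ : IrrCharacter G) (z : Ctr (localRing M) T) :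
    omega χ (toC M (trCtr z)) = (T.index : ℂ) *
      (∑ t : T, ((z : MonoidAlgebra (localRing M) T).coeff t : ℂ) * (χ : G → ℂ) t) /
        (χ : G → ℂ) 1 := by
  classical
  rw [omega_apply]
  congr 1
  simp only [toC, coeff_mapCtr, coeff_trCtr, map_sum, Finset.sum_mul]
  rw [Finset.sum_comm]
  have h1 : ∀ q : G ⧸ T, ∑ x : G,
      (localRing M).subtype (ext0 z (q.out⁻¹ * x * q.out)) * (χ : G → ℂ) x =
      ∑ t : T, ((z : MonoidAlgebra (localRing M) T).coeff t : ℂ) * (χ : G → ℂ) t := by
    intro q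
    rw [← Characters.sum_subgroup_extendByZero T
      (fun t => ((z : MonoidAlgebra (localRing M) T).coeff t : ℂ)) (χ : G → ℂ)]
    refine Fintype.sum_equiv ((Equiv.mulLeft q.out⁻¹).trans (Equiv.mulRight q.out)) _ _ fun x => ?_
    simp only [Equiv.trans_apply, Equiv.coe_mulLeft, Equiv.coe_mulRight]
    have hc : (χ : G → ℂ) (q.out⁻¹ * x * q.out) = (χ : G → ℂ) x := by
      simpa using Characters.isClassFunction_of_isIrr χ.2 x q.out⁻¹
    rw [hc]
    congr 1
    by_cases hy : q.out⁻¹ * x * q.out ∈ T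
    · rw [ext0, dif_pos hy, Characters.extendByZero_of_mem T _ hy]; rfl
    · rw [ext0, dif_neg hy, Characters.extendByZero_of_not_mem T _ hy, map_zero]
  rw [Finset.sum_congr rfl fun q _ => h1 q, Finset.sum_const, Finset.card_univ, nsmul_eq_mul,
    Subgroup.index_eq_card, Nat.card_eq_fintype_card]

theorem domBy_trCtr (hM : Cfsg.IsPModular p M) {D : Subgroup T} {z : Ctr (localRing M) T}
    (hz : DomBy p D (redCtr M z)) : DomBy p (D.map T.subtype) (redCtr M (trCtr z)) := by
  classical
  haveI := charP_res hM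
  intro Q hQ x hx hne
  simp only [redCtr, coeff_mapCtr, coeff_trCtr, map_sum] at hne
  by_contra hcon
  refine hne (PrincipalBlock.sum_eq_zero_of_no_fixed (A := Q) hQ _ (fun a q _ => ?_)
    fun q hq => ?_)
  · have h1 : a • q = (((a : G) * q.out : G) : G ⧸ T) := by
      conv_lhs => rw [← QuotientGroup.out_eq' q]
      rfl
    rw [h1, ext0_rep]
    congr 1
    rw [show ((a : G) * q.out)⁻¹ * x * ((a : G) * q.out) =
      q.out⁻¹ * ((a : G)⁻¹ * (x * (a : G))) * q.out by group,
      ← Subgroup.mem_centralizer_iff.1 hx a a.2, inv_mul_cancel_left]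
  · by_contra hfix
    push Not at hfix
    have hxT : q.out⁻¹ * x * q.out ∈ T := by
      by_contra h
      rw [ext0, dif_neg h] at hq
      exact hq (map_zero _)
    rw [ext0, dif_pos hxT] at hq
    have hQT : ∀ a ∈ Q, q.out⁻¹ * a * q.out ∈ T := fun a ha => by
      have h1 : (((a : G) * q.out : G) : G ⧸ T) = ((q.out : G) : G ⧸ T) := by
        have h := hfix ⟨a, ha⟩
        conv_rhs => rw [QuotientGroup.out_eq', ← h]
        conv_rhs => rw [← QuotientGroup.out_eq' q]
        rfl
      have h2 := T.inv_mem (QuotientGroup.eq.1 h1)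
      simpa [mul_assoc] using h2
    set Q' : Subgroup T := (cj q.out⁻¹ Q).subgroupOf T with hQ'
    obtain ⟨y, hy⟩ := hz Q' ((BlockPairs.isPGroup_cj _ hQ).comap_subtype) ⟨_, hxT⟩
      (Subgroup.mem_centralizer_iff.2 fun u hu => Subtype.ext (by
        have hu1 : (u : G) ∈ cj q.out⁻¹ Q := hu
        rw [mem_cj, inv_inv] at hu1
        have h := Subgroup.mem_centralizer_iff.1 hx _ hu1
        show (u : G) * (q.out⁻¹ * x * q.out) = q.out⁻¹ * x * q.out * u
        calc (u : G) * (q.out⁻¹ * x * q.out)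
            = q.out⁻¹ * (q.out * u * q.out⁻¹ * x) * q.out := by group
          _ = _ := by rw [h]; group))
      (by simpa [redCtr] using hq)
    refine hcon ⟨(y : G) * q.out⁻¹, fun w hw => ?_⟩
    rw [mem_cj] at hw
    have hw' : q.out⁻¹ * (((y : G) * q.out⁻¹)⁻¹ * w * ((y : G) * q.out⁻¹)) * q.out ∈ T :=
      hQT _ hw
    have hwT : w ∈ T := by
      have := T.mul_mem (T.mul_mem y.2 hw') (T.inv_mem y.2)
      simpa [mul_assoc] using this
    refine ⟨⟨w, hwT⟩, hy ?_, rfl⟩
    rw [mem_cj, Subgroup.mem_subgroupOf, mem_cj]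
    simpa [mul_assoc] using hw

open Classical in
/-- **Common defect groups.** -/
theorem exists_cj_eq_of_separated (hM : Cfsg.IsPModular p M) {ψ : IrrCharacter T}
    {χ : IrrCharacter G} (hind : Cfsg.indFun T (ψ : T → ℂ) = (χ : G → ℂ))
    {A : Set (IrrCharacter T)} (hA : IsBlockUnion M A) (hψA : ψ ∈ A)
    (honly : ∀ φ ∈ A, φ ≠ ψ →
      Cfsg.classInner (fun t : T => (χ : G → ℂ) t) (φ : T → ℂ) = 0)
    {B : Set (IrrCharacter G)} (hB : Cfsg.IsPBlock M B) (hχ : χ ∈ B) {P : Subgroup G}
    (hP : Cfsg.IsDefectGroup p M B P) {D : Subgroup T}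
    (hD : Cfsg.IsDefectGroup p M (Cfsg.blockOf M (ψ : T → ℂ)) D) :
    ∃ x : G, cj x P = D.map T.subtype := by
  have hb := isPBlock_blockOf (M := M) ψ
  have hindB : Cfsg.IsInducedBlock M T (Cfsg.blockOf M (ψ : T → ℂ)) B := by
    refine isInducedBlock_of_classSum T hb hB (mem_blockOf_self ψ) hχ fun g => ?_
    rw [omegaBar_resCtr_classSum, omegaBar_classSum (χ := χ)]
    congr 1
    exact Subtype.ext (by
      show Cfsg.inducedCentralChar T (ψ : T → ℂ) g = Cfsg.centralChar (χ : G → ℂ) g
      rw [inducedCentralChar_eq_centralChar_indFun, hind])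
  -- a defect group of the small block lies in one of the large block
  obtain ⟨E, hE, hDE⟩ := IsDefectGroup.exists_le_of_induced hM hindB hD
  obtain ⟨x₁, rfl⟩ := IsDefectGroup.exists_conj hM hB hP hE
  -- the separating element
  obtain ⟨c, hc, hS⟩ := isDefectGroup_iff.1 hD
  have hωc := ((isDefectClass_iff hb (mem_blockOf_self ψ) c).1 hc).2
  set C := classSum (localRing M) (ConjClasses.mk c) with hC
  set z : Ctr (localRing M) T := setIdemO M A (memLocalRing_blockCoeff hA) * C with hz
  have hzdom : DomBy p D (redCtr M z) := by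
    haveI := charP_res hM
    rw [hz, map_mul, hC, show redCtr M (classSum (localRing M) (ConjClasses.mk c)) =
      classSum (Res M) (ConjClasses.mk c) from mapCtr_classSum _ _]
    exact (domBy_classSum hS).mul_left _
  haveI : Fintype (G ⧸ T) := Fintype.ofFinite _
  have hval : omegaO M χ (trCtr z) = omegaO M ψ C := by
    refine Subtype.ext ?_
    rw [coe_omegaO, coe_omegaO, omega_trCtr]
    obtain ⟨m, hm⟩ := Characters.exists_nat_coeff
      (Characters.isCharacter_restrict T (Characters.isCharacter_of_isIrr χ.2))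
    have hmφ : ∀ φ : IrrCharacter T,
        Cfsg.classInner (fun t : T => (χ : G → ℂ) t) (φ : T → ℂ) = (m φ : ℂ) := fun φ => by
      rw [hm, Characters.classInner_irr_coeff]
    have hmψ : (m ψ : ℂ) = 1 := by
      rw [← hmφ, ← Characters.classInner_indFun_right T (ψ : T → ℂ)
        (Characters.isClassFunction_of_isIrr χ.2), hind, Characters.classInner_isIrr_self χ.2]
    have hsum : ∑ t : T, ((z : MonoidAlgebra (localRing M) T).coeff t : ℂ) * (χ : G → ℂ) t =
        ∑ φ : IrrCharacter T, (m φ : ℂ) * (omega φ (toC M z) * (φ : T → ℂ) 1) := by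
      have h1 : ∀ φ : IrrCharacter T, omega φ (toC M z) * (φ : T → ℂ) 1 =
          ∑ t : T, ((z : MonoidAlgebra (localRing M) T).coeff t : ℂ) * (φ : T → ℂ) t := fun φ => by
        rw [omega_apply, div_mul_cancel₀ _ (Characters.irr_one_ne_zero φ.2)]
        exact Finset.sum_congr rfl fun t _ => by simp [toC]
      simp only [h1, Finset.mul_sum]
      rw [Finset.sum_comm]
      refine Finset.sum_congr rfl fun t _ => ?_
      rw [show (χ : G → ℂ) t = (∑ φ : IrrCharacter T, (m φ : ℂ) • (φ : T → ℂ)) t from congrFun hm t,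
        Finset.sum_apply, Finset.mul_sum]
      exact Finset.sum_congr rfl fun φ _ => by simp only [Pi.smul_apply, smul_eq_mul]; ring
    have hω : ∀ φ : IrrCharacter T, omega φ (toC M z) =
        (if φ ∈ A then 1 else 0) * omega φ (toC M C) := fun φ => by
      rw [hz, map_mul, toC_setIdemO, map_mul, omega_setIdemC]
    rw [hsum, Finset.sum_eq_single ψ]
    · have hχ1 : (χ : G → ℂ) 1 = (T.index : ℂ) * (ψ : T → ℂ) 1 := by
        rw [← hind, Characters.indFun_one]
      have h0 := Characters.irr_one_ne_zero ψ.2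
      have hi : (T.index : ℂ) ≠ 0 := Nat.cast_ne_zero.2 Subgroup.index_ne_zero_of_finite
      rw [hmψ, hω, if_pos hψA, hχ1]
      field_simp
    · intro φ _ hne
      rw [hω]
      by_cases hφ : φ ∈ A
      · have h := honly φ hφ hne
        rw [hmφ] at h
        rw [h, zero_mul]
      · rw [if_neg hφ, zero_mul, zero_mul, mul_zero]
    · simp
  have hne : omegaBar M χ (redCtr M (trCtr z)) ≠ 0 := by
    rw [omegaBar_redCtr, hval, ← omegaBar_redCtr, hC, redCtr, mapCtr_classSum]
    exact hωc
  haveI := Fintype.ofFinite (ConjClasses G)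
  rw [eq_sum_classSum (redCtr M (trCtr z)), map_sum] at hne
  obtain ⟨K, -, hK⟩ := Finset.exists_ne_zero_of_sum_ne_zero hne
  obtain ⟨h, rfl⟩ := ConjClasses.mk_surjective K
  rw [map_mul, omegaBar_scalar, mul_ne_zero_iff, classCoeff_mk] at hK
  obtain ⟨S, hS', -⟩ := exists_isSylowIn_ge (p := p) (K := Subgroup.centralizer ({h} : Set G))
    IsPGroup.of_bot bot_le
  obtain ⟨x₂, hx₂⟩ := IsDefectGroup.exists_conj_le hM hB hP hχ hK.2 hS'
  obtain ⟨x₃, hx₃⟩ := domBy_trCtr hM hzdom S hS'.2.1 h
    (le_centralizer_singleton_iff.1 hS'.1) hK.1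
  have hle : cj (x₃ * x₂) P ≤ D.map T.subtype := by
    rw [← cj_cj]
    exact (BlockPairs.cj_mono _ hx₂).trans hx₃
  exact ⟨x₃ * x₂, Subgroup.eq_of_le_of_card_ge hle (by
    rw [card_cj]
    exact (Subgroup.card_le_of_le hDE).trans (card_cj _ _).le)⟩

end CfsgLib.BlocksLocal.Inertia
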