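import Cfsg.Agent.BlocksLocal.PrincipalSection
import Cfsg.Agent.BlocksLocal.HomocyclicSylow
import Cfsg.Agent.Blocks.Height
import Cfsg.Agent.ClassPairs.Basic
import Cfsg.Agent.InvolColumn.Basic
import Cfsg.Agent.PLocal.Cores
import Cfsg.Agent.Small.Counting
import Cfsg.Agent.Small.KleinSylow
import Cfsg.Agent.SquareRoots.Basic
import Cfsg.Agent.Blocks.RegularSupport

/-!
# The order formula for a Klein four Sylow 2-subgroup without normal complement

Averaging over the section of an involution `J`, the principal block alone counts the pairs of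
involutions with product in the section of `J`; these pairs live in `C(J)` and are counted there.
-/

set_option autoImplicit false
set_option linter.style.haveILetI false
set_option linter.unusedSectionVars false

namespace CfsgLib.BlocksLocal.KleinOrder

open Cfsg CfsgLib.Blocks CfsgLib.BlocksLocal CfsgLib.PrincipalBlock
open scoped ComplexConjugate

universe u

variable {G : Type u} [Group G] [Finite G]

/-- Order four times odd without normal 2-complement: Klein four, one class of involutions. -/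
theorem kleinFour_and_one_class (g₀ : ℕ) (hg₀ : Odd g₀) (hG : Nat.card G = 4 * g₀)
    (hnc : ¬ ∃ N : Subgroup G, N.Normal ∧ Nat.card N = g₀) (P : Sylow 2 G) :
    IsKleinFour (P : Subgroup G) ∧
      ∀ s t : G, orderOf s = 2 → orderOf t = 2 → IsConj s t := by
  haveI : Fact (Nat.Prime 2) := ⟨Nat.prime_two⟩
  have hP4 : Nat.card (P : Subgroup G) = 4 := by
    rw [Sylow.card_eq_multiplicity, hG, Nat.factorization_mul (by norm_num) hg₀.pos.ne',
      Finsupp.add_apply, Nat.factorization_eq_zero_of_not_dvd hg₀.not_two_dvd_nat, add_zero,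
      show (4 : ℕ) = 2 ^ 2 from rfl, Nat.prime_two.factorization_pow, Finsupp.single_eq_same]
  have hN : ∀ N : Subgroup G, N.Normal → ¬ Subgroup.IsComplement' N (P : Subgroup G) :=
    fun N hN hc => hnc ⟨N, hN, by
      have := hc.card_mul_card
      rw [hP4, hG] at this
      omega⟩
  have hcyc : ¬ IsCyclic (P : Subgroup G) := fun h => hN _ inferInstance
    (IsCyclic.isComplement' ((Nat.minFac_eq_two_iff _).2 (hG ▸ Dvd.intro (2 * g₀) (by ring))) h)
  have hP : IsKleinFour (P : Subgroup G) :=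
    ⟨hP4, (not_isCyclic_iff_exponent_eq_prime Nat.prime_two (hP4.trans (by norm_num))).1 hcyc⟩
  refine ⟨hP, fun s t hs ht => ?_⟩
  rcases CfsgLib.Small.kleinFour_classes P hP with ⟨-, N, hNn, hc⟩ | ⟨h1, -⟩
  · exact absurd hc (hN N hNn)
  · haveI := (Nat.card_eq_one_iff_unique.1 h1).1
    exact ConjClasses.mk_eq_mk_iff_isConj.1 (congrArg Subtype.val (Subsingleton.elim
      (⟨ConjClasses.mk s, s, hs, rfl⟩ :
        {C : ConjClasses G // ∃ t : G, orderOf t = 2 ∧ ConjClasses.mk t = C})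
      ⟨ConjClasses.mk t, t, ht, rfl⟩))

theorem orderOf_conj (g x : G) : orderOf (g * x * g⁻¹) = orderOf x :=
  MulEquiv.orderOf_eq (MulAut.conj g) x

theorem exists_zpowers_card_four {x : G} (h4 : 4 ∣ orderOf x) :
    ∃ y : G, Nat.card (Subgroup.zpowers y) = 4 := by
  refine ⟨x ^ (orderOf x / 4), ?_⟩
  rw [Nat.card_zpowers, orderOf_pow_of_dvd
    (Nat.div_pos (Nat.le_of_dvd (orderOf_pos x) h4) (by norm_num)).ne' (Nat.div_dvd_of_dvd h4),
    Nat.div_div_self h4 (orderOf_pos x).ne']

variable (P : Sylow 2 G) {J : G}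

/-- The centralizer of an involution of `P` has a normal 2-complement of index four. -/
theorem exists_complement_centralizer (hP : IsKleinFour (P : Subgroup G))
    (hJ : J ∈ (P : Subgroup G)) (hJ1 : J ≠ 1) :
    (P : Subgroup G) ≤ Subgroup.centralizer ({J} : Set G) ∧
      ∃ K : Subgroup (Subgroup.centralizer ({J} : Set G)),
        K.Normal ∧ ¬ 2 ∣ Nat.card K ∧ K.index = 4 := by
  haveI : Fact (Nat.Prime 2) := ⟨Nat.prime_two⟩
  set C := Subgroup.centralizer ({J} : Set G)
  have hPC : (P : Subgroup G) ≤ C := fun u hu =>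
    Subgroup.mem_centralizer_singleton_iff.2 (CfsgLib.Small.kleinFour_comm hP hu hJ)
  let P' : Sylow 2 C := P.subtype hPC
  have hN : Subgroup.normalizer ((P' : Subgroup C) : Set C) ≤
      Subgroup.centralizer ((P' : Subgroup C) : Set C) := by
    intro n hn
    rw [Sylow.coe_subtype] at hn ⊢
    have hn' : (n : G) ∈ Subgroup.normalizer ((P : Subgroup G) : Set G) := by
      rw [Subgroup.mem_normalizer_iff]
      intro u
      constructor
      · intro hu
        exact (Subgroup.mem_normalizer_iff.1 hn ⟨u, hPC hu⟩).1 hu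
      · intro hu
        have hmem : u ∈ C := by
          have := mul_mem (mul_mem (Subgroup.inv_mem _ n.2) (hPC hu)) n.2
          simpa [mul_assoc] using this
        exact (Subgroup.mem_normalizer_iff.1 hn ⟨u, hmem⟩).2 hu
    have h := CfsgLib.Small.mem_centralizer_of_fix_one P hP hn' hJ hJ1
      (by rw [Subgroup.mem_centralizer_singleton_iff.1 n.2, mul_inv_cancel_right])
    exact Subgroup.mem_centralizer_iff.2 fun u hu =>
      Subtype.ext (Subgroup.mem_centralizer_iff.1 h (u : G) hu)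
  refine ⟨hPC, Cfsg.pPrimeCore 2 C, inferInstance,
    PLocal.not_dvd_iff_coprime.1 (PLocal.coprime_card_pPrimeCore 2 _), ?_⟩
  rw [HomocyclicSylow.index_pPrimeCore P' hN, Sylow.coe_subtype,
    Nat.card_congr (Subgroup.subgroupOfEquivOfLe hPC).toEquiv, hP.card_four]

open Classical in
/-- Averaging a character over the coset `J K` keeps only the principal block. -/
theorem sum_coset [Fintype G] {M : Ideal AlgInt} (hM : Cfsg.IsPModular 2 M) (hJ2 : orderOf J = 2)
    [Fintype (Subgroup.centralizer ({J} : Set G))]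
    (K : Subgroup (Subgroup.centralizer ({J} : Set G))) [Fintype K] [K.Normal]
    (hK : ¬ 2 ∣ Nat.card K) (hKi : K.index = 4) (χ : IrrCharacter G) :
    ∑ k : K, (χ : G → ℂ) (J * (k : Subgroup.centralizer ({J} : Set G))) =
      if χ ∈ Cfsg.principalBlock M G then (Nat.card K : ℂ) * (χ : G → ℂ) J else 0 := by
  haveI : Fact (Nat.Prime 2) := ⟨Nat.prime_two⟩
  haveI : M.IsPrime := Blocks.IsPModular.isPrime hM
  have h := blockPart_principal_translate hM (x := J) ⟨1, by rw [hJ2, pow_one]⟩ χ (y := 1)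
    (by rw [orderOf_one]; norm_num)
  rw [blockPart_eq_sum _
    (isClassFunction_translate (χ : G → ℂ) (Characters.isClassFunction_of_isIrr χ.2) J)] at h
  have hcard : (Nat.card (Subgroup.centralizer ({J} : Set G)) : ℂ) = (Nat.card K : ℂ) * 4 := by
    rw [← Subgroup.card_mul_index K, hKi, Nat.cast_mul, Nat.cast_ofNat]
  have hK0 : (Nat.card K : ℂ) ≠ 0 := Nat.cast_ne_zero.2 Nat.card_pos.ne'
  have hco : ∀ k : (Subgroup.centralizer ({J} : Set G)), Cfsg.blockCoeff (Cfsg.principalBlock M (Subgroup.centralizer ({J} : Set G))) k =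
      if k ∈ K then (Nat.card K : ℂ)⁻¹ else 0 := by
    intro k
    have h2 := blockCoeff_principal_of_normal_complement (G := (Subgroup.centralizer ({J} : Set G))) hM K hK
      ⟨2, by rw [hKi]; norm_num⟩ k
    rw [hKi, Set.indicator_apply, hcard] at h2
    by_cases hk : k ∈ K
    · rw [if_pos (show k ∈ (K : Set (Subgroup.centralizer ({J} : Set G))) from hk)] at h2
      rw [if_pos hk]
      field_simp
      linear_combination h2 / 4
    · rw [if_neg (show ¬ k ∈ (K : Set (Subgroup.centralizer ({J} : Set G))) from hk), mul_zero] at h2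
      rw [if_neg hk]
      refine (mul_eq_zero.1 h2).resolve_left ?_
      exact mul_ne_zero hK0 (by norm_num)
  simp only [hco, ite_mul, zero_mul, mul_one, OneMemClass.coe_one] at h
  rw [← Finset.sum_filter, ← Finset.mul_sum,
    Finset.sum_subtype _ (p := fun k : (Subgroup.centralizer ({J} : Set G)) => k ∈ K) (by simp)
      (fun k => (χ : G → ℂ) (J * (k : G)))] at h
  split_ifs at h ⊢ with hB
  · rw [← h, ← mul_assoc, mul_inv_cancel₀ hK0, one_mul]
  · exact (mul_eq_zero.1 h).resolve_left (inv_ne_zero hK0)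

/-- Number of conjugators taking `J` to given involutions. -/
theorem card_conjugator_pairs (hone : ∀ s t : G, orderOf s = 2 → orderOf t = 2 → IsConj s t)
    (hJ2 : orderOf J = 2) (S : Set G) :
    Nat.card {p : G × G // p.1 * J * p.1⁻¹ * (p.2 * J * p.2⁻¹) ∈ S} =
      Nat.card (Subgroup.centralizer ({J} : Set G)) ^ 2 *
        Nat.card {q : G × G // orderOf q.1 = 2 ∧ orderOf q.2 = 2 ∧ q.1 * q.2 ∈ S} := by
  have hinv : ∀ a : G, orderOf (a * J * a⁻¹) = 2 := fun a => by rw [orderOf_conj, hJ2]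
  have hex : ∀ s : {s : G // orderOf s = 2}, ∃ a : G, a * J * a⁻¹ = s.1 := fun s =>
    isConj_iff.1 (hone J s.1 hJ2 s.2)
  choose a ha using hex
  have hmem : ∀ (x : G) (s : {s : G // orderOf s = 2}), x * J * x⁻¹ = s.1 → (a s)⁻¹ * x ∈ (Subgroup.centralizer ({J} : Set G)) := by
    intro x s h
    rw [Subgroup.mem_centralizer_singleton_iff, ← mul_inv_eq_iff_eq_mul]
    rw [← ha s] at h
    calc (a s)⁻¹ * x * J * ((a s)⁻¹ * x)⁻¹ = (a s)⁻¹ * (x * J * x⁻¹) * a s := by group
      _ = J := by rw [h]; group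
  have hback : ∀ (s : {s : G // orderOf s = 2}) (c : (Subgroup.centralizer ({J} : Set G))), a s * c * J * (a s * c)⁻¹ = s.1 := by
    intro s c
    calc a s * c * J * (a s * c)⁻¹ = a s * ((c : G) * J * (c : G)⁻¹) * (a s)⁻¹ := by group
      _ = s.1 := by rw [Subgroup.mem_centralizer_singleton_iff.1 c.2, mul_inv_cancel_right, ha]
  rw [sq, ← Nat.card_prod, ← Nat.card_prod]
  refine Nat.card_congr
    { toFun := fun p => ((⟨_, hmem p.1.1 ⟨_, hinv p.1.1⟩ rfl⟩, ⟨_, hmem p.1.2 ⟨_, hinv p.1.2⟩ rfl⟩),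
        ⟨(p.1.1 * J * p.1.1⁻¹, p.1.2 * J * p.1.2⁻¹), hinv _, hinv _, p.2⟩)
      invFun := fun r => ⟨(a ⟨_, r.2.2.1⟩ * r.1.1, a ⟨_, r.2.2.2.1⟩ * r.1.2), by
        show a ⟨_, r.2.2.1⟩ * (r.1.1 : G) * J * (a ⟨_, r.2.2.1⟩ * (r.1.1 : G))⁻¹ *
          (a ⟨_, r.2.2.2.1⟩ * (r.1.2 : G) * J * (a ⟨_, r.2.2.2.1⟩ * (r.1.2 : G))⁻¹) ∈ S
        rw [hback, hback]
        exact r.2.2.2.2⟩
      left_inv := fun p => Subtype.ext (Prod.ext (mul_inv_cancel_left _ _) (mul_inv_cancel_left _ _))
      right_inv := fun r => ?_ }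
  obtain ⟨⟨c, d⟩, ⟨⟨s, t⟩, hs, ht, hst⟩⟩ := r
  have h1 : a ⟨s, hs⟩ * (c : G) * J * (a ⟨s, hs⟩ * (c : G))⁻¹ = s := hback ⟨s, hs⟩ c
  have h2 : a ⟨t, ht⟩ * (d : G) * J * (a ⟨t, ht⟩ * (d : G))⁻¹ = t := hback ⟨t, ht⟩ d
  have e1 : ∀ h, a ⟨a ⟨s, hs⟩ * (c : G) * J * (a ⟨s, hs⟩ * (c : G))⁻¹, h⟩ = a ⟨s, hs⟩ := fun h =>
    congrArg a (Subtype.ext h1)
  have e2 : ∀ h, a ⟨a ⟨t, ht⟩ * (d : G) * J * (a ⟨t, ht⟩ * (d : G))⁻¹, h⟩ = a ⟨t, ht⟩ := fun h =>
    congrArg a (Subtype.ext h2)
  refine Prod.ext (Prod.ext (Subtype.ext ?_) (Subtype.ext ?_)) (Subtype.ext (Prod.ext h1 h2))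
  · show (a _)⁻¹ * (a ⟨s, hs⟩ * (c : G)) = c
    rw [e1, inv_mul_cancel_left]
  · show (a _)⁻¹ * (a ⟨t, ht⟩ * (d : G)) = d
    rw [e2, inv_mul_cancel_left]

/-- The pairs of involutions with product in `J K`. -/
theorem card_invol_pairs (hP : IsKleinFour (P : Subgroup G))
    (hPC : (P : Subgroup G) ≤ Subgroup.centralizer ({J} : Set G))
    (hJ : J ∈ (P : Subgroup G)) (hJ2 : orderOf J = 2)
    (K : Subgroup (Subgroup.centralizer ({J} : Set G))) [K.Normal]
    (hK : ¬ 2 ∣ Nat.card K) (hKi : K.index = 4) :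
    Nat.card {q : G × G // orderOf q.1 = 2 ∧ orderOf q.2 = 2 ∧
        q.1 * q.2 ∈ Set.range fun k : K => J * ((k : Subgroup.centralizer ({J} : Set G)) : G)} *
      Nat.card (Subgroup.centralizer ((P : Subgroup G) : Set G)) ^ 2 =
      2 * Nat.card (Subgroup.centralizer ({J} : Set G)) ^ 2 := by
  classical
  haveI : Fact (Nat.Prime 2) := ⟨Nat.prime_two⟩
  set cP := Nat.card (Subgroup.centralizer ((P : Subgroup G) : Set G))
  let π : (Subgroup.centralizer ({J} : Set G)) →* (Subgroup.centralizer ({J} : Set G)) ⧸ K := QuotientGroup.mk' K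
  let ι : (P : Subgroup G) →* (Subgroup.centralizer ({J} : Set G)) := Subgroup.inclusion hPC
  have hJC : J ∈ (Subgroup.centralizer ({J} : Set G)) := hPC hJ
  set Jb : (Subgroup.centralizer ({J} : Set G)) ⧸ K := π ⟨J, hJC⟩ with hJb
  have hord : ∀ w : (Subgroup.centralizer ({J} : Set G)), w ∈ K → ¬ 2 ∣ orderOf w := fun w hw h => hK (h.trans (by
    rw [← Subgroup.orderOf_mk w hw]; exact orderOf_dvd_natCard _))
  have hker : ∀ w : (P : Subgroup G), π (ι w) = 1 → w = 1 := by
    intro w hw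
    by_contra hw1
    have h2 : orderOf (w : G) = 2 := orderOf_eq_prime
      (by rw [pow_two]; exact CfsgLib.Small.kleinFour_mul_self hP w.2)
      (fun h => hw1 (Subtype.ext h))
    refine hord _ ((QuotientGroup.eq_one_iff _).1 hw) ?_
    rw [← Subgroup.orderOf_coe]
    show 2 ∣ orderOf (w : G)
    rw [h2]
  have hinj : Function.Injective (π.comp ι) := (injective_iff_map_eq_one _).2 hker
  have hbij : Function.Bijective (π.comp ι) :=
    (Nat.bijective_iff_injective_and_card _).2 ⟨hinj, hP.card_four.trans hKi.symm⟩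
  have hsq : ∀ q : (Subgroup.centralizer ({J} : Set G)) ⧸ K, q * q = 1 := by
    intro q
    obtain ⟨w, rfl⟩ := hbij.2 q
    rw [← map_mul, show w * w = 1 from Subtype.ext (CfsgLib.Small.kleinFour_mul_self hP w.2),
      map_one]
  have hcomm : ∀ q r : (Subgroup.centralizer ({J} : Set G)) ⧸ K, q * r = r * q := by
    intro q r
    obtain ⟨v, rfl⟩ := hbij.2 q
    obtain ⟨w, rfl⟩ := hbij.2 r
    rw [← map_mul, ← map_mul,
      show v * w = w * v from Subtype.ext (CfsgLib.Small.kleinFour_comm hP v.2 w.2)]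
  have hJb1 : Jb ≠ 1 := fun h => by
    have := hker ⟨J, hJ⟩ h
    rw [Subtype.ext_iff] at this
    exact CfsgLib.Small.ne_one_of_orderOf_two hJ2 this
  -- the involutions of `(Subgroup.centralizer ({J} : Set G))` over a coset
  let W : (Subgroup.centralizer ({J} : Set G)) ⧸ K → Type _ := fun q => {a : (Subgroup.centralizer ({J} : Set G)) // orderOf (a : G) = 2 ∧ π a = q}
  have hW : ∀ q : (Subgroup.centralizer ({J} : Set G)) ⧸ K, q ≠ 1 → q ≠ Jb → Nat.card (W q) * cP = Nat.card (Subgroup.centralizer ({J} : Set G)) := by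
    intro q hq1 hqJ
    obtain ⟨u, hu⟩ := hbij.2 q
    have hu1 : u ≠ 1 := fun h => hq1 (by rw [← hu, h, map_one])
    have huJ : (u : G) ≠ J := fun h => hqJ (by
      rw [← hu]; exact congrArg π (Subtype.ext h))
    have hu2 : orderOf (u : G) = 2 := orderOf_eq_prime
      (by rw [pow_two]; exact CfsgLib.Small.kleinFour_mul_self hP u.2)
      (fun h => hu1 (Subtype.ext h))
    have heq : ∀ a : (Subgroup.centralizer ({J} : Set G)), orderOf (a : G) = 2 ∧ π a = q ↔ IsConj (ι u) a := by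
      intro a
      constructor
      · rintro ⟨ha2, haq⟩
        let P' : Sylow 2 (Subgroup.centralizer ({J} : Set G)) := P.subtype hPC
        obtain ⟨g, hg⟩ := CfsgLib.Small.exists_conj_mem_sylow P'
          (t := a) (by rw [← Subgroup.orderOf_coe, ha2])
        rw [Sylow.coe_subtype] at hg
        have hg' : ((g * a * g⁻¹ : (Subgroup.centralizer ({J} : Set G))) : G) ∈ (P : Subgroup G) := hg
        have h3 : (⟨_, hg'⟩ : (P : Subgroup G)) = u := hinj (by
          show π (g * a * g⁻¹) = (π.comp ι) u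
          rw [map_mul, map_mul, map_inv, haq, hu, hcomm (π g) q, mul_inv_cancel_right])
        refine isConj_iff.2 ⟨g⁻¹, ?_⟩
        rw [show ι u = g * a * g⁻¹ from Subtype.ext (congrArg Subtype.val h3).symm]
        group
      · intro h
        obtain ⟨g, rfl⟩ := isConj_iff.1 h
        refine ⟨?_, ?_⟩
        · rw [Subgroup.coe_mul, Subgroup.coe_mul, Subgroup.coe_inv, orderOf_conj]
          exact hu2
        · rw [map_mul, map_mul, map_inv, hcomm, inv_mul_cancel_left]
          exact hu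
    have hcen : Nat.card (Subgroup.centralizer ({ι u} : Set (Subgroup.centralizer ({J} : Set G)))) = cP := by
      refine Nat.card_congr
        { toFun := fun g => ⟨((g : (Subgroup.centralizer ({J} : Set G))) : G), ?_⟩
          invFun := fun g => ⟨⟨(g : G), ?_⟩, ?_⟩
          left_inv := fun _ => rfl
          right_inv := fun _ => rfl }
      · -- `P` is generated by `J` and `u`
        refine Subgroup.mem_centralizer_iff.2 fun w hw => ?_
        have hgJ : ((g : (Subgroup.centralizer ({J} : Set G))) : G) * J = J * ((g : (Subgroup.centralizer ({J} : Set G))) : G) :=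
          Subgroup.mem_centralizer_singleton_iff.1 (g : (Subgroup.centralizer ({J} : Set G))).2
        have hgu : ((g : (Subgroup.centralizer ({J} : Set G))) : G) * (u : G) = (u : G) * ((g : (Subgroup.centralizer ({J} : Set G))) : G) :=
          congrArg Subtype.val (Subgroup.mem_centralizer_singleton_iff.1 g.2)
        by_cases hw1 : w = 1
        · rw [hw1, one_mul, mul_one]
        by_cases hwJ : w = J
        · rw [hwJ, hgJ]
        by_cases hwu : w = u
        · rw [hwu, hgu]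
        have hwJu : (⟨w, hw⟩ : (P : Subgroup G)) = ⟨J, hJ⟩ * u := by
          refine IsKleinFour.eq_mul_of_ne_all (G := (P : Subgroup G)) ?_ hu1 ?_ ?_ ?_ ?_
          · exact fun h => CfsgLib.Small.ne_one_of_orderOf_two hJ2 (congrArg Subtype.val h)
          · exact fun h => huJ (congrArg Subtype.val h).symm
          · exact fun h => hw1 (congrArg Subtype.val h)
          · exact fun h => hwJ (congrArg Subtype.val h)
          · exact fun h => hwu (congrArg Subtype.val h)
        rw [show w = J * (u : G) from congrArg Subtype.val hwJu, mul_assoc, ← hgu, ← mul_assoc,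
          ← hgJ, mul_assoc]
      · exact Subgroup.mem_centralizer_singleton_iff.2
          (Subgroup.mem_centralizer_iff.1 g.2 J hJ).symm
      · exact Subgroup.mem_centralizer_singleton_iff.2
          (Subtype.ext (Subgroup.mem_centralizer_iff.1 g.2 u u.2).symm)
    rw [Nat.card_congr (Equiv.subtypeEquivRight heq), ← hcen]
    exact CfsgLib.Small.card_conjugates_mul_card_centralizer (ι u)
  -- pairs lie in the centralizer
  have hpair : ∀ (a b : G) (k : K), orderOf a = 2 → orderOf b = 2 →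
      J * ((k : (Subgroup.centralizer ({J} : Set G))) : G) = a * b → a ∈ (Subgroup.centralizer ({J} : Set G)) ∧ b ∈ (Subgroup.centralizer ({J} : Set G)) := by
    intro a b k ha hb hk
    have hc : Commute J ((k : (Subgroup.centralizer ({J} : Set G))) : G) := (Subgroup.mem_centralizer_singleton_iff.1 (k : (Subgroup.centralizer ({J} : Set G))).2).symm
    have hJi : J⁻¹ = J := CfsgLib.Small.inv_eq_self_of_orderOf_two hJ2
    have hko : ¬ 2 ∣ orderOf ((k : (Subgroup.centralizer ({J} : Set G))) : G) := by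
      rw [Subgroup.orderOf_coe]; exact hord _ k.2
    have h1 := isPPart_conj (isPPart_of_mul (p := 2) hc ⟨1, by rw [hJ2, pow_one]⟩ hko) a
    have h2 : Cfsg.IsPPart 2 (a * (J * ((k : (Subgroup.centralizer ({J} : Set G))) : G)) * a⁻¹) J := by
      refine ⟨((k : (Subgroup.centralizer ({J} : Set G))) : G)⁻¹, ?_, hc.inv_right, ⟨1, by rw [hJ2, pow_one]⟩, by rwa [orderOf_inv]⟩
      have : a * (J * ((k : (Subgroup.centralizer ({J} : Set G))) : G)) * a⁻¹ = (J * ((k : (Subgroup.centralizer ({J} : Set G))) : G))⁻¹ := by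
        rw [hk, mul_inv_rev, CfsgLib.Small.inv_eq_self_of_orderOf_two ha, CfsgLib.Small.inv_eq_self_of_orderOf_two hb,
          ← mul_assoc a, CfsgLib.Small.mul_self_of_orderOf_two ha, one_mul]
      rw [this, mul_inv_rev, hJi]
      exact hc.inv_right.eq
    have haC : a ∈ (Subgroup.centralizer ({J} : Set G)) := Subgroup.mem_centralizer_singleton_iff.2
      (mul_inv_eq_iff_eq_mul.1 (isPPart_unique Nat.prime_two h1 h2))
    refine ⟨haC, ?_⟩
    rw [show b = a⁻¹ * (J * ((k : (Subgroup.centralizer ({J} : Set G))) : G)) by rw [hk, inv_mul_cancel_left]]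
    exact mul_mem (inv_mem haC) (mul_mem hJC (k : (Subgroup.centralizer ({J} : Set G))).2)
  have hmem : ∀ (a b : (Subgroup.centralizer ({J} : Set G))), π a * π b = Jb →
      (a : G) * b ∈ Set.range fun k : K => J * ((k : (Subgroup.centralizer ({J} : Set G))) : G) := by
    intro a b h
    rw [← map_mul] at h
    have : (⟨J, hJC⟩ : (Subgroup.centralizer ({J} : Set G)))⁻¹ * (a * b) ∈ K := QuotientGroup.eq.1 h.symm
    refine ⟨⟨_, this⟩, ?_⟩
    show J * (J⁻¹ * ((a : G) * b)) = _
    rw [mul_inv_cancel_left]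
  have hmem' : ∀ (a b : G) (k : K) (ha : a ∈ (Subgroup.centralizer ({J} : Set G))) (hb : b ∈ (Subgroup.centralizer ({J} : Set G))),
      J * ((k : (Subgroup.centralizer ({J} : Set G))) : G) = a * b → π ⟨a, ha⟩ * π ⟨b, hb⟩ = Jb := by
    intro a b k ha hb hk
    rw [← map_mul, show (⟨a, ha⟩ * ⟨b, hb⟩ : (Subgroup.centralizer ({J} : Set G))) = ⟨J, hJC⟩ * (k : (Subgroup.centralizer ({J} : Set G))) from Subtype.ext hk.symm,
      map_mul, show π (k : (Subgroup.centralizer ({J} : Set G))) = 1 from (QuotientGroup.eq_one_iff _).2 k.2, mul_one]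
  have hne : ∀ a : (Subgroup.centralizer ({J} : Set G)), orderOf (a : G) = 2 → π a ≠ 1 := fun a ha h =>
    hord a ((QuotientGroup.eq_one_iff a).1 h) (by rw [← Subgroup.orderOf_coe, ha])
  set X := {q : G × G // orderOf q.1 = 2 ∧ orderOf q.2 = 2 ∧
    q.1 * q.2 ∈ Set.range fun k : K => J * ((k : (Subgroup.centralizer ({J} : Set G))) : G)}
  let Y := {q : (Subgroup.centralizer ({J} : Set G)) ⧸ K // q ≠ 1 ∧ q ≠ Jb}
  haveI := Fintype.ofFinite ((Subgroup.centralizer ({J} : Set G)) ⧸ K)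
  have hXC : ∀ x : X, x.1.1 ∈ (Subgroup.centralizer ({J} : Set G)) ∧ x.1.2 ∈ (Subgroup.centralizer ({J} : Set G)) := fun x => by
    obtain ⟨k, hk⟩ := x.2.2.2
    exact hpair _ _ k x.2.1 x.2.2.1 hk
  have hXq : ∀ x : X, π ⟨_, (hXC x).1⟩ * π ⟨_, (hXC x).2⟩ = Jb := fun x => by
    obtain ⟨k, hk⟩ := x.2.2.2
    exact hmem' _ _ k (hXC x).1 (hXC x).2 hk
  have hXY : ∀ x : X, π ⟨_, (hXC x).1⟩ ≠ 1 ∧ π ⟨_, (hXC x).1⟩ ≠ Jb := fun x => by
    refine ⟨hne _ x.2.1, fun h => hne ⟨_, (hXC x).2⟩ x.2.2.1 ?_⟩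
    have := hXq x
    rw [h] at this
    exact mul_eq_left.1 this
  have hXW : ∀ x : X, π ⟨_, (hXC x).2⟩ = π ⟨_, (hXC x).1⟩ * Jb := fun x => by
    rw [← hXq x, ← mul_assoc, hsq, one_mul]
  let e : X ≃ Σ q : Y, W q.1 × W (q.1 * Jb) :=
    { toFun := fun x => ⟨⟨_, hXY x⟩, ⟨_, x.2.1, rfl⟩, ⟨_, x.2.2.1, hXW x⟩⟩
      invFun := fun s => ⟨((s.2.1.1 : G), (s.2.2.1 : G)), s.2.1.2.1, s.2.2.2.1,
        hmem _ _ (by rw [s.2.1.2.2, s.2.2.2.2, ← mul_assoc, hsq, one_mul])⟩
      left_inv := fun x => rfl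
      right_inv := by
        rintro ⟨⟨q, hq⟩, ⟨a, ha, (haq : π a = q)⟩, ⟨b, hb, hbq⟩⟩
        subst haq
        rfl }
  have hY : Nat.card Y = 2 := by
    have h4 : Fintype.card ((Subgroup.centralizer ({J} : Set G)) ⧸ K) = 4 := by rw [← Nat.card_eq_fintype_card]; exact hKi
    rw [Nat.card_eq_fintype_card, Fintype.card_subtype,
      show (Finset.univ.filter fun q : (Subgroup.centralizer ({J} : Set G)) ⧸ K => q ≠ 1 ∧ q ≠ Jb) =
        (Finset.univ.erase 1).erase Jb by ext; simp [and_comm],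
      Finset.card_erase_of_mem (by simp [hJb1]), Finset.card_erase_of_mem (Finset.mem_univ _),
      Finset.card_univ, h4]
  have hterm : ∀ q : Y, Nat.card (W q.1 × W (q.1 * Jb)) * cP ^ 2 = Nat.card (Subgroup.centralizer ({J} : Set G)) ^ 2 := by
    intro q
    rw [Nat.card_prod, sq, sq, mul_mul_mul_comm, hW _ q.2.1 q.2.2, hW (q.1 * Jb) ?_ ?_]
    · intro h
      refine q.2.2 ?_
      have h' := congrArg (· * Jb) h
      simpa [mul_assoc, hsq] using h'
    · exact fun h => q.2.1 (mul_eq_right.1 h)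
  rw [Nat.card_congr e, Nat.card_sigma, Finset.sum_mul,
    Finset.sum_congr rfl fun q _ => hterm q, Finset.sum_const, Finset.card_univ,
    ← Nat.card_eq_fintype_card, hY, smul_eq_mul]

open Classical in
/-- The order formula, in the form of a sum over the principal block. -/
theorem eight_mul_card_cube [Fintype G] {M : Ideal AlgInt} (hM : Cfsg.IsPModular 2 M)
    (hP : IsKleinFour (P : Subgroup G))
    (hone : ∀ s t : G, orderOf s = 2 → orderOf t = 2 → IsConj s t)
    (hJ : J ∈ (P : Subgroup G)) (hJ2 : orderOf J = 2) :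
    8 * (Nat.card (Subgroup.centralizer ({J} : Set G)) : ℂ) ^ 3 =
      (Nat.card G : ℂ) * (Nat.card (Subgroup.centralizer ((P : Subgroup G) : Set G)) : ℂ) ^ 2 *
        ∑ χ : IrrCharacter G, (if χ ∈ Cfsg.principalBlock M G then
          (χ : G → ℂ) J ^ 3 / (χ : G → ℂ) 1 else 0) := by
  obtain ⟨hPC, K, hKn, hK, hKi⟩ :=
    exists_complement_centralizer P hP hJ (CfsgLib.Small.ne_one_of_orderOf_two hJ2)
  haveI := hKn
  haveI := Fintype.ofFinite (Subgroup.centralizer ({J} : Set G))
  haveI := Fintype.ofFinite K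
  set cP := Nat.card (Subgroup.centralizer ((P : Subgroup G) : Set G))
  set S := Finset.univ.image fun k : K => J * ((k : (Subgroup.centralizer ({J} : Set G))) : G) with hS
  have hinjJ : Function.Injective fun k : K => J * ((k : (Subgroup.centralizer ({J} : Set G))) : G) := fun k l h =>
    Subtype.ext (Subtype.ext (mul_left_cancel h))
  have hn : (∑ a : G, ∑ b : G, if a * J * a⁻¹ * (b * J * b⁻¹) ∈ S then (1 : ℂ) else 0) =
      (Nat.card {p : G × G // p.1 * J * p.1⁻¹ * (p.2 * J * p.2⁻¹) ∈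
        Set.range fun k : K => J * ((k : (Subgroup.centralizer ({J} : Set G))) : G)} : ℂ) := by
    rw [Nat.card_eq_fintype_card, Fintype.card_subtype, ← Finset.sum_boole, Fintype.sum_prod_type]
    exact Finset.sum_congr rfl fun a _ => Finset.sum_congr rfl fun b _ =>
      if_congr (by simp [hS]) rfl rfl
  rw [card_conjugator_pairs hone hJ2, Nat.cast_mul, Nat.cast_pow] at hn
  have hnum := card_invol_pairs P hP hPC hJ hJ2 K hK hKi
  set n := Nat.card {q : G × G // orderOf q.1 = 2 ∧ orderOf q.2 = 2 ∧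
    q.1 * q.2 ∈ Set.range fun k : K => J * ((k : (Subgroup.centralizer ({J} : Set G))) : G)}
  have hreal : ∀ χ : IrrCharacter G, conj ((χ : G → ℂ) J) = (χ : G → ℂ) J := fun χ =>
    InvolColumn.char_involution_real χ (CfsgLib.Small.inv_eq_self_of_orderOf_two hJ2)
  rw [ClassPairs.card_pairs J J S] at hn
  have hterm : ∀ χ : IrrCharacter G,
      (∑ s ∈ S, conj ((χ : G → ℂ) s)) * ((χ : G → ℂ) J * (χ : G → ℂ) J / (χ : G → ℂ) 1) =
        (Nat.card K : ℂ) * (if χ ∈ Cfsg.principalBlock M G then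
          (χ : G → ℂ) J ^ 3 / (χ : G → ℂ) 1 else 0) := by
    intro χ
    rw [hS, Finset.sum_image fun k _ l _ h => hinjJ h, ← map_sum, sum_coset hM hJ2 K hK hKi χ]
    split_ifs
    · rw [map_mul, Complex.conj_natCast, hreal χ]; ring
    · simp
  rw [Finset.sum_congr rfl fun χ _ => hterm χ, ← Finset.mul_sum] at hn
  have hnum' : (n : ℂ) * (cP : ℂ) ^ 2 = 2 * (Nat.card (Subgroup.centralizer ({J} : Set G)) : ℂ) ^ 2 := by exact_mod_cast hnum
  have hcard : (Nat.card (Subgroup.centralizer ({J} : Set G)) : ℂ) = (Nat.card K : ℂ) * 4 := by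
    rw [← Subgroup.card_mul_index K, hKi, Nat.cast_mul, Nat.cast_ofNat]
  have hK0 : (Nat.card K : ℂ) ≠ 0 := Nat.cast_ne_zero.2 Nat.card_pos.ne'
  refine mul_left_cancel₀ hK0 ?_
  linear_combination -(cP : ℂ) ^ 2 * hn - (Nat.card (Subgroup.centralizer ({J} : Set G)) : ℂ) ^ 2 * hnum' -
    2 * (Nat.card (Subgroup.centralizer ({J} : Set G)) : ℂ) ^ 3 * hcard

open Classical in
/-- There are no elements of order four, so the indicators weighted by the values at `J` cancel
over the principal block. -/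
theorem sum_indicator [Fintype G] {M : Ideal AlgInt} (hM : Cfsg.IsPModular 2 M)
    (hP : IsKleinFour (P : Subgroup G)) (hJ : J ∈ (P : Subgroup G)) (hJ2 : orderOf J = 2) :
    ∑ χ : IrrCharacter G, (if χ ∈ Cfsg.principalBlock M G then
      SquareRoots.indicator (χ : G → ℂ) * (χ : G → ℂ) J else 0) = 0 := by
  haveI : Fact (Nat.Prime 2) := ⟨Nat.prime_two⟩
  obtain ⟨hPC, K, hKn, hK, hKi⟩ :=
    exists_complement_centralizer P hP hJ (CfsgLib.Small.ne_one_of_orderOf_two hJ2)
  haveI := hKn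
  haveI := Fintype.ofFinite (Subgroup.centralizer ({J} : Set G))
  haveI := Fintype.ofFinite K
  have hzero : ∀ k : K,
      Nat.card {x : G // x * x = J * ((k : Subgroup.centralizer ({J} : Set G)) : G)} = 0 := by
    intro k
    refine Nat.card_eq_zero.2 (Or.inl ⟨fun ⟨x, hx⟩ => ?_⟩)
    have hko : ¬ 2 ∣ orderOf ((k : Subgroup.centralizer ({J} : Set G)) : G) := by
      rw [Subgroup.orderOf_coe, Subgroup.orderOf_coe]
      exact fun h => hK (h.trans (orderOf_dvd_natCard k))
    have hz : 2 ∣ orderOf (x * x) := by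
      rw [hx, Commute.orderOf_mul_eq_mul_orderOf_of_coprime
        (show Commute J _ from (Subgroup.mem_centralizer_singleton_iff.1
          (k : Subgroup.centralizer ({J} : Set G)).2).symm)
        (by rw [hJ2]; exact (Nat.prime_two.coprime_iff_not_dvd.2 hko)), hJ2]
      exact dvd_mul_right _ _
    have h4 : 4 ∣ orderOf x := by
      rw [← sq, orderOf_pow' _ (by norm_num : (2 : ℕ) ≠ 0)] at hz
      have hx2 : 2 ∣ orderOf x := by
        by_contra hodd
        rw [Nat.coprime_iff_gcd_eq_one.1 (Nat.prime_two.coprime_iff_not_dvd.2 hodd).symm,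
          Nat.div_one] at hz
        exact hodd hz
      rw [Nat.gcd_eq_right hx2] at hz
      obtain ⟨m, hm⟩ := hx2
      rw [hm, Nat.mul_div_cancel_left _ (by norm_num)] at hz
      rw [hm]
      exact (Nat.mul_dvd_mul_left 2 hz : 2 * 2 ∣ _)
    obtain ⟨y, hy⟩ := exists_zpowers_card_four (x := x) h4
    obtain ⟨Q, hQ⟩ := (IsPGroup.of_card (n := 2) (by rw [hy]; norm_num) :
      IsPGroup 2 ↥(Subgroup.zpowers y)).exists_le_sylow
    obtain ⟨e⟩ : Nonempty (↥(Q : Subgroup G) ≃* ↥(P : Subgroup G)) := ⟨Q.equiv P⟩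
    have hyQ : y ∈ (Q : Subgroup G) := hQ (Subgroup.mem_zpowers y)
    have h1 : (⟨y, hyQ⟩ : (Q : Subgroup G)) ^ 2 = 1 := e.injective (by
      rw [map_pow, map_one, pow_two]
      exact Subtype.ext (CfsgLib.Small.kleinFour_mul_self hP (e ⟨y, hyQ⟩).2))
    have := orderOf_dvd_of_pow_eq_one h1
    rw [← Subgroup.orderOf_coe, ← Nat.card_zpowers, hy] at this
    norm_num at this
  have hK0 : (Nat.card K : ℂ) ≠ 0 := Nat.cast_ne_zero.2 Nat.card_pos.ne'
  refine mul_left_cancel₀ hK0 ?_
  calc (Nat.card K : ℂ) * ∑ χ : IrrCharacter G, (if χ ∈ Cfsg.principalBlock M G then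
        SquareRoots.indicator (χ : G → ℂ) * (χ : G → ℂ) J else 0)
      = ∑ χ : IrrCharacter G, SquareRoots.indicator (χ : G → ℂ) *
          ∑ k : K, (χ : G → ℂ) (J * ((k : Subgroup.centralizer ({J} : Set G)) : G)) := by
        rw [Finset.mul_sum]
        refine Finset.sum_congr rfl fun χ _ => ?_
        rw [sum_coset hM hJ2 K hK hKi χ]
        split_ifs <;> ring
    _ = ∑ k : K, ((Nat.card {x : G //
          x * x = J * ((k : Subgroup.centralizer ({J} : Set G)) : G)} : ℕ) : ℂ) := by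
        simp only [SquareRoots.card_sqrt_eq, Finset.mul_sum]
        exact Finset.sum_comm
    _ = _ := by
        rw [mul_zero]
        exact Finset.sum_eq_zero fun k _ => by rw [hzero k, Nat.cast_zero]

open Classical in
/-- A sum over a block of four named characters. -/
theorem sum_four [Fintype G] {M : Ideal AlgInt} (χ₁ χ₂ χ₃ : IrrCharacter G)
    (hB : Cfsg.principalBlock M G = {χ : IrrCharacter G |
      (χ : G → ℂ) = (fun _ => 1) ∨ χ = χ₁ ∨ χ = χ₂ ∨ χ = χ₃})
    (h1 : (χ₁ : G → ℂ) ≠ (fun _ => 1)) (h2 : (χ₂ : G → ℂ) ≠ (fun _ => 1))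
    (h3 : (χ₃ : G → ℂ) ≠ (fun _ => 1)) (h12 : χ₁ ≠ χ₂) (h13 : χ₁ ≠ χ₃) (h23 : χ₂ ≠ χ₃)
    (f : IrrCharacter G → ℂ) :
    ∑ χ : IrrCharacter G, (if χ ∈ Cfsg.principalBlock M G then f χ else 0) =
      f (trivChar G) + (f χ₁ + (f χ₂ + f χ₃)) := by
  have ht : ((trivChar G : IrrCharacter G) : G → ℂ) = fun _ => 1 := rfl
  have hne : ∀ χ : IrrCharacter G, (χ : G → ℂ) ≠ (fun _ => 1) → trivChar G ≠ χ := fun χ h e =>
    h (e ▸ ht)
  rw [← Finset.sum_filter,
    show Finset.univ.filter (· ∈ Cfsg.principalBlock M G) = {trivChar G, χ₁, χ₂, χ₃} from ?_,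
    Finset.sum_insert (by simp [hne _ h1, hne _ h2, hne _ h3]),
    Finset.sum_insert (by simp [h12, h13]), Finset.sum_insert (by simp [h23]),
    Finset.sum_singleton]
  ext χ
  simp only [Finset.mem_filter, Finset.mem_univ, true_and, Finset.mem_insert,
    Finset.mem_singleton, hB, Set.mem_ofPred_eq]
  exact or_congr_left ⟨fun h => Subtype.ext (h.trans ht.symm), fun h => h ▸ ht⟩

open Classical in
/-- The block at an involution is orthogonal to the block at the identity. -/
theorem sum_apply_mul_degree [Fintype G] {M : Ideal AlgInt} (hM : Cfsg.IsPModular 2 M)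
    (hJ2 : orderOf J = 2) :
    ∑ χ : IrrCharacter G, (if χ ∈ Cfsg.principalBlock M G then
      (χ : G → ℂ) J * (χ : G → ℂ) 1 else 0) = 0 := by
  haveI : Fact (Nat.Prime 2) := ⟨Nat.prime_two⟩
  haveI : M.IsPrime := Blocks.IsPModular.isPrime hM
  refine Eq.trans (Finset.sum_congr rfl fun χ _ => ?_) (sum_union_mul_conj_eq_zero hM
    (isBlockUnion_of_isPBlock isPBlock_principalBlock) (x := (1 : G)) (y := J)
    (by rw [orderOf_one]; norm_num) (by rw [hJ2]))
  refine if_congr Iff.rfl ?_ rfl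
  rw [InvolColumn.char_involution_real χ (CfsgLib.Small.inv_eq_self_of_orderOf_two hJ2), mul_comm]

end CfsgLib.BlocksLocal.KleinOrder
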