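import Cfsg.Agent.BlocksLocal.SectionSum
import Cfsg.Agent.BlocksLocal.LocalConjugacy
import Cfsg.Agent.BlockPairing.Subsections

/-!
# Squared values of the blocks of local subgroups under a block

For a block `b` of `G` and a local subgroup `H` the squared values of the characters of `H` under
`b` at `g` are those of the characters of `H ⊓ C(x)` under `b` at the `p'`-part, `x` the p-part
of `g`.
-/

set_option autoImplicit false
set_option linter.style.haveILetI false
set_option linter.unusedSectionVars false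

namespace CfsgLib.BlocksLocal.LocalSections

open Cfsg CfsgLib.Blocks CfsgLib.BlocksLocal
open scoped ComplexConjugate

universe u

variable {G : Type u} [Group G] [Fintype G] {M : Ideal AlgInt} [M.IsPrime] {p : ℕ} [Fact p.Prime]

/-- `H` contains `P` and its centralizer and normalizes it, for a p-subgroup `P`. -/
def IsLocal (p : ℕ) (H : Subgroup G) : Prop :=
  ∃ P : Subgroup G, IsPGroup p P ∧ P ≤ H ∧ Subgroup.centralizer (P : Set G) ≤ H ∧
    H ≤ Subgroup.normalizer (P : Set G)

open Classical in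
/-- The squared absolute values at `y` of the characters of `H` under `b`. -/
noncomputable def sqSum {b : Set (IrrCharacter G)} (hb : IsBlockUnion M b) (H : Subgroup G)
    (y : G) : ℂ :=
  haveI := Fintype.ofFinite H
  if h : y ∈ H then ∑ ξ : IrrCharacter H, (if ξ ∈ overSet M H b hb then
    (ξ : H → ℂ) ⟨y, h⟩ * conj ((ξ : H → ℂ) ⟨y, h⟩) else 0) else 0

open Classical in
theorem sqSum_eq {b : Set (IrrCharacter G)} (hb : IsBlockUnion M b) (H : Subgroup G) [hH : Fintype H]
    {y : G} (h : y ∈ H) :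
    sqSum hb H y = ∑ ξ : IrrCharacter H, (if ξ ∈ overSet M H b hb then
      (ξ : H → ℂ) ⟨y, h⟩ * conj ((ξ : H → ℂ) ⟨y, h⟩) else 0) := by
  rw [sqSum, dif_pos h]
  obtain rfl : hH = Fintype.ofFinite H := Subsingleton.elim _ _
  rfl

/-- The blocks inducing `b` are those under it. -/
theorem mem_overSet_iff_induced (hM : Cfsg.IsPModular p M) {b : Set (IrrCharacter G)}
    (hb : Cfsg.IsPBlock M b) {H : Subgroup G} [Fintype H] (hH : IsLocal p H) (ξ : IrrCharacter H) :
    ξ ∈ overSet M H b (isBlockUnion_of_isPBlock hb) ↔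
      ∃ β : Set (IrrCharacter H), ξ ∈ β ∧ Cfsg.IsInducedBlock M H β b := by
  classical
  obtain ⟨P, hP, hPH, hCH, hHN⟩ := hH
  constructor
  · intro hξ
    obtain ⟨B', hB'⟩ := inducedBlockDefined_of_local hM hP hPH hCH hHN (isPBlock_blockOf ξ)
    obtain ⟨χ, hχ⟩ := isPBlock_nonempty hB'.2.1
    have h := (isInducedBlock_iff H hB'.1 hB'.2.1 (mem_blockOf_self ξ) hχ).1 hB'
      (idemBar M b (isBlockUnion_of_isPBlock hb))
    rw [omegaBar_idemBar] at h
    refine ⟨_, mem_blockOf_self (M := M) ξ, ?_⟩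
    by_cases hm : χ ∈ b
    · exact isPBlock_eq_of_mem hB'.2.1 hb hχ hm ▸ hB'
    · rw [if_neg hm] at h
      exact absurd h hξ
  · rintro ⟨β, hξ, hβ⟩
    obtain ⟨χ, hχ⟩ := isPBlock_nonempty hb
    show omegaBar M ξ (resCtr H (idemBar M b _)) ≠ 0
    rw [(isInducedBlock_iff H hβ.1 hb hξ hχ).1 hβ, omegaBar_idemBar, if_pos hχ]
    exact one_ne_zero

open Classical in
/-- The reduced central characters at the restricted idempotent are zero or one. -/
theorem omegaBar_res_idem (hM : Cfsg.IsPModular p M) {b : Set (IrrCharacter G)}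
    (hb : Cfsg.IsPBlock M b) {H : Subgroup G} [Fintype H] (hH : IsLocal p H) (η : IrrCharacter H) :
    omegaBar M η (resCtr H (idemBar M b (isBlockUnion_of_isPBlock hb))) =
      if η ∈ overSet M H b (isBlockUnion_of_isPBlock hb) then 1 else 0 := by
  split_ifs with h
  · obtain ⟨β, hβm, hβ⟩ := (mem_overSet_iff_induced hM hb hH η).1 h
    obtain ⟨χ, hχ⟩ := isPBlock_nonempty hb
    rw [(isInducedBlock_iff H hβ.1 hb hβm hχ).1 hβ, omegaBar_idemBar, if_pos hχ]
  · by_contra hne
    exact h hne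

/-- The centralizer of `x` in a subgroup, inside the group. -/
def centEquiv {H : Subgroup G} (x : H) :
    Subgroup.centralizer ({x} : Set H) ≃* ↥(H ⊓ Subgroup.centralizer ({(x : G)} : Set G)) where
  toFun c := ⟨((c : H) : G), (c : H).2, Subgroup.mem_centralizer_singleton_iff.2
    (congrArg Subtype.val (Subgroup.mem_centralizer_singleton_iff.1 c.2))⟩
  invFun c := ⟨⟨(c : G), c.2.1⟩, Subgroup.mem_centralizer_singleton_iff.2
    (Subtype.ext (Subgroup.mem_centralizer_singleton_iff.1 c.2.2))⟩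
  left_inv c := rfl
  right_inv c := rfl
  map_mul' c d := rfl

open Classical in
/-- Passing to the centralizer of the p-part. -/
theorem sqSum_section (hM : Cfsg.IsPModular p M) {b : Set (IrrCharacter G)}
    (hb : Cfsg.IsPBlock M b) {H : Subgroup G} (hH : IsLocal p H) {g x y : G} (hg : g ∈ H)
    (hxy : x * y = g) (hcomm : Commute x y) (hx : ∃ k, orderOf x = p ^ k)
    (hy : ¬ p ∣ orderOf y) :
    sqSum (isBlockUnion_of_isPBlock hb) H g =
      sqSum (isBlockUnion_of_isPBlock hb) (H ⊓ Subgroup.centralizer ({x} : Set G)) y := by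
  haveI := Fintype.ofFinite H
  have hxH : x ∈ H := (Subgroup.zpowers_le.2 hg)
    (isPPart_mem_zpowers (Fact.out : p.Prime) ⟨y, hxy, hcomm, hx, hy⟩)
  have hyH : y ∈ H := by
    rw [show y = x⁻¹ * g by rw [← hxy, inv_mul_cancel_left]]
    exact mul_mem (inv_mem hxH) hg
  set x' : H := ⟨x, hxH⟩
  have hx' : ∃ k, orderOf x' = p ^ k := by rwa [Subgroup.orderOf_mk]
  set y' : Subgroup.centralizer ({x'} : Set H) :=
    ⟨⟨y, hyH⟩, Subgroup.mem_centralizer_singleton_iff.2 (Subtype.ext hcomm.eq.symm)⟩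
  have hy' : ¬ p ∣ orderOf y' := by rwa [Subgroup.orderOf_mk, Subgroup.orderOf_mk]
  haveI := Fintype.ofFinite (Subgroup.centralizer ({x'} : Set H))
  haveI := Fintype.ofFinite (↥(H ⊓ Subgroup.centralizer ({x} : Set G)))
  have hyK : y ∈ H ⊓ Subgroup.centralizer ({x} : Set G) :=
    ⟨hyH, Subgroup.mem_centralizer_singleton_iff.2 hcomm.eq.symm⟩
  set hbU := isBlockUnion_of_isPBlock hb
  set A := overSet M H b hbU
  have hA : IsBlockUnion M A := isBlockUnion_overSet H hbU
  rw [sqSum_eq hbU H hg, sqSum_eq hbU _ hyK]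
  -- the block of `H` induced by a character of the centralizer
  choose B₀ hB₀ using fun ξ : IrrCharacter (Subgroup.centralizer ({x'} : Set H)) =>
    induced_setup hM hx' ξ
  have hover : ∀ (η : IrrCharacter H) (ξ : IrrCharacter (Subgroup.centralizer ({x'} : Set H))),
      ξ ∈ overSet M _ (Cfsg.blockOf M (η : H → ℂ))
        (isBlockUnion_of_isPBlock (isPBlock_blockOf η)) ↔ η ∈ B₀ ξ := by
    intro η ξ
    constructor
    · intro h
      rw [isInducedBlock_unique (hB₀ ξ)
        (isInducedBlock_of_mem_overSet hM hx' (isPBlock_blockOf η) h)]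
      exact mem_blockOf_self η
    · intro h
      show omegaBar M ξ (resCtr _ (idemBar M _ _)) ≠ 0
      rw [(isInducedBlock_iff _ (hB₀ ξ).1 (hB₀ ξ).2.1 (mem_blockOf_self ξ) h).1 (hB₀ ξ),
        omegaBar_idemBar, if_pos (mem_blockOf_self η)]
      exact one_ne_zero
  -- membership above `b`
  have hmemA : ∀ ξ : IrrCharacter (Subgroup.centralizer ({x'} : Set H)),
      ξ ∈ BlockPairs.imageSet (centEquiv x').symm (overSet M (H ⊓ Subgroup.centralizer ({x} : Set G))
        b hbU) ↔ B₀ ξ ⊆ A := by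
    intro ξ
    obtain ⟨η, hη⟩ := isPBlock_nonempty (hB₀ ξ).2.1
    have h1 : omegaBar M (BlockPairs.irrComp (centEquiv x').symm ξ)
        (resCtr (H ⊓ Subgroup.centralizer ({x} : Set G)) (idemBar M b hbU)) =
        if η ∈ A then 1 else 0 := by
      rw [omegaBar_irrComp (centEquiv x').symm ξ
        (resCtr (Subgroup.centralizer ({x'} : Set H)) (resCtr H (idemBar M b hbU))) _ (fun c => by
          simp only [coeff_resCtr]; rfl),
        (isInducedBlock_iff _ (hB₀ ξ).1 (hB₀ ξ).2.1 (mem_blockOf_self ξ) hη).1 (hB₀ ξ),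
        omegaBar_res_idem hM hb hH]
    show omegaBar M (BlockPairs.irrComp (centEquiv x').symm ξ) _ ≠ 0 ↔ _
    rw [h1]
    constructor
    · intro h η' hη'
      have hηA : η ∈ A := by
        by_contra hc
        exact h (if_neg hc)
      rw [eq_blockOf_of_mem (hB₀ ξ).2.1 hη] at hη'
      exact hA η hηA hη'
    · intro h
      rw [if_pos (h hη)]
      exact one_ne_zero
  have hblock : ∀ η : IrrCharacter H,
      ∑ η' : IrrCharacter H, (if η' ∈ Cfsg.blockOf M (η : H → ℂ) then
        (η' : H → ℂ) ⟨g, hg⟩ * conj ((η' : H → ℂ) ⟨g, hg⟩) else 0) =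
      ∑ ξ : IrrCharacter (Subgroup.centralizer ({x'} : Set H)), (if η ∈ B₀ ξ then
        (ξ : _ → ℂ) y' * conj ((ξ : _ → ℂ) y') else 0) := by
    intro η
    have hgx : (⟨g, hg⟩ : H) = x' * (y' : H) := Subtype.ext hxy.symm
    rw [hgx, sum_section_mul_conj hM (isPBlock_blockOf η) hx' hy' hy']
    exact Finset.sum_congr rfl fun ξ _ => if_congr (hover η ξ) rfl rfl
  set N : IrrCharacter H → ℕ := fun η =>
    (Finset.univ.filter (· ∈ Cfsg.blockOf M (η : H → ℂ))).card with hN
  have hN0 : ∀ η, (N η : ℂ) ≠ 0 := fun η => Nat.cast_ne_zero.2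
    (Finset.card_ne_zero.2 ⟨η, Finset.mem_filter.2 ⟨Finset.mem_univ _, mem_blockOf_self η⟩⟩)
  have hsym : ∀ η η' : IrrCharacter H, η' ∈ Cfsg.blockOf M (η : H → ℂ) →
      Cfsg.blockOf M (η' : H → ℂ) = Cfsg.blockOf M (η : H → ℂ) := fun η η' h =>
    (eq_blockOf_of_mem (isPBlock_blockOf η) h).symm
  calc ∑ η : IrrCharacter H, (if η ∈ A then
        (η : H → ℂ) ⟨g, hg⟩ * conj ((η : H → ℂ) ⟨g, hg⟩) else 0)
      = ∑ η : IrrCharacter H, (if η ∈ A then (N η : ℂ)⁻¹ *
          ∑ η' : IrrCharacter H, (if η' ∈ Cfsg.blockOf M (η : H → ℂ) then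
            (η' : H → ℂ) ⟨g, hg⟩ * conj ((η' : H → ℂ) ⟨g, hg⟩) else 0) else 0) := by
        set F : IrrCharacter H → ℂ := fun η => (η : H → ℂ) ⟨g, hg⟩ * conj ((η : H → ℂ) ⟨g, hg⟩)
        have hr : ∀ η, (if η ∈ A then (N η : ℂ)⁻¹ *
            ∑ η' : IrrCharacter H, (if η' ∈ Cfsg.blockOf M (η : H → ℂ) then F η' else 0) else 0) =
            ∑ η' : IrrCharacter H, (if η ∈ Cfsg.blockOf M (η' : H → ℂ) then
              (if η' ∈ A then (N η' : ℂ)⁻¹ * F η' else 0) else 0) := by
          intro η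
          by_cases h : η ∈ A
          · rw [if_pos h, Finset.mul_sum]
            refine Finset.sum_congr rfl fun η' _ => ?_
            by_cases h' : η' ∈ Cfsg.blockOf M (η : H → ℂ)
            · have e := hsym η η' h'
              rw [if_pos h', if_pos (e ▸ mem_blockOf_self η), if_pos (hA η h h'), hN]
              simp only [e]
            · rw [if_neg h', mul_zero, if_neg fun h2 => h' ((hsym η' η h2) ▸ mem_blockOf_self η')]
          · rw [if_neg h, eq_comm]
            refine Finset.sum_eq_zero fun η' _ => ?_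
            by_cases h' : η ∈ Cfsg.blockOf M (η' : H → ℂ)
            · rw [if_pos h', if_neg fun h2 => h (hA η' h2 h')]
            · rw [if_neg h']
        rw [Finset.sum_congr rfl fun η _ => hr η, Finset.sum_comm]
        refine Finset.sum_congr rfl fun η' _ => ?_
        rw [← Finset.sum_filter, Finset.sum_const, nsmul_eq_mul]
        show (if η' ∈ A then F η' else 0) = _
        split_ifs
        · rw [← mul_assoc, mul_inv_cancel₀ (hN0 η'), one_mul]
        · rw [mul_zero]
    _ = ∑ ξ : IrrCharacter (Subgroup.centralizer ({x'} : Set H)), (if B₀ ξ ⊆ A then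
          (ξ : _ → ℂ) y' * conj ((ξ : _ → ℂ) y') else 0) := by
        simp only [hblock, Finset.mul_sum, ite_zero_mul, ← ite_and, mul_ite, mul_zero]
        rw [Finset.sum_congr rfl fun η _ => (show (if η ∈ A then ∑ ξ : IrrCharacter
          (Subgroup.centralizer ({x'} : Set H)), (if η ∈ B₀ ξ then (N η : ℂ)⁻¹ *
            ((ξ : _ → ℂ) y' * conj ((ξ : _ → ℂ) y')) else 0) else 0) =
          ∑ ξ : IrrCharacter (Subgroup.centralizer ({x'} : Set H)), (if η ∈ A ∧ η ∈ B₀ ξ then
            (N η : ℂ)⁻¹ * ((ξ : _ → ℂ) y' * conj ((ξ : _ → ℂ) y')) else 0) by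
            split_ifs with h <;> simp [h]), Finset.sum_comm]
        refine Finset.sum_congr rfl fun ξ _ => ?_
        obtain ⟨η₀, hη₀⟩ := isPBlock_nonempty (hB₀ ξ).2.1
        have hB : B₀ ξ = Cfsg.blockOf M (η₀ : H → ℂ) := eq_blockOf_of_mem (hB₀ ξ).2.1 hη₀
        split_ifs with hsub
        · rw [← Finset.sum_filter, Finset.sum_congr
            (show Finset.univ.filter (fun η => η ∈ A ∧ η ∈ B₀ ξ) =
              Finset.univ.filter (· ∈ Cfsg.blockOf M (η₀ : H → ℂ)) by
              ext η; simp only [Finset.mem_filter, Finset.mem_univ, true_and, ← hB]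
              exact ⟨fun h => h.2, fun h => ⟨hsub h, h⟩⟩)
            (g := fun _ => (N η₀ : ℂ)⁻¹ * ((ξ : _ → ℂ) y' * conj ((ξ : _ → ℂ) y'))) fun η hη => by
              rw [show N η = N η₀ by
                simp only [hN]; rw [hsym η₀ η (Finset.mem_filter.1 hη).2]],
            Finset.sum_const, nsmul_eq_mul, ← mul_assoc, mul_inv_cancel₀ (hN0 η₀), one_mul]
        · refine Finset.sum_eq_zero fun η _ => if_neg fun ⟨hηA, hηB⟩ => hsub ?_
          rw [eq_blockOf_of_mem (hB₀ ξ).2.1 hηB]
          exact hA η hηA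
    _ = _ := by
        refine Fintype.sum_bijective (BlockPairs.irrComp (centEquiv x').symm)
          ⟨BlockPairs.irrComp_injective _, fun ξ =>
            ⟨BlockPairs.irrComp (centEquiv x') ξ,
              Subtype.ext (funext fun c => by simp [BlockPairs.irrComp_apply])⟩⟩ _ _ fun ξ => ?_
        refine if_congr (hmemA ξ).symm rfl rfl

open Classical in
/-- The singular elements count `k − l`. -/
theorem sum_singular_sqSum (hM : Cfsg.IsPModular p M) {b : Set (IrrCharacter G)}
    (hb : Cfsg.IsPBlock M b) (H : Subgroup G) [Fintype H] :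
    ∑ g : G, (if g ∈ H ∧ p ∣ orderOf g then sqSum (isBlockUnion_of_isPBlock hb) H g else 0) =
      (Nat.card H : ℂ) *
        ((Nat.card (overSet M H b (isBlockUnion_of_isPBlock hb)) : ℂ) -
          (Cfsg.blockRank p (overSet M H b (isBlockUnion_of_isPBlock hb)) : ℂ)) := by
  set hbU := isBlockUnion_of_isPBlock hb
  set A := overSet M H b hbU
  have hN : (Nat.card H : ℂ) ≠ 0 := Nat.cast_ne_zero.2 Nat.card_pos.ne'
  have h1 : ∑ g : G, (if g ∈ H ∧ p ∣ orderOf g then sqSum hbU H g else 0) =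
      ∑ h : H, (if p ∣ orderOf h then ∑ ξ : IrrCharacter H,
        (if ξ ∈ A then (ξ : H → ℂ) h * conj ((ξ : H → ℂ) h) else 0) else 0) := by
    rw [Finset.sum_congr rfl (g := fun g => if g ∈ H then
      (if p ∣ orderOf g then sqSum hbU H g else 0) else 0) fun g _ => by rw [ite_and],
      ← Finset.sum_filter, Finset.sum_subtype _ (p := fun g => g ∈ H) (by simp)]
    refine Finset.sum_congr rfl fun h _ => ?_
    rw [Subgroup.orderOf_coe]
    split_ifs
    · exact sqSum_eq hbU H h.2
    · rfl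
  have h2 : (Nat.card A : ℂ) = ∑ ξ : IrrCharacter H, (if ξ ∈ A then
      (Nat.card H : ℂ)⁻¹ * ∑ h : H, (ξ : H → ℂ) h * conj ((ξ : H → ℂ) h) else 0) := by
    rw [Nat.card_eq_fintype_card, Fintype.card_subtype, ← Finset.sum_boole]
    refine Finset.sum_congr rfl fun ξ _ => ?_
    split_ifs
    · exact (Characters.classInner_isIrr_self ξ.2).symm
    · rfl
  rw [h1, h2, BlockPairing.blockRank_eq_sum hM (isBlockUnion_overSet H hbU),
    ← Finset.sum_sub_distrib, Finset.mul_sum]
  rw [Finset.sum_congr rfl fun h _ => (show (if p ∣ orderOf h then ∑ ξ : IrrCharacter H,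
    (if ξ ∈ A then (ξ : H → ℂ) h * conj ((ξ : H → ℂ) h) else 0) else 0) =
    ∑ ξ : IrrCharacter H, (if ξ ∈ A then (if p ∣ orderOf h then
      (ξ : H → ℂ) h * conj ((ξ : H → ℂ) h) else 0) else 0) by split_ifs <;> simp),
    Finset.sum_comm]
  refine Finset.sum_congr rfl fun ξ _ => ?_
  by_cases h : ξ ∈ A
  · have h' : ξ ∈ overSet M H b hbU := h
    simp only [if_pos h, if_pos h', BlockPairing.regInner]
    rw [← mul_sub, ← mul_assoc, mul_inv_cancel₀ hN, one_mul, ← Finset.sum_sub_distrib]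
    exact Finset.sum_congr rfl fun k _ => by split_ifs <;> simp
  · have h' : ξ ∉ overSet M H b hbU := h
    simp [h, h']

end CfsgLib.BlocksLocal.LocalSections
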