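import Cfsg.Agent.Blocks.Sections

/-!
# Block values on a p-section through the centralizer

`sum_section_mul_conj`, `sum_union_mul_conj_eq_sum`, `resCtr_mul_of_supported`,
`blockCoeff_overSet`.
-/

set_option autoImplicit false
set_option linter.style.haveILetI false
set_option linter.unusedSectionVars false

namespace CfsgLib.BlocksLocal

open Cfsg CfsgLib.Blocks
open scoped ComplexConjugate

universe u

variable {G : Type u} [Group G] [Fintype G] {M : Ideal AlgInt} [M.IsPrime] {p : ℕ}

open Classical in
/-- Sums of products over a union of blocks through its idempotent coefficients. -/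
theorem sum_union_mul_conj_eq_sum (A : Set (IrrCharacter G)) (z y : G) :
    ∑ χ : IrrCharacter G, (if χ ∈ A then (χ : G → ℂ) z * conj ((χ : G → ℂ) y) else 0) =
      ∑ t : G, Cfsg.blockCoeff A (t⁻¹ * y * t * z⁻¹) := by
  set ϑ : G → ℂ := fun u => ∑ χ : IrrCharacter G, (χ : G → ℂ) u * conj ((χ : G → ℂ) y) with hϑ
  have hcl : Cfsg.IsClassFunction G ϑ := fun a c =>
    Finset.sum_congr rfl fun χ _ => by rw [Characters.isClassFunction_of_isIrr χ.2]
  have hcoef : ∀ χ : IrrCharacter G,
      Cfsg.classInner ϑ (χ : G → ℂ) = conj ((χ : G → ℂ) y) := fun χ => by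
    have he : ϑ = ∑ ψ : IrrCharacter G, conj ((ψ : G → ℂ) y) • (ψ : G → ℂ) := by
      funext u
      rw [hϑ, Finset.sum_apply]
      exact Finset.sum_congr rfl fun ψ _ => by simp [mul_comm]
    rw [he, Characters.classInner_irr_coeff]
  have h := blockPart_eq_sum A hcl z
  rw [Cfsg.blockPart, finsum_irr_mem,
    show Fintype.ofFinite G = ‹Fintype G› from Subsingleton.elim _ _] at h
  simp only [hcoef] at h
  simp only [hϑ, Characters.sum_irr_mul_conj, Nat.card_eq_fintype_card,
    Fintype.card_subtype] at h
  refine (Finset.sum_congr rfl fun χ _ => ?_).trans (h.trans ?_)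
  · split_ifs <;> ring
  · simp only [Finset.natCast_card_filter, Finset.mul_sum]
    rw [Finset.sum_comm]
    refine Finset.sum_congr rfl fun t _ => ?_
    rw [Finset.sum_eq_single (t⁻¹ * y * t * z⁻¹)]
    · rw [if_pos (by group), mul_one]
    · intro k _ hk
      rw [if_neg, mul_zero]
      intro e
      refine hk ?_
      rw [← e]
      group
    · simp

/-- Restriction to a subgroup is multiplicative on an element supported there. -/
theorem resCtr_mul_of_supported {R : Type*} [CommRing R] (H : Subgroup G) [Fintype H]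
    (a b : Ctr R G) (ha : ∀ g, g ∉ H → (a : MonoidAlgebra R G).coeff g = 0) :
    resCtr H (a * b) = resCtr H a * resCtr H b := by
  classical
  refine ctr_ext fun h => ?_
  rw [coeff_resCtr, Subring.coe_mul, Subring.coe_mul, coeff_mul_eq_sum, coeff_mul_eq_sum]
  simp only [coeff_resCtr, Subgroup.coe_mul, Subgroup.coe_inv]
  rw [← Finset.sum_subset (Finset.subset_univ (Finset.univ.filter (· ∈ H)))
    (fun g _ hg => by rw [ha g (fun hh => hg (Finset.mem_filter.2 ⟨Finset.mem_univ _, hh⟩)),
      zero_mul])]
  exact Finset.sum_subtype (p := (· ∈ H)) _ (fun g => by simp)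
    (fun g => (a : MonoidAlgebra R G).coeff g * (b : MonoidAlgebra R G).coeff (g⁻¹ * (h : G)))

/-- If the idempotent of a union of blocks is supported in `H`, its restriction is the idempotent
of the blocks of `H` under it. -/
theorem blockCoeff_overSet (H : Subgroup G) [Fintype H] {B : Set (IrrCharacter G)}
    (hB : IsBlockUnion M B) (hsupp : ∀ g : G, g ∉ H → Cfsg.blockCoeff B g = 0) (k : H) :
    Cfsg.blockCoeff (overSet M H B hB) k = Cfsg.blockCoeff B (k : G) := by
  classical
  set f := setIdemO M B (memLocalRing_blockCoeff hB) with hf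
  have hfc : ∀ g, (((f : MonoidAlgebra (localRing M) G).coeff g : localRing M) : ℂ) =
      Cfsg.blockCoeff B g := fun g => by simp [hf, setIdemO]
  have hff : f * f = f := ctr_ext_omegaO fun ψ => by
    rw [map_mul, hf, omegaO_setIdemO]; split_ifs <;> simp
  have ha : resCtr H f * resCtr H f = resCtr H f := by
    rw [← resCtr_mul_of_supported H f f fun g hg => Subtype.ext (by simpa [hfc] using hsupp g hg),
      hff]
  have hU : IsBlockUnion M (overSet M H B hB) := isBlockUnion_overSet H hB
  have e : resCtr H f = setIdemO M (overSet M H B hB) (memLocalRing_blockCoeff hU) := by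
    refine ctr_ext_omegaO fun ξ => ?_
    rw [omegaO_setIdemO]
    have hv : omegaO M ξ (resCtr H f) * omegaO M ξ (resCtr H f) = omegaO M ξ (resCtr H f) := by
      rw [← map_mul, ha]
    have hred : omegaBar M ξ (resCtr H (idemBar M B hB)) = red M (omegaO M ξ (resCtr H f)) := by
      rw [idemBar, redCtr, ← mapCtr_resCtr, ← redCtr, omegaBar_redCtr]
    have hor : omegaO M ξ (resCtr H f) = 0 ∨ omegaO M ξ (resCtr H f) = 1 := by
      by_cases h0 : omegaO M ξ (resCtr H f) = 0
      · exact Or.inl h0
      · exact Or.inr (mul_eq_left₀ h0 |>.1 hv)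
    have hmem : ξ ∈ overSet M H B hB ↔ omegaBar M ξ (resCtr H (idemBar M B hB)) ≠ 0 := Iff.rfl
    rw [hred] at hmem
    rcases hor with h | h
    · rw [h, if_neg (by rw [hmem, h, map_zero]; exact fun hh => hh rfl)]
    · rw [h, if_pos (by rw [hmem, h, map_one]; exact one_ne_zero)]
  have := congrArg (fun a : Ctr (localRing M) H =>
    (((a : MonoidAlgebra (localRing M) H).coeff k : localRing M) : ℂ)) e
  simp only [coeff_resCtr, hfc] at this
  rw [this]
  simp [setIdemO]

variable [Fact p.Prime]

open Classical in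
/-- Products of the values of a block on the section of `x` are those in the blocks of its
centralizer under it. -/
theorem sum_section_mul_conj (hM : Cfsg.IsPModular p M) {B : Set (IrrCharacter G)}
    (hB : Cfsg.IsPBlock M B) {x : G}
    (hx : ∃ k, orderOf x = p ^ k) [Fintype (Subgroup.centralizer ({x} : Set G))]
    {c c' : Subgroup.centralizer ({x} : Set G)} (hc : ¬ p ∣ orderOf c) (hc' : ¬ p ∣ orderOf c') :
    ∑ χ : IrrCharacter G, (if χ ∈ B then
        (χ : G → ℂ) (x * (c : G)) * conj ((χ : G → ℂ) (x * (c' : G))) else 0) =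
      ∑ ξ : IrrCharacter (Subgroup.centralizer ({x} : Set G)),
        (if ξ ∈ overSet M (Subgroup.centralizer ({x} : Set G)) B (isBlockUnion_of_isPBlock hB) then
          (ξ : _ → ℂ) c * conj ((ξ : _ → ℂ) c') else 0) := by
  set b₀ := overSet M (Subgroup.centralizer ({x} : Set G)) B (isBlockUnion_of_isPBlock hB)
  have hb : IsBlockUnion M b₀ := isBlockUnion_overSet _ (isBlockUnion_of_isPBlock hB)
  set w : IrrCharacter G → ℂ := fun χ => conj ((χ : G → ℂ) (x * (c' : G)))
  set a : IrrCharacter (Subgroup.centralizer ({x} : Set G)) → ℂ := fun ξ =>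
    ∑ χ : IrrCharacter G,
      Cfsg.classInner (fun d : (Subgroup.centralizer ({x} : Set G)) => (χ : G → ℂ) (x * (d : G))) (ξ : (Subgroup.centralizer ({x} : Set G)) → ℂ) * w χ with ha
  have hsum : ∀ z : (Subgroup.centralizer ({x} : Set G)), ∑ ξ, a ξ * (ξ : (Subgroup.centralizer ({x} : Set G)) → ℂ) z =
      ∑ χ : IrrCharacter G, (χ : G → ℂ) (x * (z : G)) * w χ := by
    intro z
    simp only [ha, Finset.sum_mul]
    rw [Finset.sum_comm]
    refine Finset.sum_congr rfl fun χ _ => ?_
    have := congrFun (Characters.classFunction_expansion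
      (isClassFunction_translate (χ : G → ℂ) (Characters.isClassFunction_of_isIrr χ.2) x)) z
    rw [Finset.sum_apply] at this
    simp only [Pi.smul_apply, smul_eq_mul] at this
    rw [this, Finset.sum_mul]
    exact Finset.sum_congr rfl fun ξ _ => by ring
  have hcount : ∀ z : (Subgroup.centralizer ({x} : Set G)), ¬ p ∣ orderOf z →
      ∑ χ : IrrCharacter G, (χ : G → ℂ) (x * (z : G)) * w χ =
        ∑ ξ : IrrCharacter (Subgroup.centralizer ({x} : Set G)), (ξ : (Subgroup.centralizer ({x} : Set G)) → ℂ) z * conj ((ξ : (Subgroup.centralizer ({x} : Set G)) → ℂ) c') := by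
    intro z hz
    rw [Characters.sum_irr_mul_conj, Characters.sum_irr_mul_conj]
    congr 1
    have hpart : ∀ d : (Subgroup.centralizer ({x} : Set G)), ¬ p ∣ orderOf d → Cfsg.IsPPart p (x * (d : G)) x := fun d hd =>
      isPPart_of_mul (Subgroup.mem_centralizer_singleton_iff.1 d.2).symm hx
        (by rwa [Subgroup.orderOf_coe])
    refine Nat.card_congr
      { toFun := fun g => ⟨⟨g.1, ?_⟩, ?_⟩
        invFun := fun h => ⟨(h.1 : G), ?_⟩
        left_inv := fun g => rfl
        right_inv := fun h => rfl }
    · have h1 := isPPart_conj (hpart z hz) g.1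
      rw [g.2] at h1
      have h2 := isPPart_unique (Fact.out : p.Prime) h1 (hpart c' hc')
      exact Subgroup.mem_centralizer_singleton_iff.2 (mul_inv_eq_iff_eq_mul.1 h2)
    · refine Subtype.ext ?_
      have h1 := isPPart_conj (hpart z hz) g.1
      rw [g.2] at h1
      have h2 := isPPart_unique (Fact.out : p.Prime) h1 (hpart c' hc')
      have h3 : g.1 * x * g.1⁻¹ * (g.1 * (z : G) * g.1⁻¹) = x * (c' : G) :=
        (show g.1 * x * g.1⁻¹ * (g.1 * (z : G) * g.1⁻¹) = g.1 * (x * (z : G)) * g.1⁻¹ by
          group).trans g.2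
      rw [h2] at h3
      exact mul_left_cancel h3
    · have h1 := congrArg Subtype.val h.2
      simp only [Subgroup.coe_mul, Subgroup.coe_inv] at h1
      have h2 : ((h.1 : (Subgroup.centralizer ({x} : Set G))) : G) * x = x * ((h.1 : (Subgroup.centralizer ({x} : Set G))) : G) :=
        Subgroup.mem_centralizer_singleton_iff.1 h.1.2
      calc ((h.1 : (Subgroup.centralizer ({x} : Set G))) : G) * (x * (z : G)) * ((h.1 : (Subgroup.centralizer ({x} : Set G))) : G)⁻¹
          = ((h.1 : (Subgroup.centralizer ({x} : Set G))) : G) * x * ((z : G) * ((h.1 : (Subgroup.centralizer ({x} : Set G))) : G)⁻¹) := by group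
        _ = x * ((h.1 : (Subgroup.centralizer ({x} : Set G))) : G) * ((z : G) * ((h.1 : (Subgroup.centralizer ({x} : Set G))) : G)⁻¹) := by rw [h2]
        _ = x * (((h.1 : (Subgroup.centralizer ({x} : Set G))) : G) * (z : G) * ((h.1 : (Subgroup.centralizer ({x} : Set G))) : G)⁻¹) := by group
        _ = x * (c' : G) := by rw [h1]
  have key := sum_union_eq_zero hM hb (fun ξ => a ξ - conj ((ξ : (Subgroup.centralizer ({x} : Set G)) → ℂ) c')) (fun z hz => by
    simp only [sub_mul, Finset.sum_sub_distrib, hsum, hcount z hz]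
    rw [sub_eq_zero]
    exact Finset.sum_congr rfl fun ξ _ => mul_comm _ _) hc
  have hleft : ∑ χ : IrrCharacter G, (if χ ∈ B then
        (χ : G → ℂ) (x * (c : G)) * w χ else 0) =
      ∑ ξ : IrrCharacter (Subgroup.centralizer ({x} : Set G)), (if ξ ∈ b₀ then a ξ * (ξ : (Subgroup.centralizer ({x} : Set G)) → ℂ) c else 0) := by
    calc _ = ∑ χ : IrrCharacter G,
          Cfsg.blockPart b₀ (fun d : (Subgroup.centralizer ({x} : Set G)) => (χ : G → ℂ) (x * (d : G))) c * w χ := by
            refine Finset.sum_congr rfl fun χ _ => ?_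
            rw [show Cfsg.blockPart b₀ _ c = _ from blockPart_overSet hM hx hB χ hc]
            split_ifs <;> simp
      _ = _ := by
        simp only [Cfsg.blockPart, finsum_irr_mem, Finset.sum_mul]
        rw [show Fintype.ofFinite (Subgroup.centralizer ({x} : Set G)) = (inferInstance : Fintype (Subgroup.centralizer ({x} : Set G))) from Subsingleton.elim _ _,
          Finset.sum_comm]
        refine Finset.sum_congr rfl fun ξ _ => ?_
        by_cases hξ : ξ ∈ b₀
        · simp only [if_pos hξ, ha, Finset.sum_mul]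
          exact Finset.sum_congr rfl fun χ _ => by ring
        · simp [hξ]
  rw [hleft, ← sub_eq_zero, ← Finset.sum_sub_distrib]
  refine Eq.trans ?_ key
  refine Finset.sum_congr rfl fun ξ _ => ?_
  split_ifs <;> ring

end CfsgLib.BlocksLocal
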