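import Cfsg.Agent.BlocksLocal.Covering
import Cfsg.Agent.BlocksLocal.SectionSum

/-!
# Classes of a normal subgroup inside a class of the group

`omegaBar_resCtr_classSum_eq_sum` splits the restriction of a class sum into classes of the
subgroup; `card_classesOver_mul` counts them.
-/

set_option autoImplicit false
set_option linter.style.haveILetI false
set_option linter.unusedSectionVars false

namespace CfsgLib.BlocksLocal

open Cfsg CfsgLib.Blocks

universe u

variable {G : Type u} [Group G] [Fintype G] (N : Subgroup G) [hN : N.Normal] [Fintype N]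

open Classical in
/-- The classes of `N` lying in the class of `g`. -/
noncomputable def classesOver (g : G) : Finset (ConjClasses N) :=
  haveI := Fintype.ofFinite (ConjClasses N)
  Finset.univ.filter fun C => ConjClasses.map N.subtype C = ConjClasses.mk g

theorem mem_classesOver {g : G} {n : N} :
    ConjClasses.mk n ∈ classesOver N g ↔ IsConj (n : G) g := by
  simp only [classesOver, Finset.mem_filter, Finset.mem_univ, true_and]
  exact ConjClasses.mk_eq_mk_iff_isConj

theorem map_conjNormal_mem_classesOver {g : G} {C : ConjClasses N} (hC : C ∈ classesOver N g)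
    (x : G) : ConjClasses.map (MulAut.conjNormal (H := N) x).toMonoidHom C ∈ classesOver N g := by
  obtain ⟨n, rfl⟩ := ConjClasses.mk_surjective C
  rw [mem_classesOver] at hC
  show ConjClasses.mk (MulAut.conjNormal (H := N) x n) ∈ _
  rw [mem_classesOver, MulAut.conjNormal_apply]
  exact (isConj_iff.2 ⟨x, rfl⟩ : IsConj (n : G) _).symm.trans hC

/-- All classes of `N` over `g` are conjugate in the group. -/
theorem exists_conjNormal_of_mem_classesOver {g : G} {n : N}
    (hn : ConjClasses.mk n ∈ classesOver N g) {C : ConjClasses N} (hC : C ∈ classesOver N g) :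
    ∃ x : G, C = ConjClasses.mk (MulAut.conjNormal (H := N) x n) := by
  obtain ⟨m, rfl⟩ := ConjClasses.mk_surjective C
  rw [mem_classesOver] at hn hC
  obtain ⟨x, hx⟩ := isConj_iff.1 (hn.trans hC.symm)
  exact ⟨x, congrArg ConjClasses.mk (Subtype.ext (by rw [MulAut.conjNormal_apply, hx]))⟩

open Classical in
theorem card_classesOver_mul (n : N) :
    (classesOver N (n : G)).card * (Subgroup.centralizer ({n} : Set N)).index =
      (Subgroup.centralizer ({(n : G)} : Set G)).index := by
  haveI := Fintype.ofFinite (ConjClasses N)
  rw [← natCard_class (n : G)]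
  have hcard : Nat.card {x : G // ConjClasses.mk x = ConjClasses.mk (n : G)} =
      (Finset.univ.filter fun m : N => ConjClasses.mk (m : G) = ConjClasses.mk (n : G)).card := by
    rw [← Fintype.card_subtype, ← Nat.card_eq_fintype_card]
    refine Nat.card_congr
      { toFun := fun x => ⟨⟨x.1, ?_⟩, x.2⟩
        invFun := fun m => ⟨m.1.1, m.2⟩
        left_inv := fun x => rfl
        right_inv := fun m => rfl }
    obtain ⟨c, hc⟩ := isConj_iff.1 (ConjClasses.mk_eq_mk_iff_isConj.1 x.2).symm
    rw [← hc]
    exact hN.conj_mem _ n.2 c
  rw [hcard, Finset.card_eq_sum_card_fiberwise (f := fun m : N => ConjClasses.mk m)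
    (t := classesOver N (n : G)) (fun m hm => (mem_classesOver N).2
      (ConjClasses.mk_eq_mk_iff_isConj.1 (Finset.mem_filter.1 hm).2))]
  rw [Finset.sum_const_nat (m := (Subgroup.centralizer ({n} : Set N)).index) fun C hC => ?_]
  obtain ⟨x, rfl⟩ := exists_conjNormal_of_mem_classesOver N
    (show ConjClasses.mk n ∈ classesOver N (n : G) from (mem_classesOver N).2 (IsConj.refl _)) hC
  rw [index_centralizer_mulEquiv (MulAut.conjNormal (H := N) x) n, ← natCard_class,
    Finset.filter_filter, Nat.card_eq_fintype_card, Fintype.card_subtype]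
  congr 1
  refine Finset.filter_congr fun m _ => ⟨fun h => h.2, fun h => ⟨?_, h⟩⟩
  have := ConjClasses.mk_eq_mk_iff_isConj.1 h
  refine ConjClasses.mk_eq_mk_iff_isConj.2 (IsConj.trans (N.subtype.map_isConj this) ?_)
  rw [Subgroup.subtype_apply, MulAut.conjNormal_apply]
  exact (isConj_iff.2 ⟨x, rfl⟩ : IsConj (n : G) _).symm

variable {M : Ideal AlgInt} [M.IsPrime]

open Classical in
/-- The restriction of a class sum, through the classes of the normal subgroup. -/
theorem omegaBar_resCtr_classSum_eq_sum (θ : IrrCharacter N) (g : G) :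
    omegaBar M θ (resCtr N (classSum _ (ConjClasses.mk g))) =
      ∑ C ∈ classesOver N g, omegaBar M θ (classSum _ C) := by
  haveI := Fintype.ofFinite (ConjClasses N)
  rw [eq_sum_classSum (resCtr N (classSum (Res M) (ConjClasses.mk g))), map_sum]
  refine (Finset.sum_subset (Finset.subset_univ (classesOver N g)) fun C _ hC => ?_).symm.trans
    (Finset.sum_congr rfl fun C hC => ?_) <;>
  · obtain ⟨m, rfl⟩ := ConjClasses.mk_surjective C
    rw [map_mul, omegaBar_scalar, classCoeff_mk, coeff_resCtr, coeff_classSum]
    simp only [mem_classesOver] at hC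
    rw [← ConjClasses.mk_eq_mk_iff_isConj] at hC
    simp [hC]

/-- Central characters at conjugate classes. -/
theorem omegaBar_classSum_conjNormal (θ : IrrCharacter N) (x : G) (n : N) :
    omegaBar M θ (classSum _ (ConjClasses.mk (MulAut.conjNormal (H := N) x n))) =
      omegaBar M (conjIrr N θ x) (classSum _ (ConjClasses.mk n)) := by
  rw [omegaBar_classSum, omegaBar_classSum]
  exact congrArg (red M) (Subtype.ext (centralChar_conjIrr N θ x n).symm)

end CfsgLib.BlocksLocal
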