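import Cfsg.Agent.BlocksLocal.Covering
import Cfsg.Agent.Blocks.Height
import Cfsg.Agent.PLocal.Cores
import Mathlib.GroupTheory.Transfer
import Mathlib.LinearAlgebra.Dimension.Constructions

/-!
# Blocks of a group with a normal Sylow subgroup

`eq_zero_of_omegaBar_eq_zero`: for a group of order prime to `p` the centre has no nilpotents;
`card_classes_le_card_blocks`: with a normal Sylow subgroup `P` there are at least as many blocks as
classes of p-regular elements centralizing `P`.
-/

set_option autoImplicit false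
set_option linter.style.haveILetI false
set_option linter.unusedSectionVars false

namespace CfsgLib.BlocksLocal

open Cfsg CfsgLib.Blocks
open scoped ComplexConjugate

universe u

variable {G : Type u} [Group G] [Fintype G] {M : Ideal AlgInt} [M.IsPrime] {p : ℕ}

/-- In a group of order prime to `p` the reduced central characters separate the centre. -/
theorem eq_zero_of_omegaBar_eq_zero (hM : Cfsg.IsPModular p M) (hp : ¬ p ∣ Nat.card G)
    (z : Ctr (Res M) G) (h : ∀ χ : IrrCharacter G, omegaBar M χ z = 0) : z = 0 := by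
  obtain ⟨a, rfl⟩ := redCtr_surjective z
  refine ctr_ext fun g => ?_
  rw [ZeroMemClass.coe_zero, MonoidAlgebra.coeff_zero, Finsupp.zero_apply, redCtr, coeff_mapCtr]
  refine red_eq_zero_iff.2 ?_
  have hc : (((a : MonoidAlgebra (localRing M) G).coeff g : localRing M) : ℂ) =
      (Nat.card G : ℂ)⁻¹ * ∑ χ : IrrCharacter G,
        (χ : G → ℂ) 1 * (omegaO M χ a : ℂ) * conj ((χ : G → ℂ) g) := by
    simp only [coe_omegaO]
    rw [← coeff_eq_sum_omega (toC M a) g]
    simp [toC]
  rw [hc]
  refine memLocalIdeal_mul_left (memLocalRing_natCast_inv hM hp) (memLocalIdeal_sum _ fun χ _ => ?_)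
  refine memLocalIdeal_mul_right (memLocalIdeal_mul_left (memLocalRing_char χ 1) ?_) ?_
  · have := h χ
    rwa [omegaBar_redCtr, red_eq_zero_iff] at this
  · rw [← Characters.character_inv (Characters.isCharacter_of_isIrr χ.2)]
    exact memLocalRing_char χ g⁻¹

variable [Fact p.Prime]

/-- The p-regular elements centralizing a normal Sylow subgroup lie in the `p'`-core. -/
theorem mem_pPrimeCore_of_regular_centralizing (P : Sylow p G) [(P : Subgroup G).Normal] {g : G}
    (hg : ¬ p ∣ orderOf g) (hgP : g ∈ Subgroup.centralizer ((P : Subgroup G) : Set G)) :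
    g ∈ Cfsg.pPrimeCore p G := by
  classical
  haveI := Sylow.unique_of_normal P (inferInstance : (P : Subgroup G).Normal)
  obtain ⟨Q⟩ := (inferInstance :
    Nonempty (Sylow p (Subgroup.centralizer ((P : Subgroup G) : Set G))))
  have hQP : ∀ q ∈ (Q : Subgroup (Subgroup.centralizer ((P : Subgroup G) : Set G))),
      (q : G) ∈ (P : Subgroup G) := by
    intro q hq
    obtain ⟨R, hR⟩ := (Q.2.map (Subgroup.centralizer ((P : Subgroup G) : Set G)).subtype).exists_le_sylow
    exact SetLike.le_def.1 (congrArg Sylow.toSubgroup (Subsingleton.elim R P)).le (hR ⟨q, hq, rfl⟩)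
  have hN : Subgroup.normalizer
      ((Q : Subgroup (Subgroup.centralizer ((P : Subgroup G) : Set G))) : Set _) ≤
      Subgroup.centralizer
        ((Q : Subgroup (Subgroup.centralizer ((P : Subgroup G) : Set G))) : Set _) :=
    fun c _ => Subgroup.mem_centralizer_iff.2 fun q hq =>
      Subtype.ext (Subgroup.mem_centralizer_iff.1 c.2 (q : G) (hQP q hq))
  have hcompl := MonoidHom.ker_transferSylow_isComplement' Q hN
  set L := (MonoidHom.transferSylow Q hN).ker
  have hLcard : ¬ p ∣ Nat.card L := by
    rw [← hcompl.index_eq_card]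
    exact Q.not_dvd_index
  have hLidx : ∃ k, L.index = p ^ k := by
    rw [hcompl.symm.index_eq_card]
    exact IsPGroup.iff_card.1 Q.2
  haveI := Fintype.ofFinite (Subgroup.centralizer ((P : Subgroup G) : Set G))
  haveI := Fintype.ofFinite L
  have hLmem : ∀ c : Subgroup.centralizer ((P : Subgroup G) : Set G),
      c ∈ L ↔ ¬ p ∣ orderOf c := fun c =>
    ⟨fun hc hd => hLcard (hd.trans (Subgroup.orderOf_dvd_natCard L hc)),
      fun hc => mem_of_regular_of_pow_index L hLidx hc⟩
  let L' : Subgroup G := L.map (Subgroup.centralizer ((P : Subgroup G) : Set G)).subtype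
  haveI : L'.Normal := ⟨by
    rintro _ ⟨c, hc, rfl⟩ h
    have hm : h * (c : G) * h⁻¹ ∈ Subgroup.centralizer ((P : Subgroup G) : Set G) := by
      refine Subgroup.mem_centralizer_iff.2 fun u hu => ?_
      have hu' : h⁻¹ * u * h ∈ (P : Subgroup G) := by
        simpa using (inferInstance : (P : Subgroup G).Normal).conj_mem u hu h⁻¹
      have := Subgroup.mem_centralizer_iff.1 c.2 _ hu'
      calc u * (h * (c : G) * h⁻¹) = h * (h⁻¹ * u * h * c) * h⁻¹ := by group
        _ = h * ((c : G) * (h⁻¹ * u * h)) * h⁻¹ := by rw [this]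
        _ = h * (c : G) * h⁻¹ * u := by group
    refine ⟨⟨_, hm⟩, (hLmem _).2 ?_, rfl⟩
    rw [← Subgroup.orderOf_coe]
    show ¬ p ∣ orderOf (h * (c : G) * h⁻¹)
    rw [show h * (c : G) * h⁻¹ = MulAut.conj h (c : G) from rfl, MulEquiv.orderOf_eq,
      Subgroup.orderOf_coe]
    exact (hLmem c).1 hc⟩
  have hle : L' ≤ Cfsg.pPrimeCore p G := by
    refine PLocal.le_pPrimeCore (PLocal.not_dvd_iff_coprime.2 ?_)
    rw [Subgroup.card_map_of_injective (Subgroup.subtype_injective _)]
    exact hLcard
  refine hle ⟨⟨g, hgP⟩, (hLmem _).2 ?_, rfl⟩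
  rwa [← Subgroup.orderOf_coe]

/-- With a normal Sylow subgroup there are at least as many blocks as classes of p-regular
elements centralizing it. -/
theorem card_classes_le_card_blocks (hM : Cfsg.IsPModular p M) (P : Sylow p G)
    [(P : Subgroup G).Normal] :
    Nat.card {C : ConjClasses G // ∀ n : G, ConjClasses.mk n = C →
        ¬ p ∣ orderOf n ∧ n ∈ Subgroup.centralizer ((P : Subgroup G) : Set G)} ≤
      Nat.card {b : Set (IrrCharacter G) // Cfsg.IsPBlock M b} := by
  classical
  set K := Cfsg.pPrimeCore p G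
  haveI := Fintype.ofFinite K
  haveI := Fintype.ofFinite {C : ConjClasses G // ∀ n : G, ConjClasses.mk n = C →
    ¬ p ∣ orderOf n ∧ n ∈ Subgroup.centralizer ((P : Subgroup G) : Set G)}
  haveI := Fintype.ofFinite {b : Set (IrrCharacter G) // Cfsg.IsPBlock M b}
  choose rep hrep using fun b : {b : Set (IrrCharacter G) // Cfsg.IsPBlock M b} =>
    isPBlock_nonempty b.2
  let v : {C : ConjClasses G // ∀ n : G, ConjClasses.mk n = C →
        ¬ p ∣ orderOf n ∧ n ∈ Subgroup.centralizer ((P : Subgroup G) : Set G)} →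
      {b : Set (IrrCharacter G) // Cfsg.IsPBlock M b} → Res M :=
    fun C b => omegaBar M (rep b) (classSum _ C.1)
  have hv : LinearIndependent (Res M) v := by
    rw [Fintype.linearIndependent_iff]
    intro c hc C₀
    set z : Ctr (Res M) G := ∑ C, scalar (c C) * classSum (Res M) (Subtype.val C) with hz
    have hcoef : ∀ g : G, (z : MonoidAlgebra (Res M) G).coeff g =
        ∑ C, c C * (if ConjClasses.mk g = C.1 then 1 else 0) := by
      intro g
      simp [hz, MonoidAlgebra.coeff_sum, Finsupp.finsetSum_apply, coeff_classSum]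
    have hK : ∀ g : G, g ∉ K → (z : MonoidAlgebra (Res M) G).coeff g = 0 := by
      intro g hg
      rw [hcoef]
      refine Finset.sum_eq_zero fun C _ => ?_
      rw [if_neg, mul_zero]
      intro h
      exact hg (mem_pPrimeCore_of_regular_centralizing P (C.2 g h).1 (C.2 g h).2)
    have hker : ∀ χ : IrrCharacter G, omegaBar M χ z = 0 := by
      intro χ
      have hb : omegaBar M χ =
          omegaBar M (rep ⟨Cfsg.blockOf M (χ : G → ℂ), isPBlock_blockOf χ⟩) :=
        (sameBlock_iff χ _).1 (mem_blockOf.1 (hrep ⟨_, isPBlock_blockOf χ⟩))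
      rw [hb, hz, map_sum]
      have := congrFun hc ⟨Cfsg.blockOf M (χ : G → ℂ), isPBlock_blockOf χ⟩
      simpa [v, omegaBar_scalar] using this
    have hres : resCtr K z = 0 := by
      refine eq_zero_of_omegaBar_eq_zero hM
        (PLocal.not_dvd_iff_coprime.1 (PLocal.coprime_card_pPrimeCore p G)) _ fun θ => ?_
      obtain ⟨χ, hχ, hcov⟩ := CharactersDeep.Clifford.exists_over K θ.2
      rw [← omegaBar_eq_of_covers K (χ := ⟨χ, hχ⟩) hcov z hK]
      exact hker _
    obtain ⟨g, hg⟩ := ConjClasses.mk_surjective C₀.1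
    have hgK : g ∈ K :=
      mem_pPrimeCore_of_regular_centralizing P (C₀.2 g hg).1 (C₀.2 g hg).2
    have h0 := congrArg (fun a : Ctr (Res M) K => (a : MonoidAlgebra (Res M) K).coeff ⟨g, hgK⟩) hres
    simp only [coeff_resCtr, ZeroMemClass.coe_zero, MonoidAlgebra.coeff_zero,
      Finsupp.zero_apply] at h0
    rw [hcoef, Finset.sum_eq_single C₀] at h0
    · rwa [if_pos hg, mul_one] at h0
    · intro C _ hne
      rw [if_neg, mul_zero]
      intro h
      exact hne (Subtype.ext (h.symm.trans hg))
    · simp
  have h := hv.fintype_card_le_finrank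
  rw [Module.finrank_fintype_fun_eq_card] at h
  rwa [Nat.card_eq_fintype_card, Nat.card_eq_fintype_card]

end CfsgLib.BlocksLocal
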