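import Cfsg.Agent.BlockPairs.Contributions
import Cfsg.Agent.BlocksLocal.PrincipalSection
import Cfsg.Agent.GaloisConj.Basic
import Cfsg.Agent.Characters.Rational
import Cfsg.Agent.Characters.Linear

/-!
# Column norms of the principal block

`mem_principalBlock_iff_regInner`: the principal block consists of the characters with nonzero sum
over the p-regular elements; so it is stable under power maps (`pow_mem_principalBlock`) and under
inflation from a quotient by a normal p'-subgroup (`inflate_mem_principalBlock_iff`).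
-/

set_option autoImplicit false
set_option linter.style.haveILetI false
set_option linter.unusedSectionVars false

namespace CfsgLib.PrincipalColumn

open Cfsg CfsgLib.Blocks CfsgLib.BlockPairing CfsgLib.PrincipalBlock
open scoped ComplexConjugate

universe u

variable {G : Type u} [Group G] [Fintype G] {M : Ideal AlgInt} [M.IsPrime] {p : ℕ} [Fact p.Prime]

theorem mem_principalBlock_iff_regInner (hM : Cfsg.IsPModular p M) (χ : IrrCharacter G) :
    χ ∈ Cfsg.principalBlock M G ↔
      regInner p (χ : G → ℂ) ((trivChar G : IrrCharacter G) : G → ℂ) ≠ 0 := by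
  constructor
  · intro h h0
    refine Contributions.contrib_ne_zero_of_height_zero hM isPBlock_principalBlock h trivChar_mem
      (by rw [principalBlock_eq]; exact BlocksLocal.blockHeight_trivChar) ?_
    refine Int.cast_injective (α := ℂ) ?_
    rw [Contributions.cast_contrib h, h0, mul_zero, Int.cast_zero]
  · intro h
    by_contra hne
    exact h (by
      rw [regInner_symm]
      exact Contributions.regInner_eq_zero hM isPBlock_principalBlock trivChar_mem hne)

theorem sum_pow_eq {k : ℕ} (hk : k.Coprime (Nat.card G)) (f : G → ℂ) :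
    ∑ g : G, f (g ^ k) = ∑ g : G, f g :=
  Fintype.sum_equiv (powCoprime hk.symm) _ _ fun _ => rfl

theorem orderOf_pow_coprime_card {k : ℕ} (hk : k.Coprime (Nat.card G)) (g : G) :
    orderOf (g ^ k) = orderOf g :=
  Nat.Coprime.orderOf_pow (Nat.Coprime.coprime_dvd_left (orderOf_dvd_natCard g) hk.symm)

theorem pow_mem_principalBlock (hM : Cfsg.IsPModular p M) {k : ℕ} (hk : k.Coprime (Nat.card G))
    {χ χ' : IrrCharacter G} (h : ∀ g, (χ' : G → ℂ) g = (χ : G → ℂ) (g ^ k))
    (hχ : χ ∈ Cfsg.principalBlock M G) : χ' ∈ Cfsg.principalBlock M G := by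
  rw [mem_principalBlock_iff_regInner hM] at hχ ⊢
  suffices heq : regInner p (χ' : G → ℂ) ((trivChar G : IrrCharacter G) : G → ℂ) =
      regInner p (χ : G → ℂ) ((trivChar G : IrrCharacter G) : G → ℂ) by rwa [heq]
  simp only [regInner, trivChar_apply, map_one, mul_one]
  congr 1
  rw [← sum_pow_eq hk fun g => if p ∣ orderOf g then (0 : ℂ) else (χ : G → ℂ) g]
  exact Finset.sum_congr rfl fun g _ => by rw [orderOf_pow_coprime_card hk, h]

open Classical in
/-- The column norm of the principal block at `x`. -/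
noncomputable def colFun (M : Ideal AlgInt) (x : G) : ℂ :=
  ∑ χ : IrrCharacter G,
    if χ ∈ Cfsg.principalBlock M G then (χ : G → ℂ) x * conj ((χ : G → ℂ) x) else 0

theorem colFun_pow (hM : Cfsg.IsPModular p M) {k : ℕ} (hk : k.Coprime (Nat.card G)) (x : G) :
    colFun M (x ^ k) = colFun M x := by
  classical
  set T : IrrCharacter G → IrrCharacter G := fun χ =>
    ⟨fun g => (χ : G → ℂ) (g ^ k), GaloisConj.isIrrCharacter_pow χ.2 hk⟩ with hT
  have hinj : Function.Injective T := fun a b h => Subtype.ext (funext fun g => by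
    obtain ⟨g', rfl⟩ := (powCoprime hk.symm).surjective g
    exact congrFun (congrArg Subtype.val h) g')
  have hbij : Function.Bijective T := Finite.injective_iff_bijective.1 hinj
  have hmem : ∀ χ, T χ ∈ Cfsg.principalBlock M G ↔ χ ∈ Cfsg.principalBlock M G := by
    intro χ
    refine ⟨fun h => ?_, fun h => pow_mem_principalBlock hM hk (fun g => rfl) h⟩
    rw [mem_principalBlock_iff_regInner hM] at h ⊢
    suffices heq : regInner p (T χ : G → ℂ) ((trivChar G : IrrCharacter G) : G → ℂ) =
        regInner p (χ : G → ℂ) ((trivChar G : IrrCharacter G) : G → ℂ) by rwa [← heq]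
    simp only [regInner, trivChar_apply, map_one, mul_one, hT]
    congr 1
    rw [← sum_pow_eq hk fun g => if p ∣ orderOf g then (0 : ℂ) else (χ : G → ℂ) g]
    exact Finset.sum_congr rfl fun g _ => by rw [orderOf_pow_coprime_card hk]
  rw [colFun, colFun]
  refine Fintype.sum_bijective T hbij _ _ fun χ => ?_
  simp only [hmem χ]
  rfl

theorem colFun_isCharacter : Cfsg.IsCharacter G (colFun (G := G) M) := by
  classical
  have hc : ∀ χ : IrrCharacter G, Cfsg.IsCharacter G (fun g => conj ((χ : G → ℂ) g)) := fun χ => by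
    obtain ⟨d, ρ, -, hρ⟩ := χ.2
    have : (fun g => conj ((χ : G → ℂ) g)) = (GaloisConj.conjRep Complex.conjAe.toRingEquiv ρ).character :=
      funext fun g => by rw [GaloisConj.character_conjRep, ← hρ]; rfl
    rw [this]
    exact ⟨d, _, rfl⟩
  have h := Characters.isCharacter_sum (G := G)
    (Finset.univ.filter fun χ : IrrCharacter G => χ ∈ Cfsg.principalBlock M G)
    (fun χ g => (χ : G → ℂ) g * conj ((χ : G → ℂ) g))
    (fun χ _ => Characters.isCharacter_mul (Characters.isCharacter_of_isIrr χ.2) (hc χ))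
  convert h using 1
  funext g
  rw [colFun, Finset.sum_apply, Finset.sum_filter]

open Classical in
theorem colFun_eq_ofReal (x : G) :
    colFun M x = ((∑ χ : IrrCharacter G,
      if χ ∈ Cfsg.principalBlock M G then Complex.normSq ((χ : G → ℂ) x) else 0 : ℝ) : ℂ) := by
  rw [colFun, Complex.ofReal_sum]
  refine Finset.sum_congr rfl fun χ _ => ?_
  split_ifs <;> simp [Complex.mul_conj]

/-- The column norms of the principal block are positive integers. -/
theorem exists_nat_colFun (hM : Cfsg.IsPModular p M) (x : G) :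
    ∃ n : ℕ, 0 < n ∧ colFun M x = n := by
  classical
  obtain ⟨q, hq⟩ := Characters.rat_of_pow_invariant (colFun_isCharacter (M := M)) x
    fun k hk => colFun_pow hM hk x
  have hint : IsIntegral ℤ (colFun M x) :=
    Characters.gen_isIntegral (Characters.isGen_of_isCharacter colFun_isCharacter) x
  rw [hq] at hint
  obtain ⟨z, hz⟩ := IsIntegrallyClosed.isIntegral_iff.1
    ((isIntegral_algHom_iff (Algebra.ofId ℚ ℂ |>.restrictScalars ℤ)
      (RingHom.injective _)).1 hint)
  have hzc : colFun M x = (z : ℂ) := by rw [hq, ← hz]; simp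
  have hpos : (0 : ℝ) < (z : ℝ) := by
    have h := (colFun_eq_ofReal (M := M) x).symm.trans hzc
    have h' : (∑ χ : IrrCharacter G,
        if χ ∈ Cfsg.principalBlock M G then Complex.normSq ((χ : G → ℂ) x) else 0) = (z : ℝ) := by
      exact_mod_cast h
    rw [← h']
    refine Finset.sum_pos' (fun χ _ => ?_) ⟨trivChar G, Finset.mem_univ _, ?_⟩
    · split_ifs
      · exact Complex.normSq_nonneg _
      · exact le_rfl
    · rw [if_pos trivChar_mem, trivChar_apply]
      simp
  obtain ⟨n, rfl⟩ := Int.eq_ofNat_of_zero_le (le_of_lt (Int.cast_pos.1 hpos))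
  exact ⟨n, by exact_mod_cast hpos, by simpa using hzc⟩

section Quotient

variable (H : Subgroup G) [H.Normal] [Fintype (G ⧸ H)]

theorem sum_comp_mk (F : G ⧸ H → ℂ) :
    ∑ g : G, F (QuotientGroup.mk g) = (Nat.card H : ℂ) * ∑ q, F q := by
  classical
  rw [← Finset.sum_fiberwise Finset.univ (fun g : G => (QuotientGroup.mk g : G ⧸ H)),
    Finset.mul_sum]
  refine Finset.sum_congr rfl fun q _ => ?_
  rw [Finset.sum_congr rfl (g := fun _ => F q) (fun g hg => by rw [(Finset.mem_filter.1 hg).2]),
    Finset.sum_const, nsmul_eq_mul]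
  congr 2
  rw [← Fintype.card_subtype, ← Nat.card_eq_fintype_card]
  obtain ⟨a, rfl⟩ := QuotientGroup.mk_surjective q
  refine Nat.card_congr ⟨fun g => ⟨a⁻¹ * g.1, QuotientGroup.eq.1 g.2.symm⟩,
    fun h => ⟨a * h, QuotientGroup.mk_mul_of_mem _ h.2⟩, fun g => ?_, fun h => ?_⟩
  · simp
  · simp

theorem dvd_orderOf_mk_iff (hH : ¬ p ∣ Nat.card H) (g : G) :
    p ∣ orderOf (QuotientGroup.mk g : G ⧸ H) ↔ p ∣ orderOf g := by
  refine ⟨fun h => h.trans (orderOf_map_dvd (QuotientGroup.mk' H) g), fun h => ?_⟩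
  set m := orderOf (QuotientGroup.mk g : G ⧸ H) with hm
  have hmem : g ^ m ∈ H := by
    rw [← QuotientGroup.eq_one_iff, QuotientGroup.mk_pow, hm, pow_orderOf_eq_one]
  have h1 : orderOf g ∣ m * Nat.card H := by
    refine orderOf_dvd_of_pow_eq_one ?_
    rw [pow_mul]
    exact orderOf_dvd_iff_pow_eq_one.1 (Subgroup.orderOf_dvd_natCard H hmem)
  exact ((Fact.out : p.Prime).dvd_mul.1 (h.trans h1)).resolve_right hH

/-- Inflation of an irreducible character. -/
noncomputable def inflate (ψ : IrrCharacter (G ⧸ H)) : IrrCharacter G :=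
  ⟨fun g => (ψ : G ⧸ H → ℂ) (QuotientGroup.mk g),
    Characters.isIrr_comp (QuotientGroup.mk' H) (QuotientGroup.mk'_surjective H) ψ.2⟩

theorem inflate_apply (ψ : IrrCharacter (G ⧸ H)) (g : G) :
    (inflate H ψ : G → ℂ) g = (ψ : G ⧸ H → ℂ) (QuotientGroup.mk g) := rfl

theorem inflate_mem_principalBlock_iff (hM : Cfsg.IsPModular p M) (hH : ¬ p ∣ Nat.card H)
    (ψ : IrrCharacter (G ⧸ H)) :
    inflate H ψ ∈ Cfsg.principalBlock M G ↔ ψ ∈ Cfsg.principalBlock M (G ⧸ H) := by
  rw [mem_principalBlock_iff_regInner hM, mem_principalBlock_iff_regInner hM]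
  have key : regInner p ((inflate H ψ : IrrCharacter G) : G → ℂ)
      ((trivChar G : IrrCharacter G) : G → ℂ) =
      regInner p (ψ : G ⧸ H → ℂ) ((trivChar (G ⧸ H) : IrrCharacter (G ⧸ H)) : G ⧸ H → ℂ) := by
    simp only [regInner, trivChar_apply, map_one, mul_one, inflate_apply]
    have h1 : ∑ g : G, (if p ∣ orderOf g then (0 : ℂ) else (ψ : G ⧸ H → ℂ) (QuotientGroup.mk g)) =
        (Nat.card H : ℂ) *
          ∑ q : G ⧸ H, if p ∣ orderOf q then (0 : ℂ) else (ψ : G ⧸ H → ℂ) q := by
      rw [← sum_comp_mk H]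
      exact Finset.sum_congr rfl fun g _ => if_congr (dvd_orderOf_mk_iff H hH g).symm rfl rfl
    rw [h1, Subgroup.card_eq_card_quotient_mul_card_subgroup H, Nat.cast_mul, mul_inv,
      mul_assoc, inv_mul_cancel_left₀ (Nat.cast_ne_zero.2 Nat.card_pos.ne')]
  rw [key]

theorem bijOn_inflate (hM : Cfsg.IsPModular p M) (hH : ¬ p ∣ Nat.card H) :
    Set.BijOn (inflate H) (Cfsg.principalBlock M (G ⧸ H)) (Cfsg.principalBlock M G) := by
  refine ⟨fun ψ h => (inflate_mem_principalBlock_iff H hM hH ψ).2 h, fun a _ b _ h => ?_,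
    fun χ hχ => ?_⟩
  · refine Subtype.ext (funext fun q => ?_)
    obtain ⟨g, rfl⟩ := QuotientGroup.mk_surjective q
    exact congrFun (congrArg Subtype.val h) g
  · obtain ⟨ψ, hψ, hval⟩ := Characters.exists_irr_quotient H χ.2
      (fun n hn => mem_charKer.1 (le_charKer_of_mem hM H hH hχ hn))
    have he : inflate H ⟨ψ, hψ⟩ = χ := Subtype.ext (funext fun g => (hval g).symm)
    exact ⟨⟨ψ, hψ⟩, (inflate_mem_principalBlock_iff H hM hH _).1 (he ▸ hχ), he⟩

end Quotient

end CfsgLib.PrincipalColumn
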