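import Cfsg.Agent.Star.Decomp
import Mathlib.LinearAlgebra.Trace
import Mathlib.Algebra.Algebra.Operations
import Mathlib.RingTheory.Artinian.Module
import Mathlib.LinearAlgebra.Matrix.Charpoly.Coeff

/-!
# Trace forms attached to primitive idempotents, and algebras with one projective and two traces

For a central idempotent `e` of a finite-dimensional algebra and a decomposition of `e` into
primitive idempotents, each equivalence class gives a trace form vanishing on nilpotents.  If
there is one class and the space of traces of `eR` is two-dimensional, `eR` has dimension `2n²`.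
-/

set_option autoImplicit false
set_option linter.unusedSectionVars false

namespace CfsgLib.BlocksLocal

open CfsgLib.Star

variable {k R : Type*} [Field k] [IsAlgClosed k] [Ring R] [Algebra k R] [FiniteDimensional k R]
variable {e a : R} {s : Finset R}

local notation "⊤ₐ" => (⊤ : Subalgebra k R)

/-- Mutually inverse elements between `a` and the members of `s` equivalent to it. -/
theorem exists_frame (hs : IsDecomp ⊤ₐ e s) (ha : a ∈ s) :
    ∃ u v : R → R, u a = a ∧ v a = a ∧ ∀ l ∈ part ⊤ₐ s a,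
      InCorner ⊤ₐ l a (u l) ∧ InCorner ⊤ₐ a l (v l) ∧ u l * v l = l ∧ v l * u l = a := by
  classical
  have key : ∀ l, ∃ u v : R, (l = a → u = a ∧ v = a) ∧ (l ∈ part ⊤ₐ s a →
      InCorner ⊤ₐ l a u ∧ InCorner ⊤ₐ a l v ∧ u * v = l ∧ v * u = a) := by
    intro l
    by_cases hla : l = a
    · subst hla
      exact ⟨l, l, fun _ => ⟨rfl, rfl⟩, fun _ =>
        ⟨(hs.1 l ha).inCorner, (hs.1 l ha).inCorner, (hs.1 l ha).2.1, (hs.1 l ha).2.1⟩⟩
    · by_cases hl : l ∈ part ⊤ₐ s a
      · obtain ⟨x, y, hx, hy, hxy, hyx⟩ :=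
          (mem_part.1 hl).2.exists_corner (hs.1 a ha).2.1 (hs.1 l (part_subset s a hl)).2.1
        exact ⟨y, x, fun h => absurd h hla, fun _ => ⟨hy, hx, hyx, hxy⟩⟩
      · exact ⟨0, 0, fun h => absurd h hla, fun h => absurd h hl⟩
  choose u v h1 h2 using key
  exact ⟨u, v, (h1 a rfl).1, (h1 a rfl).2, h2⟩

theorem expand_mul (hc : ∀ x : R, e * x = x * e) (hs : IsDecomp ⊤ₐ e s) {l : R} (hl : l ∈ s)
    {v : R} (hv : InCorner ⊤ₐ a l v) (x y w : R) :
    v * (x * y) * w = ∑ n ∈ s, (v * x * n) * (n * y * w) := by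
  have hve : v * e = v := by rw [← hv.2.2, mul_assoc, (hs.mul_mem_eq hl).2]
  have h : v * (x * y) * w = v * x * e * (y * w) := by
    rw [mul_assoc v x e, ← hc x, ← mul_assoc v e x, hve]
    simp only [mul_assoc]
  rw [h, ← hs.2.2, Finset.mul_sum, Finset.sum_mul]
  refine Finset.sum_congr rfl fun n hn => ?_
  calc v * x * n * (y * w) = v * x * (n * n) * (y * w) := by rw [(hs.1 n hn).2.1]
    _ = _ := by simp only [mul_assoc]

/-- The trace form of a class of primitive idempotents. -/
theorem exists_trace (hc : ∀ x : R, e * x = x * e) (hs : IsDecomp ⊤ₐ e s) (ha : a ∈ s) :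
    ∃ φ : R →ₗ[k] k, (∀ x y, φ (x * y) = φ (y * x)) ∧ (∀ x, IsNilpotent x → φ x = 0) ∧
      φ a = 1 ∧ ∀ b ∈ s, ¬ Eqv ⊤ₐ a b → φ b = 0 := by
  classical
  obtain ⟨u, v, hua, hva, huv⟩ := exists_frame hs ha
  set S := part ⊤ₐ s a with hS
  have hP := hs.1 a ha
  have hPA : ∀ {l}, l ∈ S → ∀ x : R, ∀ {m}, m ∈ S → InCorner ⊤ₐ a a (v l * x * u m) := by
    intro l hl x m hm
    refine ⟨trivial, ?_, ?_⟩
    · rw [← mul_assoc, ← mul_assoc, (huv l hl).2.1.2.1]
    · rw [mul_assoc _ (u m), (huv m hm).1.2.2]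
  let ρ : R →ₗ[k] Matrix S S k :=
    { toFun := fun x => Matrix.of fun l m => res k a (v l * x * u m)
      map_add' := fun x y => by
        ext l m
        simp only [Matrix.of_apply, Matrix.add_apply, mul_add, add_mul]
        exact hP.res_add (hPA l.2 x m.2) (hPA l.2 y m.2)
      map_smul' := fun c x => by
        ext l m
        simp only [Matrix.of_apply, Matrix.smul_apply, RingHom.id_apply, smul_eq_mul,
          mul_smul_comm, smul_mul_assoc]
        exact hP.res_smul (hPA l.2 x m.2) c }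
  have hmul : ∀ x y, ρ (x * y) = ρ x * ρ y := by
    intro x y
    ext l m
    show res k a (v l * (x * y) * u m) = ∑ n : S, res k a (v l * x * u n) * res k a (v n * y * u m)
    have hl := huv l l.2
    have hm := huv m m.2
    have hX : ∀ n ∈ s, InCorner ⊤ₐ a n (v l * x * n) := fun n hn => by
      refine ⟨trivial, ?_, by rw [mul_assoc, (hs.1 n hn).2.1]⟩
      rw [← mul_assoc, ← mul_assoc, hl.2.1.2.1]
    have hY : ∀ n ∈ s, InCorner ⊤ₐ n a (n * y * u m) := fun n hn => by
      refine ⟨trivial, ?_, by rw [mul_assoc _ (u m), hm.1.2.2]⟩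
      rw [← mul_assoc, ← mul_assoc, (hs.1 n hn).2.1]
    rw [expand_mul hc hs (part_subset s a l.2) hl.2.1 x y (u m),
      hP.res_sum _ _ fun n hn => (hX n hn).mul (hY n hn)]
    have hsub : S ⊆ s := part_subset s a
    rw [← Finset.sum_subset hsub fun n hn hnS => ?_]
    · rw [← Finset.sum_coe_sort S]
      refine Finset.sum_congr rfl fun n _ => ?_
      rw [← hP.res_mul (hPA l.2 x n.2) (hPA n.2 y m.2)]
      congr 1
      have hn := huv n n.2
      calc v l * x * n * (n * y * u m) = v l * x * ((n : R) * n) * (y * u m) := by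
            simp only [mul_assoc]
        _ = v l * x * (u n * v n) * (y * u m) := by rw [(hs.1 n (hsub n.2)).2.1, hn.2.2.1]
        _ = _ := by simp only [mul_assoc]
    · by_contra h
      exact hnS (mem_part.2 ⟨hn, eqv_of_res_ne hP (hs.1 n hn) (hX n hn) (hY n hn) h⟩)
  refine ⟨(Matrix.traceLinearMap S k k).comp ρ, fun x y => ?_, fun x hx => ?_, ?_, ?_⟩
  · show Matrix.trace (ρ (x * y)) = Matrix.trace (ρ (y * x))
    rw [hmul, hmul, Matrix.trace_mul_comm]
  · obtain ⟨N, hN⟩ := hx
    have hpow : ∀ m : ℕ, ρ (x ^ (m + 1)) = ρ x ^ (m + 1) := by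
      intro m
      induction m with
      | zero => simp
      | succ m ih => rw [pow_succ, hmul, ih, ← pow_succ]
    have hn : IsNilpotent (ρ x) := ⟨N + 1, by rw [← hpow, pow_succ, hN, zero_mul, map_zero]⟩
    exact (Matrix.isNilpotent_trace_of_isNilpotent hn).eq_zero
  · show ∑ l : S, res k a (v l * a * u l) = 1
    have haS : a ∈ S := mem_part.2 ⟨ha, Eqv.refl hP⟩
    rw [Finset.sum_eq_single (⟨a, haS⟩ : S) (fun l _ hl => ?_) (by simp)]
    · rw [hua, hva, hP.2.1, hP.2.1, hP.res_self]
    · have hla : (l : R) ≠ a := fun h => hl (Subtype.ext h)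
      rw [← (huv l l.2).2.1.2.2, mul_assoc (v l) (l : R) a,
        hs.2.1 l (part_subset s a l.2) a ha hla, mul_zero, zero_mul, hP.res_zero]
  · intro b hb hab
    refine Finset.sum_eq_zero fun l _ => ?_
    have hlb : (l : R) ≠ b := fun h => hab (h ▸ (mem_part.1 l.2).2)
    show res k a (v l * b * u l) = 0
    rw [← (huv l l.2).2.1.2.2, mul_assoc (v l) (l : R) b,
      hs.2.1 l (part_subset s a l.2) b hb hlb, mul_zero, zero_mul, hP.res_zero]

/-! ### Subspaces of nilpotent elements -/

/-- A nonzero subspace stable under a multiplicatively closed space of nilpotents shrinks. -/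
theorem mul_lt_of_nilpotent {N W : Submodule k R} (hN : N * N ≤ N)
    (hnil : ∀ x ∈ N, IsNilpotent x) (hW : W * N ≤ W) (hW0 : W ≠ ⊥) : W * N < W := by
  obtain ⟨U, ⟨hUlt, hUst⟩, hUmax⟩ := wellFounded_gt.has_min
    {U : Submodule k R | U < W ∧ U * N ≤ U} ⟨⊥, bot_lt_iff_ne_bot.2 hW0, by simp⟩
  refine lt_of_le_of_lt (Submodule.mul_le.2 fun w hw n hn => ?_) hUlt
  set L := N.map (LinearMap.mulLeft k w) ⊔ U with hL
  have hLle : L ≤ W := by
    refine sup_le ?_ hUlt.le
    rintro _ ⟨r, hr, rfl⟩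
    exact hW (Submodule.mul_mem_mul hw hr)
  have hLst : L * N ≤ L := by
    refine Submodule.mul_le.2 fun z hz r' hr' => ?_
    obtain ⟨_, ⟨r, hr, rfl⟩, u, hu, rfl⟩ := Submodule.mem_sup.1 hz
    rw [add_mul]
    refine Submodule.add_mem_sup ⟨r * r', hN (Submodule.mul_mem_mul hr hr'), ?_⟩
      (hUst (Submodule.mul_mem_mul hu hr'))
    simp [mul_assoc]
  suffices hLU : L ≤ U from hLU (Submodule.mem_sup_left ⟨n, hn, rfl⟩)
  by_contra hLU
  have hLW : L = W := by
    by_contra h
    exact hUmax L ⟨lt_of_le_of_ne hLle h, hLst⟩ (lt_of_le_not_ge le_sup_right hLU)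
  obtain ⟨_, ⟨r, hr, rfl⟩, u, hu, hwu⟩ := Submodule.mem_sup.1 (hLW.symm ▸ hw : w ∈ L)
  simp only [LinearMap.mulLeft_apply] at hwu
  have hstep : ∀ m : ℕ, u * r ^ m ∈ U := by
    intro m
    induction m with
    | zero => simpa
    | succ m ih => rw [pow_succ, ← mul_assoc]; exact hUst (Submodule.mul_mem_mul ih hr)
  have hiter : ∀ m : ℕ, w - w * r ^ m ∈ U := by
    intro m
    induction m with
    | zero => simp
    | succ m ih =>
      have : w - w * r ^ (m + 1) = (w - w * r ^ m) + u * r ^ m := by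
        have hu' : u = w - w * r := eq_sub_of_add_eq' hwu
        rw [hu', sub_mul, mul_assoc, ← pow_succ']
        abel
      rw [this]
      exact U.add_mem ih (hstep m)
  obtain ⟨M, hM⟩ := hnil r hr
  have hwU : w ∈ U := by simpa [hM] using hiter M
  refine hLU (sup_le ?_ le_rfl)
  rintro _ ⟨r', hr', rfl⟩
  exact hUst (Submodule.mul_mem_mul hwU hr')

theorem exists_mul_pow_eq_bot {N : Submodule k R} (hN : N * N ≤ N)
    (hnil : ∀ x ∈ N, IsNilpotent x) (W : Submodule k R) (hW : W * N ≤ W) :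
    ∃ m : ℕ, W * N ^ m = ⊥ := by
  have : WellFoundedLT (Submodule k R) := inferInstanceAs (IsArtinian k R)
  induction W using WellFoundedLT.induction with
  | _ W ih =>
    by_cases hW0 : W = ⊥
    · exact ⟨0, by simp [hW0]⟩
    · obtain ⟨m, hm⟩ := ih _ (mul_lt_of_nilpotent hN hnil hW hW0) (mul_le_mul_left hW N)
      exact ⟨m + 1, by rwa [pow_succ', ← mul_assoc]⟩

/-- If `N` is spanned by `r` modulo its square, its elements commute. -/
theorem commute_of_le_span_sup {N : Submodule k R} (hN : N * N ≤ N)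
    (hnil : ∀ x ∈ N, IsNilpotent x) {r : R} (hr : r ∈ N)
    (h : N ≤ Submodule.span k {r} ⊔ N * N) : ∀ x ∈ N, ∀ y ∈ N, x * y = y * x := by
  have hrN : Submodule.span k {r} ≤ N := (Submodule.span_singleton_le_iff_mem r N).2 hr
  have hstep : ∀ m : ℕ, N ^ (m + 1) ≤ Submodule.span k {r} ^ (m + 1) ⊔ N ^ (m + 2) := by
    intro m
    induction m with
    | zero => simpa [pow_two] using h
    | succ m ih =>
      have h1 : N ^ (m + 2) ≤ Submodule.span k {r} ^ (m + 1) * N ⊔ N ^ (m + 3) := by
        rw [pow_succ N (m + 1), pow_succ N (m + 2)]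
        refine (mul_le_mul_left ih N).trans ?_
        rw [Submodule.sup_mul]
      refine h1.trans (sup_le ?_ le_sup_right)
      refine (mul_le_mul_right h _).trans ?_
      rw [Submodule.mul_sup, ← pow_succ]
      refine sup_le le_sup_left (le_sup_of_le_right ?_)
      rw [pow_succ N (m + 2), pow_succ N (m + 1), mul_assoc (N ^ (m + 1))]
      exact mul_le_mul_left (pow_le_pow_left' hrN (m + 1)) _
  obtain ⟨M, hM⟩ := exists_mul_pow_eq_bot hN hnil N hN
  rw [← pow_succ'] at hM
  set P := Subalgebra.toSubmodule (Algebra.adjoin k ({r} : Set R))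
  have hpowP : ∀ m : ℕ, Submodule.span k {r} ^ (m + 1) ≤ P := fun m => by
    rw [Submodule.span_pow, Set.singleton_pow, Submodule.span_singleton_le_iff_mem]
    exact pow_mem (Algebra.self_mem_adjoin_singleton k r) _
  have hdown : ∀ j m : ℕ, m + j = M → N ^ (m + 1) ≤ P := by
    intro j
    induction j with
    | zero => intro m hm; rw [show m = M by omega, hM]; exact bot_le
    | succ j ih => intro m hm; exact (hstep m).trans (sup_le (hpowP m) (ih (m + 1) (by omega)))
  intro x hx y hy
  have hx' : x ∈ Algebra.adjoin k ({r} : Set R) :=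
    hdown M 0 (zero_add M) (by rwa [zero_add, pow_one])
  have hy' : y ∈ Algebra.adjoin k ({r} : Set R) :=
    hdown M 0 (zero_add M) (by rwa [zero_add, pow_one])
  exact (Algebra.commute_of_mem_adjoin_singleton_of_commute hy'
    (Algebra.commute_of_mem_adjoin_singleton_of_commute hx' (Commute.refl r)).symm).eq

/-- One class of primitive idempotents and two traces: the algebra has dimension twice a square. -/
theorem exists_finrank_eq_two_mul_sq {V : Type*} [AddCommGroup V] [Module k V]
    (hc : ∀ x : R, e * x = x * e) (hs : IsDecomp ⊤ₐ e s)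
    (hone : ∀ b ∈ s, ∀ b' ∈ s, Eqv ⊤ₐ b b') (π : R →ₗ[k] V) (hπ : ∀ x y, π (x * y) = π (y * x))
    (hker : LinearMap.ker π ≤ Submodule.span k {z | ∃ x y : R, z = x * y - y * x})
    (htwo : Module.finrank k ((LinearMap.range (LinearMap.mulLeft k e)).map π) = 2) :
    ∃ n : ℕ, Module.finrank k (LinearMap.range (LinearMap.mulLeft k e)) = 2 * n ^ 2 := by
  classical
  set E := LinearMap.range (LinearMap.mulLeft k e) with hE
  have hee : e * e = e := by
    conv_lhs => arg 2; rw [← hs.2.2]
    rw [Finset.mul_sum]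
    exact (Finset.sum_congr rfl fun i hi => (hs.mul_mem_eq hi).1).trans hs.2.2
  have hmemE : ∀ x, x ∈ E ↔ e * x = x := fun x =>
    ⟨by rintro ⟨y, rfl⟩; simp [← mul_assoc, hee], fun h => ⟨x, h⟩⟩
  obtain ⟨a, ha⟩ : s.Nonempty := by
    rw [Finset.nonempty_iff_ne_empty]
    intro h0
    have he0 : e = 0 := by rw [← hs.2.2, h0, Finset.sum_empty]
    have hE0 : E = ⊥ := by rw [hE, he0]; simp
    rw [hE0, Submodule.map_bot, finrank_bot] at htwo
    omega
  obtain ⟨u, v, hua, hva, huv'⟩ := exists_frame hs ha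
  have huv : ∀ l ∈ s, InCorner ⊤ₐ l a (u l) ∧ InCorner ⊤ₐ a l (v l) ∧ u l * v l = l ∧
      v l * u l = a := fun l hl => huv' l (mem_part.2 ⟨hl, hone a ha l hl⟩)
  have hP := hs.1 a ha
  let A0 : Submodule k R :=
    { carrier := {x | InCorner ⊤ₐ a a x}
      add_mem' := InCorner.add
      zero_mem' := InCorner.zero
      smul_mem' := fun c _ hx => hx.smul c }
  let R0 : Submodule k R :=
    { carrier := {x | InCorner ⊤ₐ a a x ∧ IsNilpotent x}
      add_mem' := fun hx hy => ⟨hx.1.add hy.1, hP.nilpotent_add hx.1 hy.1 hx.2 hy.2⟩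
      zero_mem' := ⟨InCorner.zero, IsNilpotent.zero⟩
      smul_mem' := fun c _ hx => ⟨hx.1.smul c, hx.2.smul c⟩ }
  have hR0mul : R0 * R0 ≤ R0 := Submodule.mul_le.2 fun x hx y hy =>
    ⟨hx.1.mul hy.1, hP.nilpotent_mul hx.1 hy.1 hx.2⟩
  have hAA : A0 ≤ E := fun x hx => (hmemE x).2 (by
    rw [← hx.2.1, ← mul_assoc, (hs.mul_mem_eq ha).1])
  have hmemA : ∀ {l}, l ∈ s → ∀ (x : R) {m}, m ∈ s → v l * x * u m ∈ A0 := by
    intro l hl x m hm
    refine ⟨trivial, ?_, ?_⟩
    · rw [← mul_assoc, ← mul_assoc, (huv l hl).2.1.2.1]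
    · rw [mul_assoc _ (u m), (huv m hm).1.2.2]
  let t : R →ₗ[k] R := ∑ l ∈ s, (LinearMap.mulLeft k (v l)).comp (LinearMap.mulRight k (u l))
  have ht : ∀ x, t x = ∑ l ∈ s, v l * x * u l := fun x => by
    simp [t, mul_assoc]
  have htA : ∀ x ∈ A0, t x = x := by
    intro x hx
    rw [ht, Finset.sum_eq_single a (fun l hl hla => ?_) (fun h => absurd ha h), hua, hva,
      hx.2.1, hx.2.2]
    rw [← hx.2.1, ← (huv l hl).2.1.2.2, mul_assoc (v l) l, ← mul_assoc l a x,
      hs.2.1 l hl a ha hla]
    simp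
  have htπ : ∀ x ∈ E, π (t x) = π x := by
    intro x hx
    have hxe : x = ∑ l ∈ s, x * l := by
      rw [← Finset.mul_sum, hs.2.2, ← hc, (hmemE x).1 hx]
    conv_rhs => rw [hxe, map_sum]
    rw [ht, map_sum]
    refine Finset.sum_congr rfl fun l hl => ?_
    rw [mul_assoc, hπ, mul_assoc, (huv l hl).2.2.1]
  set T : Submodule k R := Submodule.span k {z | ∃ x ∈ R0, ∃ y ∈ R0, z = x * y - y * x}
  have hcom : ∀ X ∈ A0, ∀ Y ∈ A0, X * Y - Y * X ∈ T := by
    intro X hX Y hY
    refine Submodule.subset_span ⟨X - res k a X • a,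
      ⟨hX.sub (hP.inCorner.smul _), hP.res_spec hX⟩, Y - res k a Y • a,
      ⟨hY.sub (hP.inCorner.smul _), hP.res_spec hY⟩, ?_⟩
    simp only [sub_mul, mul_sub, smul_mul_assoc, mul_smul_comm, hX.2.1, hX.2.2, hY.2.1, hY.2.2,
      hP.2.1, smul_sub, smul_comm (res k a X) (res k a Y)]
    abel
  have htker : ∀ x, π x = 0 → t x ∈ T := by
    intro x hx
    have h := hker (LinearMap.mem_ker.2 hx)
    clear hx
    induction h using Submodule.span_induction with
    | mem z hz =>
      obtain ⟨x, y, rfl⟩ := hz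
      have he : ∀ x y, t (x * y) = ∑ l ∈ s, ∑ n ∈ s, (v l * x * u n) * (v n * y * u l) := by
        intro x y
        rw [ht]
        refine Finset.sum_congr rfl fun l hl => ?_
        rw [expand_mul hc hs hl (huv l hl).2.1]
        refine Finset.sum_congr rfl fun n hn => ?_
        calc v l * x * n * (n * y * u l) = v l * x * (n * n) * (y * u l) := by
              simp only [mul_assoc]
          _ = v l * x * (u n * v n) * (y * u l) := by rw [(hs.1 n hn).2.1, (huv n hn).2.2.1]
          _ = _ := by simp only [mul_assoc]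
      rw [map_sub, he x y, he y x,
        Finset.sum_comm (f := fun l n => v l * y * u n * (v n * x * u l)), ← Finset.sum_sub_distrib]
      refine T.sum_mem fun l hl => ?_
      rw [← Finset.sum_sub_distrib]
      exact T.sum_mem fun n hn => hcom _ (hmemA hl x hn) _ (hmemA hn y hl)
    | zero => simp
    | add x y _ _ hx hy => rw [map_add]; exact T.add_mem hx hy
    | smul c x _ hx => rw [map_smul]; exact T.smul_mem c hx
  have hT : T ≤ R0 * R0 := Submodule.span_le.2 fun z hz => by
    obtain ⟨x, hx, y, hy, rfl⟩ := hz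
    exact Submodule.sub_mem _ (Submodule.mul_mem_mul hx hy) (Submodule.mul_mem_mul hy hx)
  have hEA : E.map π = A0.map π := by
    refine le_antisymm ?_ (Submodule.map_mono hAA)
    rintro _ ⟨x, hx, rfl⟩
    exact ⟨t x, by rw [ht]; exact A0.sum_mem fun l hl => hmemA hl x hl, htπ x hx⟩
  have hsplit : A0 = Submodule.span k {a} ⊔ R0 := by
    refine le_antisymm (fun x hx => ?_) (sup_le ?_ fun x hx => hx.1)
    · have : x = res k a x • a + (x - res k a x • a) := by abel
      rw [this]
      exact Submodule.add_mem_sup (Submodule.mem_span_singleton.2 ⟨_, rfl⟩)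
        ⟨hx.sub (hP.inCorner.smul _), hP.res_spec hx⟩
    · rw [Submodule.span_singleton_le_iff_mem]; exact hP.inCorner
  have hpa : π a ∉ R0.map π := by
    rintro ⟨x, hx, hxa⟩
    have h := hT (htker (x - a) (by rw [map_sub, hxa, sub_self]))
    rw [htA (x - a) (hx.1.sub hP.inCorner)] at h
    have haR : a ∈ R0 := by simpa using R0.sub_mem hx (hR0mul h)
    exact hP.not_nilpotent haR.2
  have hdim1 : Module.finrank k (R0.map π) = 1 := by
    have h0 : π a ≠ 0 := fun h => hpa (h ▸ Submodule.zero_mem _)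
    have hd : Submodule.span k {π a} ⊓ R0.map π = ⊥ :=
      disjoint_iff.1 ((Submodule.disjoint_span_singleton' h0).2 hpa).symm
    have h := Submodule.finrank_sup_add_finrank_inf_eq (Submodule.span k {π a}) (R0.map π)
    rw [hd, finrank_bot, finrank_span_singleton h0] at h
    have hA : A0.map π = Submodule.span k {π a} ⊔ R0.map π := by
      rw [hsplit, Submodule.map_sup, Submodule.map_span, Set.image_singleton]
    rw [← hA, ← hEA, htwo] at h
    omega
  obtain ⟨⟨w, hwmem⟩, -, hw⟩ := finrank_eq_one_iff'.1 hdim1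
  obtain ⟨r, hr, rfl⟩ := hwmem
  have hcomm : ∀ x ∈ R0, ∀ y ∈ R0, x * y = y * x := by
    refine commute_of_le_span_sup hR0mul (fun x hx => hx.2) hr fun x hx => ?_
    obtain ⟨c, hc'⟩ := hw ⟨π x, ⟨x, hx, rfl⟩⟩
    have hc'' : c • π r = π x := congrArg Subtype.val hc'
    have h := hT (htker (x - c • r) (by rw [map_sub, map_smul, hc'', sub_self]))
    rw [htA (x - c • r) (hx.1.sub (hr.1.smul c))] at h
    have : x = c • r + (x - c • r) := by abel
    rw [this]
    exact Submodule.add_mem_sup (Submodule.mem_span_singleton.2 ⟨c, rfl⟩) h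
  have hT0 : T = ⊥ := Submodule.span_eq_bot.2 fun z ⟨x, hx, y, hy, hz⟩ => by
    rw [hz, hcomm x hx y hy, sub_self]
  have hA2 : Module.finrank k A0 = 2 := by
    rw [← htwo, hEA, ← LinearMap.range_domRestrict, LinearMap.finrank_range_of_inj]
    rw [← LinearMap.ker_eq_bot, Submodule.eq_bot_iff]
    rintro ⟨x, hx⟩ hx0
    have h := htker x hx0
    rw [hT0, Submodule.mem_bot, htA x hx] at h
    exact Subtype.ext h
  let Φ : E ≃ₗ[k] (s × s → A0) :=
    { toFun := fun x lm => ⟨v lm.1 * x * u lm.2, hmemA lm.1.2 x lm.2.2⟩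
      map_add' := fun x y => by funext lm; ext; simp [mul_add, add_mul]
      map_smul' := fun c x => by funext lm; ext; simp
      invFun := fun Y => ⟨∑ lm : s × s, u lm.1 * Y lm * v lm.2, (hmemE _).2 (by
        rw [Finset.mul_sum]
        refine Finset.sum_congr rfl fun lm _ => ?_
        rw [← mul_assoc, ← mul_assoc, ← (huv lm.1 lm.1.2).1.2.1, ← mul_assoc e,
          (hs.mul_mem_eq lm.1.2).1])⟩
      left_inv := fun x => by
        apply Subtype.ext
        show ∑ lm : s × s, u lm.1 * (v lm.1 * (x : R) * u lm.2) * v lm.2 = (x : R)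
        have h : ∀ lm : s × s, u lm.1 * (v lm.1 * (x : R) * u lm.2) * v lm.2 =
            (lm.1 : R) * x * lm.2 := by
          intro lm
          conv_rhs => rw [← (huv lm.1 lm.1.2).2.2.1, ← (huv lm.2 lm.2.2).2.2.1]
          simp only [mul_assoc]
        simp only [h, Fintype.sum_prod_type]
        simp only [← Finset.mul_sum, Finset.sum_coe_sort s fun i : R => i, hs.2.2]
        rw [Finset.sum_coe_sort s fun l => l * (x : R) * e]
        simp only [← Finset.sum_mul, hs.2.2]
        rw [(hmemE _).1 x.2, ← hc, (hmemE _).1 x.2]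
      right_inv := fun Y => by
        funext lm
        apply Subtype.ext
        show v lm.1 * (∑ pq : s × s, u pq.1 * Y pq * v pq.2) * u lm.2 = (Y lm : R)
        rw [Finset.mul_sum, Finset.sum_mul, Finset.sum_eq_single lm (fun pq _ hne => ?_) (by simp)]
        · calc v lm.1 * (u lm.1 * Y lm * v lm.2) * u lm.2
              = v lm.1 * u lm.1 * Y lm * (v lm.2 * u lm.2) := by simp only [mul_assoc]
            _ = _ := by
              rw [(huv _ lm.1.2).2.2.2, (huv _ lm.2.2).2.2.2, (Y lm).2.2.1, (Y lm).2.2.2]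
        · have hz : ∀ p q : s, p ≠ q → v p * u q = 0 := by
            intro p q hpq
            rw [← (huv p p.2).2.1.2.2, ← (huv q q.2).1.2.1, mul_assoc, ← mul_assoc (p : R),
              hs.2.1 p p.2 q q.2 (fun h => hpq (Subtype.ext h))]
            simp
          calc v lm.1 * (u pq.1 * Y pq * v pq.2) * u lm.2
              = v lm.1 * u pq.1 * Y pq * (v pq.2 * u lm.2) := by simp only [mul_assoc]
            _ = 0 := by
              rcases not_and_or.1 (fun h : pq.1 = lm.1 ∧ pq.2 = lm.2 => hne (Prod.ext h.1 h.2))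
                with h | h
              · rw [hz _ _ (Ne.symm h)]; simp
              · rw [hz _ _ h]; simp }
  refine ⟨s.card, ?_⟩
  rw [Φ.finrank_eq, Module.finrank_pi_fintype, Finset.sum_const, Finset.card_univ, smul_eq_mul,
    hA2, Fintype.card_prod, Fintype.card_coe]
  ring

end CfsgLib.BlocksLocal
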