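import Cfsg.Agent.BlocksLocal.CentralisingDefect
import Cfsg.Agent.BlocksLocal.NormalClasses
import Cfsg.Agent.BlocksLocal.LocalConjugacy
import Cfsg.Agent.GaloisAverage.Ito
import Cfsg.Agent.PrincipalBlock.Nilpotent
import Cfsg.Agent.S0971
import Cfsg.Agent.PLocal.Cores

/-!
# Reynolds: a normal defect group is abelian iff all heights are zero

In `P C(P)` every member of the block is, on a section, the product of its values on `P` and on
the p-regular elements; so height zero forces the restriction to `P` to be linear, and the count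
`k(B) = k(P)` forces `P` abelian. The general group reduces to `P C(P)` because the inertia group
of a character in the covered block has index prime to `p` over `P C(P)`.
-/

set_option autoImplicit false
set_option linter.style.haveILetI false
set_option linter.unusedSectionVars false

namespace CfsgLib.BlocksLocal

open Cfsg CfsgLib.Blocks
open scoped ComplexConjugate

universe u

variable {G : Type u} [Group G] [Fintype G] {M : Ideal AlgInt} [M.IsPrime] {p : ℕ} [Fact p.Prime]
  {P : Subgroup G}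

section Setup

variable [P.Normal] (hP : IsPGroup p P) (hG : P ⊔ Subgroup.centralizer (P : Set G) = ⊤)
include hP hG

theorem exists_mul_centralizer (g : G) :
    ∃ u ∈ P, ∃ c ∈ Subgroup.centralizer (P : Set G), u * c = g := by
  have hg : g ∈ P ⊔ Subgroup.centralizer (P : Set G) := by rw [hG]; trivial
  exact Subgroup.mem_sup_of_normal_left.1 hg

open Classical in
/-- A function vanishing outside the sections of `P` sums over the sections. -/
theorem sum_eq_sum_sections (S : G → ℂ)
    (hzero : ∀ g x : G, Cfsg.IsPPart p g x → x ∉ P → S g = 0) [Fintype P] :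
    ∑ g : G, S g = ∑ x : P, ∑ y : {y : G // ¬ p ∣ orderOf y}, S ((x : G) * y.1) := by
  have hpp : p.Prime := Fact.out
  choose pp hpp' using fun g : G => exists_isPPart hpp g
  rw [← Fintype.sum_prod_type'
    (f := fun (x : P) (y : {y : G // ¬ p ∣ orderOf y}) => S ((x : G) * y.1))]
  refine (Finset.sum_bij_ne_zero (s := (Finset.univ : Finset (P × {y : G // ¬ p ∣ orderOf y})))
    (t := (Finset.univ : Finset G))
    (fun q _ _ => (q.1 : G) * q.2.1) (fun q _ _ => Finset.mem_univ _) ?_ ?_ (fun q _ _ => rfl)).symm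
  · intro q _ _ r _ _ he
    have hq := isPPart_of_mul (commute_of_mem hP hG q.2.2 q.1.2) (by
      obtain ⟨k, hk⟩ := IsPGroup.iff_orderOf.1 hP q.1
      exact ⟨k, by rwa [← Subgroup.orderOf_coe] at hk⟩) q.2.2
    have hr := isPPart_of_mul (commute_of_mem hP hG r.2.2 r.1.2) (by
      obtain ⟨k, hk⟩ := IsPGroup.iff_orderOf.1 hP r.1
      exact ⟨k, by rwa [← Subgroup.orderOf_coe] at hk⟩) r.2.2
    rw [← he] at hr
    have h1 : (q.1 : G) = r.1 := isPPart_unique hpp hq hr
    rw [← h1] at he
    exact Prod.ext (Subtype.ext h1) (Subtype.ext (mul_left_cancel he))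
  · intro g _ hg
    have hx : pp g ∈ P := by
      by_contra h
      exact hg (hzero g _ (hpp' g) h)
    obtain ⟨w, hw, -, -, hwreg⟩ := hpp' g
    refine ⟨(⟨pp g, hx⟩, ⟨w, hwreg⟩), Finset.mem_univ _, ?_, hw⟩
    rwa [show ((⟨pp g, hx⟩ : P) : G) * w = g from hw]

variable {B : Set (IrrCharacter G)} (hM : Cfsg.IsPModular p M) (hB : Cfsg.IsPBlock M B)
  (hD : Cfsg.IsDefectGroup p M B P)
include hM hB hD

open Classical in
/-- A member is the product of its values on `P` and those of the member trivial on `P`. -/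
theorem char_mul_regular {ψ : IrrCharacter G} (hψ : ψ ∈ B)
    (hker : ∀ x ∈ P, (ψ : G → ℂ) x = (ψ : G → ℂ) 1) {θ : IrrCharacter G} (hθ : θ ∈ B)
    {x : G} (hx : x ∈ P) {y : G} (hy : ¬ p ∣ orderOf y) :
    (θ : G → ℂ) (x * y) * (ψ : G → ℂ) 1 = (θ : G → ℂ) x * (ψ : G → ℂ) y := by
  set Φ : G → ℂ := fun h => (Nat.card G : ℂ)⁻¹ * ∑ c : G, (θ : G → ℂ) (x * (c * h * c⁻¹))
    with hΦ
  have hcl : Cfsg.IsClassFunction G Φ := by
    intro h d
    show _ * _ = _ * _
    congr 1
    refine Fintype.sum_equiv (Equiv.mulRight d) _ _ fun c => ?_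
    simp only [Equiv.coe_mulRight]
    congr 2
    group
  have hin : ∀ h ∈ Subgroup.centralizer (P : Set G), Φ h = (θ : G → ℂ) (x * h) := by
    intro h hh
    have hval : ∀ c : G, (θ : G → ℂ) (x * (c * h * c⁻¹)) = (θ : G → ℂ) (x * h) := by
      intro c
      obtain ⟨u, hu, d, hd, rfl⟩ := exists_mul_centralizer hP hG c
      have h1 : d * h * d⁻¹ ∈ Subgroup.centralizer (P : Set G) :=
        mul_mem (mul_mem hd hh) (inv_mem hd)
      have h2 : u * (d * h * d⁻¹) = d * h * d⁻¹ * u := Subgroup.mem_centralizer_iff.1 h1 u hu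
      have h3 : x * d = d * x := Subgroup.mem_centralizer_iff.1 hd x hx
      calc (θ : G → ℂ) (x * (u * d * h * (u * d)⁻¹))
          = (θ : G → ℂ) (x * (u * (d * h * d⁻¹) * u⁻¹)) := by congr 1; group
        _ = (θ : G → ℂ) (x * d * h * d⁻¹) := by rw [h2]; congr 1; group
        _ = (θ : G → ℂ) (d * (x * h) * d⁻¹) := by rw [h3]; congr 1; group
        _ = (θ : G → ℂ) (x * h) := Characters.isClassFunction_of_isIrr θ.2 _ _
    rw [hΦ]
    simp only [hval, Finset.sum_const, Finset.card_univ, nsmul_eq_mul]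
    rw [← Nat.card_eq_fintype_card, ← mul_assoc, inv_mul_cancel₀ Characters.natCard_ne_zero,
      one_mul]
  have hone : ∀ z : G, Cfsg.blockPart B (θ : G → ℂ) z = (θ : G → ℂ) z := by
    intro z
    rw [Cfsg.blockPart, finsum_irr_mem,
      show (Fintype.ofFinite G) = ‹Fintype G› from Subsingleton.elim _ _, Finset.sum_eq_single θ]
    · simp [hθ, Characters.classInner_isIrr_self θ.2]
    · intro η _ hne
      simp [Characters.classInner_isIrr_ne θ.2 η.2 fun h => hne (Subtype.ext h).symm]
    · simp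
  choose a ha using fun (η : IrrCharacter G) (hη : η ∈ B) =>
    exists_eq_smul_on_regular hP hG hM hB hD hψ hker hη
  set K : ℂ := ∑ η : IrrCharacter G,
    if h : η ∈ B then Cfsg.classInner Φ (η : G → ℂ) * a η h else 0 with hK
  have hval : ∀ z : G, ¬ p ∣ orderOf z → (θ : G → ℂ) (x * z) = K * (ψ : G → ℂ) z := by
    intro z hz
    rw [← hone (x * z), blockPart_eq_sum B (Characters.isClassFunction_of_isIrr θ.2)]
    have h1 : ∑ k : G, Cfsg.blockCoeff B k * (θ : G → ℂ) (k * (x * z)) =
        Cfsg.blockPart B Φ z := by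
      rw [blockPart_eq_sum B hcl]
      refine Finset.sum_congr rfl fun k _ => ?_
      by_cases hk : ¬ p ∣ orderOf k
      · have hkC := regular_mem_centralizer hP hG hk
        rw [hin _ (mul_mem hkC (regular_mem_centralizer hP hG hz)), ← mul_assoc, ← mul_assoc,
          ← Subgroup.mem_centralizer_iff.1 hkC x hx]
      · rw [Blocks.blockCoeff_eq_zero_of_singular hM (isBlockUnion_of_isPBlock hB)
          (not_not.1 hk), zero_mul, zero_mul]
    rw [h1, Cfsg.blockPart, finsum_irr_mem,
      show (Fintype.ofFinite G) = ‹Fintype G› from Subsingleton.elim _ _, hK, Finset.sum_mul]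
    refine Finset.sum_congr rfl fun η _ => ?_
    by_cases hη : η ∈ B
    · rw [if_pos hη, dif_pos hη, ha η hη z hz, mul_assoc]
    · rw [if_neg hη, dif_neg hη, zero_mul]
  have h2 := hval 1 (by rw [orderOf_one]; exact (Fact.out : p.Prime).not_dvd_one)
  rw [mul_one] at h2
  rw [hval y hy, h2]
  ring

open Classical in
/-- The norm of the restriction to `P` is the square of the degree of the member trivial on `P`,
and that member carries `1 / |P|` on the p-regular elements. -/
theorem norm_restrict [Fintype P] {ψ : IrrCharacter G} (hψ : ψ ∈ B)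
    (hker : ∀ x ∈ P, (ψ : G → ℂ) x = (ψ : G → ℂ) 1) {θ : IrrCharacter G} (hθ : θ ∈ B) :
    Cfsg.classInner (fun u : P => (θ : G → ℂ) u) (fun u : P => (θ : G → ℂ) u) =
        (ψ : G → ℂ) 1 * conj ((ψ : G → ℂ) 1) ∧
      Cfsg.classInner (regPart p (ψ : G → ℂ)) (ψ : G → ℂ) = (Nat.card P : ℂ)⁻¹ := by
  set R : ℂ := ∑ y : {y : G // ¬ p ∣ orderOf y}, (ψ : G → ℂ) y.1 * conj ((ψ : G → ℂ) y.1) with hR
  have key : ∀ η : IrrCharacter G, η ∈ B → (Nat.card G : ℂ) *
      ((ψ : G → ℂ) 1 * conj ((ψ : G → ℂ) 1)) =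
      (∑ x : P, (η : G → ℂ) x * conj ((η : G → ℂ) x)) * R := by
    intro η hη
    have h := Characters.classInner_isIrr_self η.2
    rw [Cfsg.classInner, inv_mul_eq_iff_eq_mul₀ Characters.natCard_ne_zero, mul_one] at h
    rw [← h, sum_eq_sum_sections hP hG _ fun g x hgx hx => ?_, Finset.sum_mul, Finset.sum_mul]
    · refine Finset.sum_congr rfl fun x _ => ?_
      rw [hR, Finset.mul_sum, Finset.sum_mul]
      refine Finset.sum_congr rfl fun y _ => ?_
      have h1 := char_mul_regular hP hG hM hB hD hψ hker hη x.2 y.2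
      calc (η : G → ℂ) ((x : G) * y.1) * conj ((η : G → ℂ) ((x : G) * y.1)) *
            ((ψ : G → ℂ) 1 * conj ((ψ : G → ℂ) 1))
          = ((η : G → ℂ) ((x : G) * y.1) * (ψ : G → ℂ) 1) *
              conj ((η : G → ℂ) ((x : G) * y.1) * (ψ : G → ℂ) 1) := by rw [map_mul]; ring
        _ = _ := by rw [h1, map_mul]; ring
    · rw [char_eq_zero_of_not_mem_defectGroup hM η hgx fun E hE hmem => hx ?_]
      · simp
      · rw [← eq_blockOf_of_mem hB hη] at hE
        obtain ⟨c, rfl⟩ := IsDefectGroup.exists_conj hM hB hD hE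
        rwa [BlockPairs.cj_eq_self (by rw [Subgroup.normalizer_eq_top]; trivial)] at hmem
  have hψ0 : (ψ : G → ℂ) 1 * conj ((ψ : G → ℂ) 1) ≠ 0 :=
    mul_ne_zero (Characters.irr_one_ne_zero ψ.2)
      (by simpa using Characters.irr_one_ne_zero ψ.2)
  have hcP : (Nat.card P : ℂ) ≠ 0 := Characters.natCard_ne_zero
  have hRval : (Nat.card P : ℂ) * R = Nat.card G := by
    have h := key ψ hψ
    rw [Finset.sum_congr rfl (g := fun _ : P => (ψ : G → ℂ) 1 * conj ((ψ : G → ℂ) 1))
      (fun x _ => by rw [hker x x.2]), Finset.sum_const, Finset.card_univ, nsmul_eq_mul,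
      ← Nat.card_eq_fintype_card] at h
    refine mul_right_cancel₀ hψ0 ?_
    rw [h]; ring
  have hR0 : R ≠ 0 := by
    intro h
    rw [h, mul_zero] at hRval
    exact Characters.natCard_ne_zero (G := G) hRval.symm
  refine ⟨?_, ?_⟩
  · rw [Cfsg.classInner, inv_mul_eq_iff_eq_mul₀ hcP]
    refine mul_right_cancel₀ hR0 ?_
    rw [← key θ hθ, ← hRval]
    ring
  · have he : Cfsg.classInner (regPart p (ψ : G → ℂ)) (ψ : G → ℂ) = (Nat.card G : ℂ)⁻¹ * R := by
      rw [hR, Cfsg.classInner,
        ← Finset.sum_subtype (Finset.univ.filter fun y : G => ¬ p ∣ orderOf y) (by simp)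
          (fun y => (ψ : G → ℂ) y * conj ((ψ : G → ℂ) y)), Finset.sum_filter]
      congr 1
      exact Finset.sum_congr rfl fun y _ => by simp only [regPart]; split_ifs <;> simp
    rw [he, ← hRval, mul_inv, mul_assoc, inv_mul_cancel₀ hR0, mul_one]

open Classical in
/-- If all members have height zero, the defect group is commutative. -/
theorem commutative_of_height_zero
    (h0 : ∀ θ ∈ B, Cfsg.blockHeight p B (θ : G → ℂ) = 0) :
    ∀ a ∈ P, ∀ c ∈ P, a * c = c * a := by
  haveI := Fintype.ofFinite P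
  obtain ⟨ψ, ⟨hψ, hker⟩, -⟩ := existsUnique_kerContains hP hG hM hB hD
  have hdeg : ∀ θ ∈ B, (θ : G → ℂ) 1 = (ψ : G → ℂ) 1 := by
    intro θ hθ
    obtain ⟨ζ, hζ⟩ := exists_constituent P θ
    have hinv : ∀ g : G, conjIrr P ζ g = ζ := by
      intro g
      refine Subtype.ext (funext fun n => ?_)
      obtain ⟨u, hu, c, hc, rfl⟩ := exists_mul_centralizer hP hG g
      show (ζ : P → ℂ) (MulAut.conjNormal (u * c) n) = _
      have hn : MulAut.conjNormal (u * c) n = ⟨u, hu⟩ * n * ⟨u, hu⟩⁻¹ := Subtype.ext (by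
        have := Subgroup.mem_centralizer_iff.1 hc n n.2
        rw [MulAut.conjNormal_apply]
        calc u * c * (n : G) * (u * c)⁻¹ = u * (c * n) * c⁻¹ * u⁻¹ := by group
          _ = u * (n : G) * u⁻¹ := by rw [← this]; group)
      rw [hn, Characters.isClassFunction_of_isIrr ζ.2]
    obtain ⟨e, -, hres, hinner⟩ :=
      CharactersDeep.Clifford.restrict_eq_smul P θ.2 ζ.2 (fun g => congrArg Subtype.val (hinv g)) hζ
    have hn := (norm_restrict hP hG hM hB hD hψ hker hθ).1
    rw [hres, Characters.classInner_smul_left, Characters.classInner_smul_right,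
      Characters.classInner_isIrr_self ζ.2, mul_one, ← charDegree_cast ψ] at hn
    simp only [map_natCast] at hn
    have he : e = Cfsg.charDegree (ψ : G → ℂ) := by
      have hn' : e * e = Cfsg.charDegree (ψ : G → ℂ) * Cfsg.charDegree (ψ : G → ℂ) := by
        exact_mod_cast hn
      exact Nat.mul_self_inj.1 hn'
    have hval := congrFun hres 1
    simp only [Pi.smul_apply, smul_eq_mul, Subgroup.coe_one] at hval
    rw [← charDegree_cast θ, ← charDegree_cast ζ, ← Nat.cast_mul, Nat.cast_inj] at hval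
    obtain ⟨n, hn'⟩ := IsPGroup.iff_card.1 hP
    obtain ⟨k, -, hk⟩ := (Nat.dvd_prime_pow (Fact.out : p.Prime)).1
      (hn' ▸ charDegree_dvd_card ζ)
    have hh := blockHeight_eq hM hB hD hθ
    have hψd := factorization_degree_of_kerContains hP hG hM hB hD hψ hker
    rw [h0 θ hθ, hval, he, hk, Nat.factorization_mul (charDegree_ne_zero ψ)
      (pow_ne_zero _ (Fact.out : p.Prime).ne_zero), Finsupp.add_apply, hψd,
      Nat.Prime.factorization_pow (Fact.out : p.Prime), Finsupp.single_eq_same,
      ← Subgroup.card_mul_index P, Nat.factorization_mul Nat.card_pos.ne'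
      Subgroup.index_ne_zero_of_finite, Finsupp.add_apply] at hh
    obtain rfl : k = 0 := by omega
    rw [← charDegree_cast θ, ← charDegree_cast ψ, hval, he, hk, pow_zero, mul_one]
  have hs : ∀ θ ∈ B, Cfsg.classInner (regPart p (θ : G → ℂ)) (θ : G → ℂ) =
      (Nat.card P : ℂ)⁻¹ := by
    intro θ hθ
    rw [← (norm_restrict hP hG hM hB hD hψ hker hψ).2, Cfsg.classInner, Cfsg.classInner]
    congr 1
    refine Finset.sum_congr rfl fun y _ => ?_
    by_cases hy : p ∣ orderOf y
    · simp [regPart, hy]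
    · have h := char_mul_regular hP hG hM hB hD hψ hker hθ (one_mem P) hy
      rw [one_mul, hdeg θ hθ, mul_comm] at h
      rw [regPart, if_neg hy, regPart, if_neg hy,
        mul_left_cancel₀ (Characters.irr_one_ne_zero ψ.2) h]
  have hsum := sum_classInner_regPart_eq_one hP hG hM hB hD
  rw [← Finset.sum_filter, Finset.sum_congr rfl fun θ hθ => hs θ (Finset.mem_filter.1 hθ).2,
    Finset.sum_const, nsmul_eq_mul, ← div_eq_mul_inv,
    div_eq_one_iff_eq Characters.natCard_ne_zero, Nat.cast_inj, ← Fintype.card_subtype,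
    ← Nat.card_eq_fintype_card] at hsum
  have hk : Nat.card (ConjClasses P) = Nat.card P :=
    (card_block_eq hP hG hM hB hD).symm.trans hsum
  have hinj : Function.Injective (ConjClasses.mk : P → ConjClasses P) :=
    ((Nat.bijective_iff_surjective_and_card _).2 ⟨ConjClasses.mk_surjective, hk.symm⟩).1
  intro a ha c hc
  have := hinj (ConjClasses.mk_eq_mk_iff_isConj.2
    (isConj_iff.2 ⟨(⟨c, hc⟩ : P), rfl⟩ : IsConj (⟨a, ha⟩ : P) (⟨c, hc⟩ * ⟨a, ha⟩ * ⟨c, hc⟩⁻¹)))
  have h2 : a = c * a * c⁻¹ := congrArg Subtype.val this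
  calc a * c = c * a * c⁻¹ * c := by rw [← h2]
    _ = c * a := inv_mul_cancel_right _ _

end Setup

section Reduction

variable [P.Normal] [Fintype ↥(P ⊔ Subgroup.centralizer (P : Set G))]

local notation "LL" => P ⊔ Subgroup.centralizer (P : Set G)

open Classical in
/-- A p-element fixing a character of a block of `P C(P)` that induces a block with defect group
`P` lies in `P C(P)`. -/
theorem mem_of_fixes (hM : Cfsg.IsPModular p M) {B : Set (IrrCharacter G)}
    (hB : Cfsg.IsPBlock M B) (hD : Cfsg.IsDefectGroup p M B P)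
    {χ : IrrCharacter G} (hχ : χ ∈ B) {θ : IrrCharacter ↥LL}
    (hcov : Cfsg.classInner (fun n : ↥LL => (χ : G → ℂ) n) (θ : ↥LL → ℂ) ≠ 0)
    {u : G} (hu : ∃ k, orderOf u = p ^ k)
    (hfix : Cfsg.SameBlock M (θ : ↥LL → ℂ) (conjIrr LL θ u : ↥LL → ℂ)) : u ∈ LL := by
  haveI := charP_res hM
  by_contra huL
  obtain ⟨g, hg, hS⟩ := isDefectGroup_iff.1 hD
  have hgC : g ∈ Subgroup.centralizer (P : Set G) :=
    Subgroup.mem_centralizer_iff.2 fun x hx =>
      Subgroup.mem_centralizer_singleton_iff.1 (hS.1 hx)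
  have hgL : g ∈ LL := Subgroup.mem_sup_right hgC
  have hω := ((isDefectClass_iff hB hχ g).1 hg).2
  rw [omegaBar_classSum_eq_of_covers LL hcov ⟨g, hgL⟩, omegaBar_resCtr_classSum_eq_sum] at hω
  refine hω ?_
  haveI := Fintype.ofFinite (ConjClasses ↥LL)
  rw [← Finset.sum_coe_sort]
  let S : Finset (ConjClasses ↥LL) := classesOver LL g
  letI act : MulAction (Subgroup.zpowers u) {C // C ∈ classesOver LL g} :=
    { smul := fun x C => ⟨ConjClasses.map (MulAut.conjNormal (H := LL) (x : G)).toMonoidHom C.1,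
        map_conjNormal_mem_classesOver LL C.2 _⟩
      one_smul := fun C => Subtype.ext (by
        obtain ⟨n, hn⟩ := ConjClasses.mk_surjective C.1
        show ConjClasses.map _ C.1 = C.1
        rw [← hn]
        exact congrArg ConjClasses.mk (by simp))
      mul_smul := fun x y C => Subtype.ext (by
        obtain ⟨n, hn⟩ := ConjClasses.mk_surjective C.1
        show ConjClasses.map _ C.1 = ConjClasses.map _ (ConjClasses.map _ C.1)
        rw [← hn]
        exact congrArg ConjClasses.mk (by simp)) }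
  have hfixall : ∀ x : Subgroup.zpowers u,
      omegaBar M (conjIrr LL θ (x : G)) = omegaBar M θ := by
    let T : Subgroup G :=
      { carrier := {x | Cfsg.SameBlock M (θ : ↥LL → ℂ) (conjIrr LL θ x : ↥LL → ℂ)}
        one_mem' := by
          show Cfsg.SameBlock M (θ : ↥LL → ℂ) (conjIrr LL θ 1 : ↥LL → ℂ)
          rw [conjIrr_one]; exact sameBlock_refl θ
        mul_mem' := fun {a c}
            (ha : Cfsg.SameBlock M (θ : ↥LL → ℂ) (conjIrr LL θ a : ↥LL → ℂ))
            (hc : Cfsg.SameBlock M (θ : ↥LL → ℂ) (conjIrr LL θ c : ↥LL → ℂ)) => by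
          show Cfsg.SameBlock M (θ : ↥LL → ℂ) (conjIrr LL θ (a * c) : ↥LL → ℂ)
          rw [← conjIrr_mul]
          exact sameBlock_trans hc (sameBlock_conjIrr LL ha c)
        inv_mem' := fun {a}
            (ha : Cfsg.SameBlock M (θ : ↥LL → ℂ) (conjIrr LL θ a : ↥LL → ℂ)) => by
          show Cfsg.SameBlock M (θ : ↥LL → ℂ) (conjIrr LL θ a⁻¹ : ↥LL → ℂ)
          have h := sameBlock_conjIrr LL ha a⁻¹
          rw [conjIrr_mul, mul_inv_cancel, conjIrr_one] at h
          exact sameBlock_symm h }
    exact fun x => ((sameBlock_iff θ _).1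
      ((Subgroup.zpowers_le.2 (show u ∈ T from hfix)) x.2)).symm
  obtain ⟨k, hk⟩ := hu
  refine PrincipalBlock.sum_eq_zero_of_no_fixed (p := p) (A := Subgroup.zpowers u)
    (IsPGroup.of_card (n := k) (by rw [Nat.card_zpowers, hk])) _ (fun x C _ => ?_) fun C _ => ?_
  · obtain ⟨n, hn⟩ := ConjClasses.mk_surjective C.1
    show omegaBar M θ (classSum _ (ConjClasses.map _ C.1)) = omegaBar M θ (classSum _ C.1)
    rw [← hn]
    show omegaBar M θ (classSum _ (ConjClasses.mk (MulAut.conjNormal (H := LL) (x : G) n))) = _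
    rw [omegaBar_classSum_conjNormal, hfixall]
  · refine ⟨⟨u, Subgroup.mem_zpowers u⟩, fun hc => huL ?_⟩
    obtain ⟨n, hn⟩ := ConjClasses.mk_surjective C.1
    have hc1 : ConjClasses.map (MulAut.conjNormal (H := LL) u).toMonoidHom C.1 = C.1 :=
      congrArg Subtype.val hc
    rw [← hn] at hc1
    obtain ⟨l, hl⟩ := isConj_iff.1 (ConjClasses.mk_eq_mk_iff_isConj.1
      (show ConjClasses.mk (MulAut.conjNormal (H := LL) u n) = ConjClasses.mk n from hc1))
    have hl' : (l : G) * (u * n * u⁻¹) * (l : G)⁻¹ = n := congrArg Subtype.val hl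
    set K := Subgroup.centralizer ({(n : G)} : Set G) with hKdef
    have hz : (l : G) * u ∈ K := Subgroup.mem_centralizer_singleton_iff.2 (by
      conv_rhs => rw [← hl']
      group)
    -- `P` is Sylow in the centralizer of `n`
    obtain ⟨x, hx⟩ := isConj_iff.1 ((mem_classesOver LL).1 (hn ▸ C.2)).symm
    have hSn : IsSylowIn p K P := by
      have := hS.conj x
      rwa [show P.map (MulAut.conj x).toMonoidHom = P from
        BlockPairs.cj_eq_self (by rw [Subgroup.normalizer_eq_top]; trivial),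
        ← centralizer_singleton_conj, hx] at this
    have hpow : ((l : G) * u) ^ (LL).relIndex K ∈ LL := by
      have h := Subgroup.pow_index_mem ((LL).subgroupOf K) ⟨(l : G) * u, hz⟩
      exact h
    have hcop : (p ^ k).Coprime ((LL).relIndex K) := by
      refine Nat.Coprime.pow_left _ ?_
      rw [(Fact.out : p.Prime).coprime_iff_not_dvd]
      exact fun hd => hSn.2.2 (hd.trans (Subgroup.relIndex_dvd_of_le_left K le_sup_left))
    rw [← QuotientGroup.eq_one_iff, ← orderOf_eq_one_iff]
    refine Nat.eq_one_of_dvd_coprimes hcop (hk ▸ orderOf_map_dvd (QuotientGroup.mk' LL) u) ?_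
    rw [orderOf_dvd_iff_pow_eq_one]
    have h1 : ((u : G) : G ⧸ LL) = (((l : G) * u : G) : G ⧸ LL) := by
      rw [QuotientGroup.mk_mul, (QuotientGroup.eq_one_iff (l : G)).2 l.2, one_mul]
    rw [h1, ← QuotientGroup.mk_pow, QuotientGroup.eq_one_iff]
    exact hpow

open Classical in
/-- Reynolds' theorem. -/
theorem reynolds (hM : Cfsg.IsPModular p M) {B : Set (IrrCharacter G)}
    (hB : Cfsg.IsPBlock M B) (hD : Cfsg.IsDefectGroup p M B P) :
    (∀ a ∈ P, ∀ c ∈ P, a * c = c * a) ↔
      ∀ χ ∈ B, Cfsg.blockHeight p B (χ : G → ℂ) = 0 := by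
  have hP := IsDefectGroup.isPGroup hD
  refine ⟨fun hA χ hχ => ?_, fun h0 => ?_⟩
  · obtain ⟨d, hd, hdvd⟩ := GaloisAverage.exists_degree_dvd_index χ.2 P hA
    rw [← charDegree_cast χ, Nat.cast_inj] at hd
    have h1 := blockHeight_eq hM hB hD hχ
    have h2 : d.factorization p ≤ P.index.factorization p :=
      (Nat.factorization_le_iff_dvd (hd ▸ charDegree_ne_zero χ)
        Subgroup.index_ne_zero_of_finite).2 hdvd p
    rw [hd, ← Subgroup.card_mul_index P, Nat.factorization_mul Nat.card_pos.ne'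
      Subgroup.index_ne_zero_of_finite, Finsupp.add_apply] at h1
    omega
  · have hLN : LL ≤ Subgroup.normalizer (P : Set G) := by
      rw [Subgroup.normalizer_eq_top]; exact le_top
    obtain ⟨b, hbD, hind⟩ := exists_sub_block hM hB hD le_sup_left le_sup_right hLN
    have hb := hind.1
    set P' := P.subgroupOf LL with hP'
    have hP'g : IsPGroup p P' := hP.comap_subtype
    have hL' : P' ⊔ Subgroup.centralizer (P' : Set ↥LL) = ⊤ := by
      refine eq_top_iff.2 fun l _ => ?_
      obtain ⟨u, hu, c, hc, huc⟩ := Subgroup.mem_sup_of_normal_left.1 l.2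
      rw [show l = (⟨u, Subgroup.mem_sup_left hu⟩ : ↥LL) * ⟨c, Subgroup.mem_sup_right hc⟩ from
        Subtype.ext huc.symm]
      refine Subgroup.mul_mem_sup (Subgroup.mem_subgroupOf.2 hu)
        (Subgroup.mem_centralizer_iff.2 fun v hv => Subtype.ext ?_)
      exact Subgroup.mem_centralizer_iff.1 hc (v : G) (Subgroup.mem_subgroupOf.1 hv)
    have hcardP : Nat.card P' = Nat.card P :=
      Nat.card_congr (Subgroup.subgroupOfEquivOfLe (le_sup_left : P ≤ LL)).toEquiv
    have hh : ∀ θ ∈ b, Cfsg.blockHeight p b (θ : ↥LL → ℂ) = 0 := by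
      intro θ hθ
      obtain ⟨φ, hφ, hcov⟩ := CharactersDeep.Clifford.exists_over (G := G) (N := LL) θ.2
      let χ : IrrCharacter G := ⟨φ, hφ⟩
      have hχ : χ ∈ B := by
        have h71 := (Cfsg.Agent.S0971.result p M hM P hP b hb).2 _ (isPBlock_blockOf χ)
          ⟨χ, mem_blockOf_self χ, θ, hθ, hcov⟩
        rw [isInducedBlock_unique hind h71]
        exact mem_blockOf_self χ
      let T : Subgroup G :=
        { carrier := {x | conjIrr LL θ x = θ}
          one_mem' := conjIrr_one LL θ
          mul_mem' := fun {a c} (ha : conjIrr LL θ a = θ) (hc : conjIrr LL θ c = θ) => by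
            show conjIrr LL θ (a * c) = θ
            rw [← conjIrr_mul, ha, hc]
          inv_mem' := fun {a} (ha : conjIrr LL θ a = θ) => by
            show conjIrr LL θ a⁻¹ = θ
            conv_lhs => rw [← ha, conjIrr_mul, mul_inv_cancel, conjIrr_one] }
      obtain ⟨S, hS, -⟩ := exists_isSylowIn_ge (p := p) (K := T) IsPGroup.of_bot bot_le
      have hSL : S ≤ LL := fun u hu => mem_of_fixes hM hB hD hχ hcov (by
        obtain ⟨k, hk⟩ := IsPGroup.iff_orderOf.1 hS.2.1 ⟨u, hu⟩
        exact ⟨k, by rwa [Subgroup.orderOf_mk] at hk⟩)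
        (by rw [show conjIrr LL θ u = θ from hS.1 hu]; exact sameBlock_refl θ)
      have hTL : ¬ p ∣ (LL).relIndex T := fun hd =>
        hS.2.2 (hd.trans (Subgroup.relIndex_dvd_of_le_left T hSL))
      have e1 := congrArg (fun m => m.factorization p)
        (PLocal.card_mul_relIndex (inf_le_right : LL ⊓ T ≤ T))
      rw [Subgroup.inf_relIndex_right] at e1
      simp only [Nat.factorization_mul Nat.card_pos.ne' (fun h : (LL).relIndex T = 0 =>
        hTL (h ▸ dvd_zero p)), Finsupp.add_apply, Nat.factorization_eq_zero_of_not_dvd hTL] at e1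
      have e2 : (Nat.card ↥(LL ⊓ T)).factorization p ≤ (Nat.card ↥LL).factorization p :=
        (Nat.factorization_le_iff_dvd Nat.card_pos.ne' Nat.card_pos.ne').2
          (Subgroup.card_dvd_of_le inf_le_left) p
      have horb := CharactersDeep.Clifford.card_orbit_mul LL (θ : ↥LL → ℂ) T fun x =>
        ⟨fun h => congrArg Subtype.val h, fun h => Subtype.ext h⟩
      have horb0 : (CharactersDeep.Clifford.orbit LL (θ : ↥LL → ℂ)).card ≠ 0 := fun h => by
        rw [h, zero_mul] at horb
        exact Nat.card_pos.ne' horb.symm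
      have e3 := congrArg (fun m => m.factorization p) horb
      simp only [Nat.factorization_mul horb0 Nat.card_pos.ne', Finsupp.add_apply] at e3
      obtain ⟨m, hm⟩ := Characters.classInner_character_irr
        (Characters.isCharacter_restrict LL (Characters.isCharacter_of_isIrr hφ)) θ.2
      have hval := congrFun (CharactersDeep.Clifford.restrict_eq_orbit_sum LL hφ θ.2 hcov) 1
      rw [Pi.smul_apply, Finset.sum_apply, Finset.sum_congr rfl
        (g := fun _ => (θ : ↥LL → ℂ) 1) (fun f hf => by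
          obtain ⟨x, rfl⟩ := (CharactersDeep.Clifford.mem_orbit LL).1 hf
          show (θ : ↥LL → ℂ) (MulAut.conjNormal x 1) = _
          rw [map_one]), Finset.sum_const, nsmul_eq_mul, smul_eq_mul, hm] at hval
      have hval' : Cfsg.charDegree (χ : G → ℂ) =
          m * ((CharactersDeep.Clifford.orbit LL (θ : ↥LL → ℂ)).card *
            Cfsg.charDegree (θ : ↥LL → ℂ)) := by
        have : ((Cfsg.charDegree (χ : G → ℂ) : ℕ) : ℂ) =
            ((m * ((CharactersDeep.Clifford.orbit LL (θ : ↥LL → ℂ)).card *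
              Cfsg.charDegree (θ : ↥LL → ℂ)) : ℕ) : ℂ) := by
          rw [charDegree_cast, Nat.cast_mul, Nat.cast_mul, charDegree_cast]
          exact hval
        exact_mod_cast this
      have hm0 : m ≠ 0 := fun h => hcov (by rw [hm, h, Nat.cast_zero])
      have e4 := congrArg (fun m => m.factorization p) hval'
      simp only [Nat.factorization_mul hm0 (mul_ne_zero horb0 (charDegree_ne_zero θ)),
        Nat.factorization_mul horb0 (charDegree_ne_zero θ), Finsupp.add_apply] at e4
      have e5 := blockHeight_eq hM hB hD hχ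
      have e6 := defect_add_degree_ge hM hb hbD hθ
      have e7 := blockHeight_eq hM hb hbD hθ
      rw [h0 χ hχ] at e5
      rw [hcardP] at e6 e7
      omega
    have hcomm := commutative_of_height_zero hP'g hL' hM hb hbD hh
    intro a ha c hc
    exact congrArg Subtype.val (hcomm ⟨a, Subgroup.mem_sup_left ha⟩ (Subgroup.mem_subgroupOf.2 ha)
      ⟨c, Subgroup.mem_sup_left hc⟩ (Subgroup.mem_subgroupOf.2 hc))

end Reduction

end CfsgLib.BlocksLocal
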