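import Cfsg.Agent.MinimalBlock.Basic
import Cfsg.Agent.Blocks.Sections
import Cfsg.Agent.Characters.Classes
import Cfsg.Agent.BlocksLocal.ProjTrace
import Cfsg.Agent.BlockPairs.ResField

/-!
# Class sums of a block over the residue field

The dimensions of a block algebra and of its space of traces over the residue field equal the sum
of the squared degrees and the number of characters.  The projectives form one class if the
p-regular rank is one.
-/

set_option autoImplicit false
set_option linter.unusedSectionVars false
set_option linter.style.haveILetI false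

namespace CfsgLib.BlocksLocal

open Cfsg CfsgLib.Blocks
open CfsgLib.BlockPairs (GA ga_ext)
open MonoidAlgebra (single)
open scoped ComplexConjugate

universe u

variable {G : Type u} [Group G] [Fintype G]

section Class

variable {F : Type*} [Field F]

open Classical in
/-- The sums of the coefficients over the conjugacy classes. -/
noncomputable def classTrace (F : Type*) [Field F] (G : Type*) [Group G] [Fintype G] :
    GA F G →ₗ[F] (ConjClasses G → F) where
  toFun x C := ∑ g : G, if ConjClasses.mk g = C then x.coeff g else 0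
  map_add' x y := by
    funext C
    simp only [Pi.add_apply, ← Finset.sum_add_distrib]
    exact Finset.sum_congr rfl fun g _ => by split_ifs <;> simp
  map_smul' c x := by
    funext C
    simp only [Pi.smul_apply, smul_eq_mul, RingHom.id_apply, Finset.mul_sum]
    exact Finset.sum_congr rfl fun g _ => by split_ifs <;> simp

open Classical in
theorem classTrace_single (g : G) (c : F) :
    classTrace F G (single g c) = Pi.single (ConjClasses.mk g) c := by
  funext C
  show (∑ x : G, if ConjClasses.mk x = C then (single g c).coeff x else 0) = _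
  rw [Finset.sum_eq_single g (fun x _ hx => by simp [Ne.symm hx]) (by simp), Pi.single_apply]
  by_cases h : ConjClasses.mk g = C
  · subst h; simp
  · rw [if_neg h, if_neg (Ne.symm h)]

theorem classTrace_comm (x y : GA F G) : classTrace F G (x * y) = classTrace F G (y * x) := by
  induction x using MonoidAlgebra.induction_linear with
  | zero => simp
  | add a b ha hb => rw [add_mul, mul_add, map_add, map_add, ha, hb]
  | single g c =>
    induction y using MonoidAlgebra.induction_linear with
    | zero => simp
    | add a b ha hb => rw [add_mul, mul_add, map_add, map_add, ha, hb]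
    | single h d =>
      classical
      rw [MonoidAlgebra.single_mul_single, MonoidAlgebra.single_mul_single, classTrace_single,
        classTrace_single, mul_comm d c]
      congr 1
      exact ConjClasses.mk_eq_mk_iff_isConj.2 (isConj_iff.2 ⟨g⁻¹, by group⟩)

theorem classTrace_surjective : Function.Surjective (classTrace F G) := by
  classical
  intro f
  refine ⟨∑ C : ConjClasses G, single C.out (f C), ?_⟩
  rw [map_sum]
  simp only [classTrace_single, show ∀ C : ConjClasses G, ConjClasses.mk C.out = C from
    fun C => Quotient.out_eq C]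
  exact Finset.univ_sum_single f

theorem ker_classTrace_le :
    LinearMap.ker (classTrace F G) ≤ Submodule.span F {z | ∃ x y : GA F G, z = x * y - y * x} := by
  classical
  intro x hx
  set C := Submodule.span F {z | ∃ x y : GA F G, z = x * y - y * x}
  have key : ∀ (g : G) (c : F),
      single g c - single (ConjClasses.mk g).out c ∈ C := by
    intro g c
    have h' : ConjClasses.mk (ConjClasses.mk g).out = ConjClasses.mk g := Quotient.out_eq _
    obtain ⟨h, hh⟩ := isConj_iff.1 (ConjClasses.mk_eq_mk_iff_isConj.1 h'.symm)
    refine Submodule.subset_span ⟨single (g * h⁻¹) c, single h 1, ?_⟩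
    rw [MonoidAlgebra.single_mul_single, MonoidAlgebra.single_mul_single, mul_one, one_mul,
      inv_mul_cancel_right, ← hh, mul_assoc h g h⁻¹]
  have h0 : ∑ g : G, single (ConjClasses.mk g).out (x.coeff g) = 0 := by
    rw [← Finset.sum_fiberwise Finset.univ ConjClasses.mk]
    refine Finset.sum_eq_zero fun D _ => ?_
    rw [Finset.sum_congr rfl fun g hg => by rw [(Finset.mem_filter.1 hg).2]]
    refine ga_ext fun y => ?_
    have hD : (∑ g : G, if ConjClasses.mk g = D then x.coeff g else 0) = 0 :=
      congrFun (LinearMap.mem_ker.1 hx) D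
    rw [← Finset.sum_filter] at hD
    by_cases hy : D.out = y
    · simp [MonoidAlgebra.coeff_sum, hy, hD]
    · simp [MonoidAlgebra.coeff_sum, hy]
  have hx' : x = ∑ g : G, (single g (x.coeff g) - single (ConjClasses.mk g).out (x.coeff g)) := by
    rw [Finset.sum_sub_distrib, h0, sub_zero]
    refine ga_ext fun y => ?_
    simp [MonoidAlgebra.coeff_sum]
  rw [hx']
  exact C.sum_mem fun g _ => key g _

theorem eq_zero_of_classTrace_eq_zero (φ : GA F G →ₗ[F] F)
    (hφ : ∀ x y, φ (x * y) = φ (y * x)) {z : GA F G} (hz : classTrace F G z = 0) : φ z = 0 := by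
  have h := ker_classTrace_le (LinearMap.mem_ker.2 hz)
  clear hz
  induction h using Submodule.span_induction with
  | mem z hz => obtain ⟨x, y, rfl⟩ := hz; rw [map_sub, hφ, sub_self]
  | zero => simp
  | add x y _ _ hx hy => rw [map_add, hx, hy, add_zero]
  | smul c x _ hx => rw [map_smul, hx, smul_zero]

theorem range_mulLeft_eq_span (e : GA F G) :
    LinearMap.range (LinearMap.mulLeft F e) =
      Submodule.span F (Set.range fun g : G => e * single g 1) := by
  refine le_antisymm ?_ (Submodule.span_le.2 ?_)
  · rintro _ ⟨x, rfl⟩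
    rw [LinearMap.mulLeft_apply]
    induction x using MonoidAlgebra.induction_linear with
    | zero => simp
    | add a b ha hb => rw [mul_add]; exact Submodule.add_mem _ ha hb
    | single g c =>
      rw [show single g c = c • single g (1 : F) by simp, mul_smul_comm]
      exact Submodule.smul_mem _ c (Submodule.subset_span ⟨g, rfl⟩)
  · rintro _ ⟨g, rfl⟩
    exact ⟨single g 1, rfl⟩

end Class

variable {M : Ideal AlgInt} [M.IsPrime]

/-- Reduction does not increase ranks. -/
theorem finrank_span_red_le {κ ι : Type*} [Fintype κ] [Finite ι] (V : κ → ι → localRing M)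
    (U : Submodule ℂ (κ → ℂ)) (hU : ∀ i, (fun j => (V j i : ℂ)) ∈ U) :
    Module.finrank (Res M) (Submodule.span (Res M) (Set.range fun i => fun j => red M (V j i))) ≤
      Module.finrank ℂ U := by
  classical
  obtain ⟨κ', a, ha, hsp, hli⟩ :=
    exists_linearIndependent' (Res M) fun i => fun j => red M (V j i)
  haveI : Finite κ' := Finite.of_injective a ha
  letI := Fintype.ofFinite κ'
  rw [← hsp, finrank_span_eq_card hli]
  have h := MinimalBlock.linearIndependent_lift (fun j i' => V j (a i')) hli
  have h' : LinearIndependent ℂ fun i' => (⟨_, hU (a i')⟩ : U) :=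
    LinearIndependent.of_comp U.subtype h
  exact h'.fintype_card_le_finrank

open Classical in
/-- The coefficient sum over a class of a translate of a block idempotent. -/
theorem sum_class_blockCoeff (A : Set (IrrCharacter G)) (g : G) (C : ConjClasses G) :
    (∑ x : G, if ConjClasses.mk x = C then Cfsg.blockCoeff A (x * g⁻¹) else 0) =
      ∑ χ : IrrCharacter G, if χ ∈ A then (χ : G → ℂ) g *
        ((Nat.card G : ℂ)⁻¹ * (χ : G → ℂ) 1 * conj (omega χ (classSum ℂ C))) else 0 := by
  have key : ∀ χ : IrrCharacter G,
      (∑ x : G, if ConjClasses.mk x = C then conj ((χ : G → ℂ) (x * g⁻¹)) else 0) =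
        conj (omega χ (classSum ℂ C)) * (χ : G → ℂ) g := by
    intro χ
    have h1 := evalFun_central_mul χ (classSum ℂ C) (single g⁻¹ 1)
    have h2 : evalFun (χ : G → ℂ) (single g⁻¹ (1 : ℂ)) = (χ : G → ℂ) g⁻¹ := by
      rw [evalFun, Finset.sum_eq_single g⁻¹ (fun b _ hb => by simp [hb.symm]) (by simp)]
      simp
    have h3 : evalFun (χ : G → ℂ) ((classSum ℂ C : MonoidAlgebra ℂ G) * single g⁻¹ 1) =
        ∑ x : G, if ConjClasses.mk x = C then (χ : G → ℂ) (x * g⁻¹) else 0 := by
      rw [evalFun]
      refine Fintype.sum_equiv (Equiv.mulRight g) _ _ fun x => ?_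
      rw [MonoidAlgebra.coeff_mul_single_apply, mul_one, inv_inv, coeff_classSum,
        Equiv.coe_mulRight, mul_inv_cancel_right]
      split_ifs <;> simp
    rw [h2, h3, Characters.character_inv (Characters.isCharacter_of_isIrr χ.2)] at h1
    have h4 := congrArg conj h1
    rw [map_sum, map_mul, Complex.conj_conj] at h4
    rw [← h4]
    exact Finset.sum_congr rfl fun x _ => by split_ifs <;> simp
  calc _ = ∑ x : G, ∑ χ : IrrCharacter G, if χ ∈ A then (Nat.card G : ℂ)⁻¹ * (χ : G → ℂ) 1 *
        (if ConjClasses.mk x = C then conj ((χ : G → ℂ) (x * g⁻¹)) else 0) else 0 := by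
        refine Finset.sum_congr rfl fun x _ => ?_
        rw [blockCoeff_eq_sum, Finset.mul_sum]
        split_ifs
        · exact Finset.sum_congr rfl fun χ _ => by split_ifs <;> ring
        · simp
    _ = _ := by
        rw [Finset.sum_comm]
        refine Finset.sum_congr rfl fun χ _ => ?_
        by_cases h : χ ∈ A
        · simp only [if_pos h, ← Finset.mul_sum, key]; ring
        · simp [h]

/-- The vector of a character among the class sums of the translates. -/
noncomputable def classVec (χ : IrrCharacter G) : ConjClasses G → ℂ := fun C =>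
  (Nat.card G : ℂ)⁻¹ * (χ : G → ℂ) 1 * conj (omega χ (classSum ℂ C))

/-- The span of traces of translates of a block idempotent, bounded over the complex numbers. -/
theorem finrank_span_classTrace_le {A : Set (IrrCharacter G)} (hA : IsBlockUnion M A)
    {ι : Type*} [Finite ι] (w : ι → G) (U : Submodule ℂ (ConjClasses G → ℂ))
    (hU : ∀ i, (∑ χ ∈ A.toFinite.toFinset, (χ : G → ℂ) (w i) • classVec χ) ∈ U) :
    Module.finrank (Res M) (Submodule.span (Res M) (Set.range fun i =>
      classTrace (Res M) G ((idemBar M A hA : GA (Res M) G) * single (w i) 1))) ≤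
      Module.finrank ℂ U := by
  classical
  let V : ConjClasses G → ι → localRing M := fun C i => ∑ x : G,
    if ConjClasses.mk x = C then ⟨Cfsg.blockCoeff A (x * (w i)⁻¹), memLocalRing_blockCoeff hA _⟩
    else 0
  have h1 : (fun i => classTrace (Res M) G ((idemBar M A hA : GA (Res M) G) * single (w i) 1)) =
      fun i => fun C => red M (V C i) := by
    funext i C
    show (∑ x : G, if ConjClasses.mk x = C then
      ((idemBar M A hA : GA (Res M) G) * single (w i) 1).coeff x else 0) = _
    rw [map_sum]
    refine Finset.sum_congr rfl fun x _ => ?_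
    rw [MonoidAlgebra.coeff_mul_single_apply, mul_one, coeff_idemBar]
    split_ifs <;> simp
  rw [h1]
  refine finrank_span_red_le V U fun i => ?_
  convert hU i using 1
  funext C
  show ((∑ x : G, if ConjClasses.mk x = C then
    (⟨Cfsg.blockCoeff A (x * (w i)⁻¹), memLocalRing_blockCoeff hA _⟩ : localRing M) else 0 :
      localRing M) : ℂ) = _
  rw [AddSubmonoidClass.coe_finsetSum]
  have h2 : ∀ x : G, (((if ConjClasses.mk x = C then
    (⟨Cfsg.blockCoeff A (x * (w i)⁻¹), memLocalRing_blockCoeff hA _⟩ : localRing M) else 0) :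
      localRing M) : ℂ) = if ConjClasses.mk x = C then Cfsg.blockCoeff A (x * (w i)⁻¹) else 0 := by
    intro x; split_ifs <;> rfl
  simp only [h2, sum_class_blockCoeff, Finset.sum_apply, Pi.smul_apply, smul_eq_mul, classVec]
  rw [← Finset.sum_filter]
  exact Finset.sum_congr (by ext; simp) fun _ _ => rfl

theorem finrank_map_classTrace_le {A : Set (IrrCharacter G)} (hA : IsBlockUnion M A) :
    Module.finrank (Res M) ((LinearMap.range (LinearMap.mulLeft (Res M)
      (idemBar M A hA : GA (Res M) G))).map (classTrace (Res M) G)) ≤ Nat.card A := by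
  classical
  rw [range_mulLeft_eq_span, Submodule.map_span, ← Set.range_comp]
  refine (finrank_span_classTrace_le hA id
    (Submodule.span ℂ (Set.range fun χ : A => classVec (χ : IrrCharacter G))) fun g => ?_).trans ?_
  · exact Submodule.sum_mem _ fun χ hχ => Submodule.smul_mem _ _
      (Submodule.subset_span ⟨⟨χ, (Set.Finite.mem_toFinset _).1 hχ⟩, rfl⟩)
  · rw [Nat.card_eq_fintype_card]
    exact finrank_range_le_card _

theorem range_mulLeft_sup_compl {A : Set (IrrCharacter G)} (hA : IsBlockUnion M A) :
    LinearMap.range (LinearMap.mulLeft (Res M) (idemBar M A hA : GA (Res M) G)) ⊔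
      LinearMap.range (LinearMap.mulLeft (Res M)
        (idemBar M Aᶜ (isBlockUnion_compl hA) : GA (Res M) G)) = ⊤ := by
  refine eq_top_iff.2 fun x _ => Submodule.mem_sup.2 ⟨_, ⟨x, rfl⟩, _, ⟨x, rfl⟩, ?_⟩
  simp only [LinearMap.mulLeft_apply, ← add_mul, ← Subring.coe_add, idemBar_add_compl hA,
    Subring.coe_one, one_mul]

/-- The traces of a union of blocks have as many dimensions as characters. -/
theorem finrank_map_classTrace {A : Set (IrrCharacter G)} (hA : IsBlockUnion M A) :
    Module.finrank (Res M) ((LinearMap.range (LinearMap.mulLeft (Res M)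
      (idemBar M A hA : GA (Res M) G))).map (classTrace (Res M) G)) = Nat.card A := by
  classical
  refine le_antisymm (finrank_map_classTrace_le hA) ?_
  have h1 := finrank_map_classTrace_le (isBlockUnion_compl hA)
  have h2 := Submodule.finrank_add_le_finrank_add_finrank
    ((LinearMap.range (LinearMap.mulLeft (Res M)
      (idemBar M A hA : GA (Res M) G))).map (classTrace (Res M) G))
    ((LinearMap.range (LinearMap.mulLeft (Res M)
      (idemBar M Aᶜ (isBlockUnion_compl hA) : GA (Res M) G))).map (classTrace (Res M) G))
  rw [← Submodule.map_sup, range_mulLeft_sup_compl hA, Submodule.map_top,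
    LinearMap.range_eq_top.2 classTrace_surjective, finrank_top,
    Module.finrank_fintype_fun_eq_card, ← Nat.card_eq_fintype_card,
    ← Characters.card_irrCharacter] at h2
  have h3 := Set.ncard_add_ncard_compl A
  rw [← Nat.card_coe_set_eq, ← Nat.card_coe_set_eq] at h3
  omega

open Classical in
theorem sum_sq_add_compl (A : Set (IrrCharacter G)) :
    (∑ᶠ χ ∈ A, Cfsg.charDegree (χ : G → ℂ) ^ 2) + (∑ᶠ χ ∈ Aᶜ, Cfsg.charDegree (χ : G → ℂ) ^ 2) =
      Nat.card G := by
  have h : setIdemC A + setIdemC Aᶜ = 1 := ctr_ext_omega fun ψ => by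
    rw [map_add, omega_setIdemC, omega_setIdemC, map_one]
    by_cases h : ψ ∈ A <;> simp [h]
  have h1 := congrArg (fun z : Ctr ℂ G => (z : MonoidAlgebra ℂ G).coeff 1) h
  simp only [Subring.coe_add, Subring.coe_one, MonoidAlgebra.coeff_add, Finsupp.add_apply,
    coeff_setIdemC, MonoidAlgebra.one_def, MonoidAlgebra.coeff_single, Finsupp.single_eq_same]
    at h1
  refine Nat.cast_injective (R := ℂ) ?_
  rw [Nat.cast_add, ← MinimalBlock.card_mul_blockCoeff_one, ← MinimalBlock.card_mul_blockCoeff_one,
    ← mul_add, h1, mul_one]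

/-- A block algebra has the sum of the squared degrees as dimension. -/
theorem finrank_blockAlgebra {A : Set (IrrCharacter G)} (hA : IsBlockUnion M A) :
    Module.finrank (Res M) (LinearMap.range (LinearMap.mulLeft (Res M)
      (idemBar M A hA : GA (Res M) G))) = ∑ᶠ χ ∈ A, Cfsg.charDegree (χ : G → ℂ) ^ 2 := by
  classical
  have key : ∀ {A : Set (IrrCharacter G)} (hA : IsBlockUnion M A),
      Module.finrank (Res M) (LinearMap.range (LinearMap.mulLeft (Res M)
        (idemBar M A hA : GA (Res M) G))) ≤ ∑ᶠ χ ∈ A, Cfsg.charDegree (χ : G → ℂ) ^ 2 := by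
    intro A hA
    rw [range_mulLeft_eq_span]
    obtain ⟨κ, a, ha, hsp, hli⟩ := exists_linearIndependent' (Res M)
      fun g : G => (idemBar M A hA : GA (Res M) G) * single g 1
    haveI : Finite κ := Finite.of_injective a ha
    letI := Fintype.ofFinite κ
    rw [← hsp, finrank_span_eq_card hli]
    exact MinimalBlock.card_le_sum_sq hA a hli
  refine le_antisymm (key hA) ?_
  have h1 := key (isBlockUnion_compl hA)
  have h2 := Submodule.finrank_add_le_finrank_add_finrank
    (LinearMap.range (LinearMap.mulLeft (Res M) (idemBar M A hA : GA (Res M) G)))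
    (LinearMap.range (LinearMap.mulLeft (Res M)
      (idemBar M Aᶜ (isBlockUnion_compl hA) : GA (Res M) G)))
  rw [range_mulLeft_sup_compl hA, finrank_top,
    Module.finrank_eq_card_basis (MonoidAlgebra.basis G (Res M)), ← Nat.card_eq_fintype_card] at h2
  have h3 := sum_sq_add_compl A
  omega

variable {p : ℕ} [hp : Fact p.Prime]

/-- If the regular parts of a union of blocks are proportional its primitive idempotents are all
equivalent. -/
theorem eqv_of_regular_proportional [CharP (Res M) p] [IsAlgClosed (Res M)]
    {A : Set (IrrCharacter G)} (hA : IsBlockUnion M A) (W : ConjClasses G → ℂ)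
    (hW : ∀ y : G, ¬ p ∣ orderOf y → (∑ χ ∈ A.toFinite.toFinset, (χ : G → ℂ) y • classVec χ) ∈
      Submodule.span ℂ {W})
    {s : Finset (GA (Res M) G)}
    (hs : Star.IsDecomp (⊤ : Subalgebra (Res M) (GA (Res M) G))
      (idemBar M A hA : GA (Res M) G) s) :
    ∀ b ∈ s, ∀ b' ∈ s, Star.Eqv (⊤ : Subalgebra (Res M) (GA (Res M) G)) b b' := by
  classical
  intro b hb b' hb'
  by_contra hne
  set e := (idemBar M A hA : GA (Res M) G)
  have hce : ∀ x, e * x = x * e := fun x => (Subring.mem_center_iff.1 (idemBar M A hA).2 x).symm
  obtain ⟨φ, hφc, hφn, hφb, hφo⟩ := exists_trace hce hs hb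
  obtain ⟨φ', hφc', hφn', hφb', hφo'⟩ := exists_trace hce hs hb'
  have hb1 : φ b' = 0 := hφo b' hb' hne
  have hb2 : φ' b = 0 := hφo' b hb fun h => hne h.symm
  let ι := {y : G // ¬ p ∣ orderOf y}
  set P := Submodule.span (Res M)
    (Set.range fun y : ι => classTrace (Res M) G (e * single (y : G) 1))
  have hP : Module.finrank (Res M) P ≤ 1 := by
    refine (finrank_span_classTrace_le hA (fun y : ι => (y : G)) (Submodule.span ℂ {W})
      fun y => hW y y.2).trans ?_
    exact (finrank_span_le_card {W}).trans (by simp)
  obtain ⟨⟨v, hv⟩, hvs⟩ := finrank_le_one_iff.1 hP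
  obtain ⟨w, hw⟩ : ∃ w, classTrace (Res M) G w = v := classTrace_surjective v
  have key : ∀ x, e * x = x → ∃ c : Res M, φ x = c * φ w ∧ φ' x = c * φ' w := by
    have hsing : ∀ g : G, ∃ c : Res M, φ (e * single g 1) = c * φ w ∧
        φ' (e * single g 1) = c * φ' w := by
      intro g
      obtain ⟨x, y, hxy, hcom, ⟨k, hk⟩, hy⟩ := exists_isPPart hp.out g
      obtain ⟨c, hc⟩ := hvs ⟨_, Submodule.subset_span ⟨⟨y, hy⟩, rfl⟩⟩
      have hc' : c • v = classTrace (Res M) G (e * single y 1) := congrArg Subtype.val hc
      have hz : classTrace (Res M) G (e * single y 1 - c • w) = 0 := by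
        rw [map_sub, map_smul, hw, hc', sub_self]
      haveI : CharP (GA (Res M) G) p := charP_of_injective_algebraMap
        (algebraMap (Res M) (GA (Res M) G)).injective p
      have hn : IsNilpotent (e * single g 1 - e * single y (1 : Res M)) := by
        have h1 : IsNilpotent (single x (1 : Res M) - 1) := by
          refine ⟨p ^ k, ?_⟩
          rw [sub_pow_char_pow_of_commute p k (Commute.one_right _), one_pow,
            MonoidAlgebra.single_pow, one_pow, ← hk, pow_orderOf_eq_one, MonoidAlgebra.one_def,
            sub_self]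
        have h2 : e * single g 1 - e * single y 1 =
            e * single y 1 * (single x (1 : Res M) - 1) := by
          rw [mul_sub, mul_one, mul_assoc, MonoidAlgebra.single_mul_single, mul_one, ← hcom.eq,
            hxy]
        rw [h2]
        refine Commute.isNilpotent_mul_left ?_ h1
        refine Commute.sub_right ?_ (Commute.one_right _)
        refine Commute.mul_left (hce _) ?_
        show single y (1 : Res M) * single x 1 = single x 1 * single y 1
        rw [MonoidAlgebra.single_mul_single, MonoidAlgebra.single_mul_single, hcom.eq]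
      refine ⟨c, ?_, ?_⟩
      · have h1 := eq_zero_of_classTrace_eq_zero φ hφc hz
        have h2 := hφn _ hn
        rw [map_sub, map_smul, smul_eq_mul] at h1
        rw [map_sub] at h2
        linear_combination h1 + h2
      · have h1 := eq_zero_of_classTrace_eq_zero φ' hφc' hz
        have h2 := hφn' _ hn
        rw [map_sub, map_smul, smul_eq_mul] at h1
        rw [map_sub] at h2
        linear_combination h1 + h2
    intro x hx
    have hmem : x ∈ Submodule.span (Res M) (Set.range fun g : G => e * single g 1) :=
      range_mulLeft_eq_span e ▸ ⟨x, hx⟩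
    clear hx
    induction hmem using Submodule.span_induction with
    | mem z hz => obtain ⟨g, rfl⟩ := hz; exact hsing g
    | zero => exact ⟨0, by simp, by simp⟩
    | add x y _ _ hx hy =>
      obtain ⟨c, h1, h2⟩ := hx
      obtain ⟨d, h3, h4⟩ := hy
      exact ⟨c + d, by rw [map_add, h1, h3]; ring, by rw [map_add, h2, h4]; ring⟩
    | smul a x _ hx =>
      obtain ⟨c, h1, h2⟩ := hx
      exact ⟨a * c, by rw [map_smul, h1, smul_eq_mul]; ring,
        by rw [map_smul, h2, smul_eq_mul]; ring⟩
  obtain ⟨c, hc1, hc2⟩ := key b (hs.mul_mem_eq hb).1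
  obtain ⟨d, hd1, hd2⟩ := key b' (hs.mul_mem_eq hb').1
  rw [hφb] at hc1
  rw [hb2] at hc2
  rw [hφb'] at hd2
  rw [hb1] at hd1
  have hd0 : d = 0 := by
    by_contra h
    rw [eq_comm, mul_eq_zero, or_iff_right h] at hd1
    rw [hd1, mul_zero] at hc1
    exact one_ne_zero hc1
  rw [hd0, zero_mul] at hd2
  exact one_ne_zero hd2

/-- A union of blocks with two characters and proportional regular parts has twice a square as sum
of squared degrees. -/
theorem exists_sum_sq_eq_two_mul_sq (hM : Cfsg.IsPModular p M) {A : Set (IrrCharacter G)}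
    (hA : IsBlockUnion M A) (hcard : Nat.card A = 2) (W : ConjClasses G → ℂ)
    (hW : ∀ y : G, ¬ p ∣ orderOf y → (∑ χ ∈ A.toFinite.toFinset, (χ : G → ℂ) y • classVec χ) ∈
      Submodule.span ℂ {W}) :
    ∃ n : ℕ, (∑ᶠ χ ∈ A, Cfsg.charDegree (χ : G → ℂ) ^ 2) = 2 * n ^ 2 := by
  haveI := charP_res hM
  haveI := BlockPairs.isAlgClosed_res hM
  haveI : Module.Finite (Res M) (GA (Res M) G) :=
    Module.Finite.of_basis (MonoidAlgebra.basis G (Res M))
  set e := (idemBar M A hA : GA (Res M) G)
  obtain ⟨s, hs⟩ := Star.exists_decomp (A := (⊤ : Subalgebra (Res M) (GA (Res M) G)))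
    (j := e) trivial (by rw [← Subring.coe_mul, idemBar_mul_self])
  obtain ⟨n, hn⟩ := exists_finrank_eq_two_mul_sq
    (fun x => (Subring.mem_center_iff.1 (idemBar M A hA).2 x).symm) hs
    (eqv_of_regular_proportional (p := p) hA W hW hs) (classTrace (Res M) G) classTrace_comm
    ker_classTrace_le (by rw [finrank_map_classTrace hA, hcard])
  exact ⟨n, by rw [← finrank_blockAlgebra hA, hn]⟩

end CfsgLib.BlocksLocal
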