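import Cfsg.Agent.BlocksLocal.ExtensionIdem
import Cfsg.Agent.ConstrainedBlock.Local
import Cfsg.Agent.OddOrderChar.CoprimeCoset
import Cfsg.Agent.Glauberman.Correspondence

/-!
# Idempotents supported on p-regular elements over an invariant character

For `N ≤ L` normal with `N` of order prime to `p` and `L/N` a `p`-group containing its centralizer,
a central idempotent lying over an invariant character of `N` and supported on p-regular elements
is supported on `N`.
-/

set_option autoImplicit false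
set_option linter.unusedSectionVars false
set_option linter.style.haveILetI false

namespace CfsgLib.BlocksLocal.Weighted

open Cfsg CfsgLib.Blocks CfsgLib.BlocksLocal.CoverAll
open MonoidAlgebra (single)
open scoped ComplexConjugate

universe u

variable {G : Type u} [Group G] [Fintype G] {p : ℕ} [Fact p.Prime]

/-- A central idempotent, self-adjoint and supported on p-regular elements. -/
structure Good (p : ℕ) (f : MonoidAlgebra ℂ G) : Prop where
  central : f ∈ Ctr ℂ G
  idem : f * f = f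
  herm : ∀ g, f.coeff g⁻¹ = conj (f.coeff g)
  reg : ∀ g, p ∣ orderOf g → f.coeff g = 0

theorem coeff_inc_of_mem (H : Subgroup G) (m : MonoidAlgebra ℂ H) (h : H) :
    (inc ℂ H m).coeff (h : G) = m.coeff h := by
  classical
  haveI := Fintype.ofFinite H
  rw [← mul_one (inc ℂ H m), coeff_inc_mul, Finset.sum_eq_single h]
  · simp [MonoidAlgebra.one_def]
  · intro b _ hb
    simp [MonoidAlgebra.one_def, inv_mul_eq_one, Subtype.val_inj, hb]
  · simp

theorem coeff_inc_of_notMem (H : Subgroup G) (m : MonoidAlgebra ℂ H) {g : G} (hg : g ∉ H) :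
    (inc ℂ H m).coeff g = 0 := by
  classical
  haveI := Fintype.ofFinite H
  rw [← mul_one (inc ℂ H m), coeff_inc_mul]
  refine Finset.sum_eq_zero fun b _ => ?_
  have : (b : G) ≠ g := fun e => hg (e ▸ b.2)
  simp [MonoidAlgebra.one_def, inv_mul_eq_one, this]

theorem inc_injective (H : Subgroup G) : Function.Injective (inc ℂ H) := fun a b hab =>
  MonoidAlgebra.ext (Finsupp.ext fun h => by
    rw [← coeff_inc_of_mem, ← coeff_inc_of_mem, hab])

theorem inc_inclusion {H K : Subgroup G} (hle : H ≤ K) (m : MonoidAlgebra ℂ H) :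
    inc ℂ K (MonoidAlgebra.mapDomainRingHom ℂ (Subgroup.inclusion hle) m) = inc ℂ H m := by
  induction m using MonoidAlgebra.induction_linear with
  | zero => simp
  | add u v hu hv => simp only [map_add, hu, hv]
  | single n r => simp [inc_single]

/-- An element fixed by the conjugation action of `g` commutes with `g`. -/
theorem single_mul_eq_mul_single {a : MonoidAlgebra ℂ G} {g : G}
    (h : ∀ x, a.coeff (g * x * g⁻¹) = a.coeff x) : single g 1 * a = a * single g 1 := by
  refine MonoidAlgebra.ext (Finsupp.ext fun x => ?_)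
  rw [MonoidAlgebra.coeff_single_mul_apply, MonoidAlgebra.coeff_mul_single_apply, one_mul, mul_one,
    ← h (g⁻¹ * x)]
  congr 1
  group

theorem inc_mem_ctr {H : Subgroup G} [hH : H.Normal] {m : MonoidAlgebra ℂ H}
    (h : ∀ (g : G) (x : H), m.coeff ⟨g * x * g⁻¹, hH.conj_mem x x.2 g⟩ = m.coeff x) :
    inc ℂ H m ∈ Ctr ℂ G := by
  refine mem_ctr_iff.2 fun x g => ?_
  by_cases hx : x ∈ H
  · obtain ⟨x, rfl⟩ : ∃ y : H, (y : G) = x := ⟨⟨x, hx⟩, rfl⟩
    rw [show g * (x : G) * g⁻¹ = ((⟨g * x * g⁻¹, hH.conj_mem x hx g⟩ : H) : G) from rfl,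
      coeff_inc_of_mem, coeff_inc_of_mem, ← h g x]
  · rw [coeff_inc_of_notMem _ _ hx, coeff_inc_of_notMem]
    exact fun h' => hx (by simpa [mul_assoc] using hH.conj_mem' _ h' g)

/-- p-regular elements in one coset of a normal p-subgroup are conjugate under it. -/
theorem exists_conj_of_coset {A : Type u} [Group A] [Finite A] {Q : Subgroup A} [Q.Normal]
    (hQ : IsPGroup p Q) {x y : A} (hx : ¬ p ∣ orderOf x) (hy : ¬ p ∣ orderOf y)
    (h : x * y⁻¹ ∈ Q) : ∃ q ∈ Q, q * y * q⁻¹ = x := by
  have hp : p.Prime := Fact.out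
  have hcy : Nat.Coprime (orderOf y) (Nat.card Q) := by
    obtain ⟨j, hj⟩ := IsPGroup.iff_card.1 hQ
    rw [hj]
    exact ((hp.coprime_iff_not_dvd.2 hy).symm).pow_right j
  obtain ⟨a, ha, c, hc, hcomm, heq⟩ := OddOrderChar.exists_conj_coset_fixed Q y
    (by simp [Subgroup.normalizer_eq_top_iff.2 (inferInstance : Q.Normal)]) hcy (x * y⁻¹) h
  rw [inv_mul_cancel_right] at heq
  have hxo : orderOf (c * y) = orderOf x := by
    rw [← heq, ← MulAut.conj_apply]
    exact orderOf_injective (MulAut.conj a).toMonoidHom (MulAut.conj a).injective x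
  have hcomm' : Commute (c * y) y⁻¹ :=
    (Commute.inv_right hcomm).mul_left (Commute.refl y).inv_right
  have hd : orderOf c ∣ Nat.lcm (orderOf (c * y)) (orderOf y⁻¹) := by
    have := hcomm'.orderOf_mul_dvd_lcm
    rwa [mul_inv_cancel_right] at this
  obtain ⟨k, hk⟩ := hQ ⟨c, hc⟩
  have hd2 : orderOf c ∣ p ^ k := orderOf_dvd_of_pow_eq_one (by
    simpa using congrArg Subtype.val hk)
  have hnd : ¬ p ∣ Nat.lcm (orderOf (c * y)) (orderOf y⁻¹) := by
    rw [hp.dvd_lcm, hxo, orderOf_inv]
    exact fun h => h.elim hx hy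
  have hc1 : c = 1 := by
    rw [← orderOf_eq_one_iff]
    exact Nat.Coprime.eq_one_of_dvd
      (((hp.coprime_iff_not_dvd.2 hnd).pow_left k).coprime_dvd_left hd2) hd
  rw [hc1, one_mul] at heq
  exact ⟨a⁻¹, Q.inv_mem ha, by rw [← heq]; group⟩

variable {M : Ideal AlgInt} [M.IsPrime] {N : Subgroup G} [hN : N.Normal] [Fintype N]

open Classical in
/-- The part of an element on one coset. -/
noncomputable def comp (x : G ⧸ N) (a : MonoidAlgebra ℂ G) : MonoidAlgebra ℂ G :=
  Blocks.ofFun fun h => if (h : G ⧸ N) = x then a.coeff h else 0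

open Classical in
theorem coeff_comp (x : G ⧸ N) (a : MonoidAlgebra ℂ G) (h : G) :
    (comp x a).coeff h = if (h : G ⧸ N) = x then a.coeff h else 0 := by
  simp [comp]

theorem comp_inc_mul (x : G ⧸ N) (m : MonoidAlgebra ℂ N) (a : MonoidAlgebra ℂ G) :
    comp x (inc ℂ N m * a) = inc ℂ N m * comp x a := by
  classical
  refine MonoidAlgebra.ext (Finsupp.ext fun g => ?_)
  rw [coeff_comp, coeff_inc_mul, coeff_inc_mul]
  split_ifs with h
  · refine Finset.sum_congr rfl fun n _ => ?_
    rw [coeff_comp, if_pos]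
    rw [QuotientGroup.mk_mul, QuotientGroup.mk_inv, (QuotientGroup.eq_one_iff (n : G)).2 n.2,
      inv_one, one_mul, h]
  · refine (Finset.sum_eq_zero fun n _ => ?_).symm
    rw [coeff_comp, if_neg, mul_zero]
    rwa [QuotientGroup.mk_mul, QuotientGroup.mk_inv, (QuotientGroup.eq_one_iff (n : G)).2 n.2,
      inv_one, one_mul]

theorem comp_mul_inc (x : G ⧸ N) (m : MonoidAlgebra ℂ N) (a : MonoidAlgebra ℂ G) :
    comp x (a * inc ℂ N m) = comp x a * inc ℂ N m := by
  classical
  induction m using MonoidAlgebra.induction_linear with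
  | zero =>
    refine MonoidAlgebra.ext (Finsupp.ext fun g => ?_)
    simp [coeff_comp]
  | add u v hu hv =>
    refine MonoidAlgebra.ext (Finsupp.ext fun g => ?_)
    rw [map_add, mul_add, mul_add, ← hu, ← hv]
    simp only [coeff_comp, MonoidAlgebra.coeff_add, Finsupp.coe_add, Pi.add_apply]
    split_ifs <;> simp
  | single n r =>
    refine MonoidAlgebra.ext (Finsupp.ext fun g => ?_)
    rw [inc_single, coeff_comp, MonoidAlgebra.coeff_mul_single_apply,
      MonoidAlgebra.coeff_mul_single_apply, coeff_comp]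
    have : ((g * (n : G)⁻¹ : G) : G ⧸ N) = (g : G ⧸ N) := by
      rw [QuotientGroup.mk_mul, QuotientGroup.mk_inv, (QuotientGroup.eq_one_iff (n : G)).2 n.2,
        inv_one, mul_one]
    rw [this]
    split_ifs <;> simp

theorem single_mul_comp {f : MonoidAlgebra ℂ G} (hf : f ∈ Ctr ℂ G) (q : G) (x : G ⧸ N) :
    single q 1 * comp x f = comp ((q : G ⧸ N) * x * (q : G ⧸ N)⁻¹) f * single q 1 := by
  classical
  refine MonoidAlgebra.ext (Finsupp.ext fun g => ?_)
  rw [MonoidAlgebra.coeff_single_mul_apply, MonoidAlgebra.coeff_mul_single_apply, coeff_comp,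
    coeff_comp, one_mul, mul_one]
  have h1 : f.coeff (g * q⁻¹) = f.coeff (q⁻¹ * g) := by
    rw [← coeff_conj_of_mem_ctr hf (q⁻¹ * g) q]
    congr 1
    group
  have h2 : ((q⁻¹ * g : G) : G ⧸ N) = x ↔
      ((g * q⁻¹ : G) : G ⧸ N) = (q : G ⧸ N) * x * (q : G ⧸ N)⁻¹ := by
    rw [QuotientGroup.mk_mul, QuotientGroup.mk_mul, QuotientGroup.mk_inv, inv_mul_eq_iff_eq_mul,
      mul_left_inj]
  rw [h1, if_congr h2 rfl rfl]

theorem sum_comp [Fintype (G ⧸ N)] (a : MonoidAlgebra ℂ G) : ∑ x : G ⧸ N, comp x a = a := by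
  classical
  refine MonoidAlgebra.ext (Finsupp.ext fun g => ?_)
  simp [coeff_comp]

/-- The data of a normal subgroup above `N` with an extension idempotent. -/
structure Ext (e : MonoidAlgebra ℂ N) (Q : Subgroup (G ⧸ N)) (e' : MonoidAlgebra ℂ G) (κ : ℂ) :
    Prop where
  central : e' ∈ Ctr ℂ G
  kappa : κ ≠ 0
  supp : ∀ g, e'.coeff g ≠ 0 → (g : G ⧸ N) ∈ Q
  val : ∀ n : N, e'.coeff (n : G) = κ * e.coeff n
  span : ∀ l : G, (l : G ⧸ N) ∈ Q → ∃ m : MonoidAlgebra ℂ N,
    single l 1 * e' = inc ℂ N m * e'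

omit [Fact p.Prime] in
theorem conj_sum_eq {f : MonoidAlgebra ℂ G} (hf : Good p f) :
    f.coeff 1 = ∑ h : G, conj (f.coeff h) * f.coeff h := by
  conv_lhs => rw [← hf.idem, coeff_mul_eq_sum]
  exact Finset.sum_congr rfl fun h _ => by rw [mul_one, hf.herm, mul_comm]

/-- **The support of a good idempotent over an invariant character.** -/
theorem mem_of_coeff_ne_zero {e : MonoidAlgebra ℂ N} {Q : Subgroup (G ⧸ N)} [Q.Normal]
    (hQp : IsPGroup p Q) (hQc : Subgroup.centralizer (Q : Set (G ⧸ N)) ≤ Q)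
    {e' : MonoidAlgebra ℂ G} {κ : ℂ} (he : Ext e Q e' κ) {f : MonoidAlgebra ℂ G} (hf : Good p f)
    (hfe : f * inc ℂ N e = f) {g : G} (hg : f.coeff g ≠ 0) : g ∈ N := by
  classical
  haveI := Fintype.ofFinite (G ⧸ N)
  have hp : p.Prime := Fact.out
  have hce : ∀ a, a * e' = e' * a := Subring.mem_center_iff.1 he.central
  have hcf : ∀ a, a * f = f * a := Subring.mem_center_iff.1 hf.central
  have hregq : ∀ h : G, ¬ p ∣ orderOf h → ¬ p ∣ orderOf (h : G ⧸ N) := fun h hh hd =>
    hh (hd.trans (orderOf_map_dvd (QuotientGroup.mk' N) h))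
  let v : G ⧸ N → MonoidAlgebra ℂ G := fun x => comp x f * e'
  have hv_comm : ∀ (l : G) (x : G ⧸ N), (l : G ⧸ N) ∈ Q → single l 1 * v x = v x * single l 1 := by
    intro l x hl
    obtain ⟨m, hm⟩ := he.span l hl
    have hcm : inc ℂ N m * comp x f = comp x f * inc ℂ N m := by
      rw [← comp_inc_mul, ← comp_mul_inc, hcf]
    calc single l 1 * v x = (single l 1 * e') * comp x f := by
          rw [mul_assoc, ← hce (comp x f)]
      _ = inc ℂ N m * comp x f * e' := by rw [hm, mul_assoc, ← hce (comp x f), mul_assoc]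
      _ = comp x f * (inc ℂ N m * e') := by rw [hcm, mul_assoc]
      _ = comp x f * (e' * single l 1) := by rw [← hm, hce (single l 1)]
      _ = v x * single l 1 := by rw [← mul_assoc]
  have hv_conj : ∀ q ∈ Q, ∀ x : G ⧸ N, v (q * x * q⁻¹) = v x := by
    intro q hq x
    obtain ⟨q, rfl⟩ := QuotientGroup.mk_surjective q
    have h1 : v ((q : G ⧸ N) * x * (q : G ⧸ N)⁻¹) * single q 1 = v x * single q 1 := by
      rw [← hv_comm q x hq]
      show comp _ f * e' * single q 1 = single q 1 * (comp x f * e')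
      rw [← mul_assoc (single q 1), single_mul_comp hf.central, mul_assoc (comp _ f) e',
        ← hce (single q 1), ← mul_assoc]
    have h2 := congrArg (· * single q⁻¹ (1 : ℂ)) h1
    simpa [mul_assoc, MonoidAlgebra.single_mul_single, ← MonoidAlgebra.one_def] using h2
  have hv_self : ∀ g : G, (v (g : G ⧸ N)).coeff g = κ * f.coeff g := by
    intro g
    have h1 : comp (g : G ⧸ N) f = comp (g : G ⧸ N) f * inc ℂ N e := by
      rw [← comp_mul_inc, hfe]
    have h2 : f.coeff g = (comp (g : G ⧸ N) f * inc ℂ N e).coeff g := by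
      rw [← h1, coeff_comp, if_pos rfl]
    rw [h2, coeff_mul_eq_sum, coeff_mul_eq_sum, Finset.mul_sum]
    refine Finset.sum_congr rfl fun h _ => ?_
    rw [coeff_comp]
    split_ifs with hh
    · have hn : h⁻¹ * g ∈ N := QuotientGroup.eq.1 hh
      rw [show h⁻¹ * g = ((⟨_, hn⟩ : N) : G) from rfl, he.val, coeff_inc_of_mem]
      ring
    · simp
  have hv_zero : ∀ (x : G ⧸ N) (g : G), x⁻¹ * (g : G ⧸ N) ∉ Q → (v x).coeff g = 0 := by
    intro x g hx
    rw [coeff_mul_eq_sum]
    refine Finset.sum_eq_zero fun h _ => ?_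
    rw [coeff_comp]
    split_ifs with hh
    · rw [mul_eq_zero]
      right
      by_contra h0
      have := he.supp _ h0
      rw [QuotientGroup.mk_mul, QuotientGroup.mk_inv, hh] at this
      exact hx this
    · rw [zero_mul]
  -- the occupied cosets next to a given one
  let S : G → Finset (G ⧸ N) := fun g => Finset.univ.filter fun x =>
    (∃ h : G, (h : G ⧸ N) = x ∧ f.coeff h ≠ 0) ∧ x⁻¹ * (g : G ⧸ N) ∈ Q
  have hv_S : ∀ g : G, ¬ p ∣ orderOf g → ∀ x ∈ S g, (v x).coeff g = κ * f.coeff g := by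
    intro g hgr x hx
    obtain ⟨⟨h, rfl, hh⟩, hxQ⟩ := (Finset.mem_filter.1 hx).2
    have hhr : ¬ p ∣ orderOf h := fun hd => hh (hf.reg h hd)
    have hmem : (h : G ⧸ N) * (g : G ⧸ N)⁻¹ ∈ Q := by
      have := (inferInstance : Q.Normal).conj_mem _ (Q.inv_mem hxQ) (g : G ⧸ N)
      simpa [mul_assoc] using this
    obtain ⟨q, hq, hqe⟩ := exists_conj_of_coset hQp (hregq h hhr) (hregq g hgr) hmem
    rw [← hqe, hv_conj q hq, hv_self]
  have hfe' : ∀ g : G, ¬ p ∣ orderOf g →
      (f * e').coeff g = ((S g).card : ℂ) * (κ * f.coeff g) := by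
    intro g hgr
    have h0 : f * e' = ∑ x : G ⧸ N, v x := by rw [← Finset.sum_mul, sum_comp]
    rw [h0, MonoidAlgebra.coeff_sum, Finsupp.finsetSum_apply, ← Finset.sum_subset
      (Finset.subset_univ (S g)) (fun x _ hx => ?_), Finset.sum_congr rfl (hv_S g hgr),
      Finset.sum_const, nsmul_eq_mul]
    simp only [S, Finset.mem_filter, Finset.mem_univ, true_and, not_and] at hx
    by_cases hocc : ∃ h : G, (h : G ⧸ N) = x ∧ f.coeff h ≠ 0
    · exact hv_zero x g (hx hocc)
    · have : comp x f = 0 := MonoidAlgebra.ext (Finsupp.ext fun h => by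
        rw [coeff_comp]
        split_ifs with hh
        · simpa using not_not.1 fun h0 => hocc ⟨h, hh, h0⟩
        · simp)
      simp [v, this]
  have hone : (f * e').coeff 1 = κ * f.coeff 1 := by
    rw [hfe' 1 (by simp [hp.ne_one])]
    by_cases h0 : f.coeff 1 = 0
    · simp [h0]
    · have : S 1 = {1} := by
        refine Finset.ext fun x => ⟨fun hx => ?_, fun hx => ?_⟩
        · obtain ⟨⟨h, rfl, hh⟩, hxQ⟩ := (Finset.mem_filter.1 hx).2
          rw [QuotientGroup.mk_one, mul_one, inv_mem_iff] at hxQ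
          obtain ⟨k, hk⟩ := hQp ⟨_, hxQ⟩
          have hd : orderOf (h : G ⧸ N) ∣ p ^ k := orderOf_dvd_of_pow_eq_one (by
            simpa using congrArg Subtype.val hk)
          rw [Finset.mem_singleton, ← orderOf_eq_one_iff]
          exact Nat.eq_one_of_dvd_coprimes ((hp.coprime_iff_not_dvd.2
            (hregq h fun hd => hh (hf.reg h hd))).pow_left k) hd dvd_rfl
        · rw [Finset.mem_singleton.1 hx]
          simp only [S, Finset.mem_filter, Finset.mem_univ, true_and]
          exact ⟨⟨1, rfl, h0⟩, by simp⟩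
      rw [this, Finset.card_singleton, Nat.cast_one, one_mul]
  have key : ∑ h : G, (((S h).card : ℂ) - 1) * (conj (f.coeff h) * f.coeff h) = 0 := by
    have h1 : (f * (f * e')).coeff 1 = κ * f.coeff 1 := by rw [← mul_assoc, hf.idem, hone]
    rw [coeff_mul_eq_sum] at h1
    have h2 : ∑ h : G, conj (f.coeff h) * (((S h).card : ℂ) * (κ * f.coeff h)) =
        κ * f.coeff 1 := by
      rw [← h1]
      refine Fintype.sum_equiv (Equiv.inv G) _ _ fun h => ?_
      simp only [Equiv.inv_apply, mul_one, inv_inv, hf.herm]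
      by_cases hr : p ∣ orderOf h
      · simp [hf.reg h hr]
      · rw [hfe' h hr]
    rw [conj_sum_eq hf, Finset.mul_sum] at h2
    refine mul_left_cancel₀ he.kappa (?_ : κ * _ = κ * 0)
    rw [mul_zero, Finset.mul_sum, ← sub_eq_zero.2 h2, ← Finset.sum_sub_distrib]
    exact Finset.sum_congr rfl fun h _ => by ring
  have hnn : ∀ h : G, 0 ≤ (((S h).card : ℝ) - 1) * Complex.normSq (f.coeff h) := by
    intro h
    by_cases h0 : f.coeff h = 0
    · simp [h0]
    · refine mul_nonneg (sub_nonneg.2 (Nat.one_le_cast.2 ?_)) (Complex.normSq_nonneg _)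
      exact Finset.card_pos.2 ⟨(h : G ⧸ N), by simp [S]; exact ⟨h, rfl, h0⟩⟩
  have keyR : ∑ h : G, (((S h).card : ℝ) - 1) * Complex.normSq (f.coeff h) = 0 := by
    apply Complex.ofReal_injective
    rw [Complex.ofReal_sum, Complex.ofReal_zero, ← key]
    refine Finset.sum_congr rfl fun h _ => ?_
    push_cast
    rw [Complex.normSq_eq_conj_mul_self]
  have hS1 : (S g).card = 1 := by
    have := (Finset.sum_eq_zero_iff_of_nonneg fun h _ => hnn h).1 keyR g (Finset.mem_univ g)
    rw [mul_eq_zero, sub_eq_zero, Nat.cast_eq_one] at this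
    exact this.resolve_right fun h => hg (Complex.normSq_eq_zero.1 h)
  obtain ⟨x₀, hx₀⟩ := Finset.card_eq_one.1 hS1
  have hgS : (g : G ⧸ N) ∈ S g := by
    simp only [S, Finset.mem_filter, Finset.mem_univ, true_and]
    exact ⟨⟨g, rfl, hg⟩, by simp⟩
  have hcentral : (g : G ⧸ N) ∈ Subgroup.centralizer (Q : Set (G ⧸ N)) := by
    refine Subgroup.mem_centralizer_iff.2 fun q hq => ?_
    obtain ⟨q, rfl⟩ := QuotientGroup.mk_surjective q
    have hmem : ((q * g * q⁻¹ : G) : G ⧸ N) ∈ S g := by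
      simp only [S, Finset.mem_filter, Finset.mem_univ, true_and]
      refine ⟨⟨_, rfl, by rwa [coeff_conj_of_mem_ctr hf.central]⟩, ?_⟩
      simp only [QuotientGroup.mk_mul, QuotientGroup.mk_inv, mul_inv_rev, inv_inv, mul_assoc]
      refine Q.mul_mem hq ?_
      have := (inferInstance : Q.Normal).conj_mem' _ (Q.inv_mem hq) (g : G ⧸ N)
      simpa [mul_assoc] using this
    rw [hx₀, Finset.mem_singleton] at hmem hgS
    rw [← hgS, QuotientGroup.mk_mul, QuotientGroup.mk_mul, QuotientGroup.mk_inv,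
      mul_inv_eq_iff_eq_mul] at hmem
    exact hmem
  obtain ⟨k, hk⟩ := hQp ⟨_, hQc hcentral⟩
  have hd : orderOf (g : G ⧸ N) ∣ p ^ k := orderOf_dvd_of_pow_eq_one (by
    simpa using congrArg Subtype.val hk)
  have h1 : orderOf (g : G ⧸ N) = 1 := Nat.eq_one_of_dvd_coprimes
    ((hp.coprime_iff_not_dvd.2 (hregq g fun hd => hg (hf.reg g hd))).pow_left k) hd dvd_rfl
  exact (QuotientGroup.eq_one_iff g).1 (orderOf_eq_one_iff.1 h1)

open Classical in
/-- The extension data for an invariant character. -/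
theorem exists_ext {θ : IrrCharacter N} (hθ : ConstrainedBlock.Invariant N θ)
    (hNp : ¬ p ∣ Nat.card N) (Q : Subgroup (G ⧸ N)) [Q.Normal] (hQ : IsPGroup p Q) :
    ∃ (e' : MonoidAlgebra ℂ G) (κ : ℂ), Ext (setIdemC {θ} : MonoidAlgebra ℂ N) Q e' κ := by
  set L := Q.comap (QuotientGroup.mk' N) with hL
  haveI : L.Normal := inferInstanceAs (Q.comap _).Normal
  have hNL : N ≤ L := fun n hn => by
    rw [hL, Subgroup.mem_comap, QuotientGroup.mk'_apply, (QuotientGroup.eq_one_iff n).2 hn]
    exact one_mem _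
  have hq : ∃ k, N.relIndex L = p ^ k := by
    have h1 : N.relIndex L = Nat.card (L.map (QuotientGroup.mk' N)) := by
      rw [← Subgroup.relIndex_ker, QuotientGroup.ker_mk']
    rw [h1, hL, Subgroup.map_comap_eq_self_of_surjective (QuotientGroup.mk'_surjective N)]
    exact IsPGroup.iff_card.1 hQ
  obtain ⟨η, hres, hinv⟩ := ConstrainedBlock.exists_invariant_extension hθ hNp L hNL hq
  haveI := Fintype.ofFinite L
  refine ⟨inc ℂ L (setIdemC {η} : MonoidAlgebra ℂ L), (Nat.card N : ℂ) / (Nat.card L : ℂ),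
    inc_mem_ctr (fun g x => ?_), div_ne_zero Characters.natCard_ne_zero Characters.natCard_ne_zero,
    fun g hg => ?_, fun n => ?_, fun l hl => ?_⟩
  · rw [coeff_setIdemC, coeff_setIdemC, blockCoeff_singleton, blockCoeff_singleton, hinv g x]
  · by_contra h
    exact hg (coeff_inc_of_notMem _ _ h)
  · rw [show (n : G) = ((Subgroup.inclusion hNL n : L) : G) from rfl, coeff_inc_of_mem,
      coeff_setIdemC, coeff_setIdemC, blockCoeff_singleton, blockCoeff_singleton, hres n]
    have h1 : (η : L → ℂ) 1 = (θ : N → ℂ) 1 := by rw [← hres 1, map_one]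
    rw [h1]
    field_simp [Characters.natCard_ne_zero]
  · obtain ⟨m, hm⟩ := exists_map_mul_eq (Subgroup.inclusion hNL) η θ hres (single ⟨l, hl⟩ 1)
    refine ⟨m, ?_⟩
    rw [← inc_inclusion hNL m, ← map_mul, ← hm, map_mul, inc_single]

/-- Good idempotents over an invariant character have local integral coefficients. -/
theorem memLocalRing_of_invariant (hM : Cfsg.IsPModular p M) (hNp : ¬ p ∣ Nat.card N)
    {Q : Subgroup (G ⧸ N)} [Q.Normal] (hQp : IsPGroup p Q)
    (hQc : Subgroup.centralizer (Q : Set (G ⧸ N)) ≤ Q)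
    {θ : IrrCharacter N} (hθ : ConstrainedBlock.Invariant N θ) {f : MonoidAlgebra ℂ G}
    (hf : Good p f) (hfe : f * inc ℂ N (setIdemC {θ} : MonoidAlgebra ℂ N) = f) (g : G) :
    Cfsg.MemLocalRing M (f.coeff g) := by
  classical
  obtain ⟨e', κ, he⟩ := exists_ext hθ hNp Q hQp
  by_cases hgN : g ∈ N
  swap
  · have : f.coeff g = 0 := not_not.1 fun h => hgN (mem_of_coeff_ne_zero hQp hQc he hf hfe h)
    rw [this]
    exact (localRing M).zero_mem
  let z : Ctr ℂ N := ⟨proj N f, mem_ctr_iff.2 fun x y => by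
    rw [coeff_proj, coeff_proj]
    exact coeff_conj_of_mem_ctr hf.central (x : G) (y : G)⟩
  have hfz : f = inc ℂ N (proj N f) := MonoidAlgebra.ext (Finsupp.ext fun x => by
    by_cases hx : x ∈ N
    · rw [show x = ((⟨x, hx⟩ : N) : G) from rfl, coeff_inc_of_mem, coeff_proj]
    · rw [coeff_inc_of_notMem _ _ hx]
      exact not_not.1 fun h => hx (mem_of_coeff_ne_zero hQp hQc he hf hfe h))
  have hze : z * setIdemC {θ} = z := Subtype.ext (inc_injective N (by
    rw [Subring.coe_mul, map_mul, ← hfz, hfe]))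
  have hzz : z * z = z := Subtype.ext (inc_injective N (by
    rw [Subring.coe_mul, map_mul, ← hfz, hf.idem]))
  have hz : z = scalar (omega θ z) * setIdemC {θ} := ctr_ext_omega fun ψ => by
    rw [map_mul, omega_scalar]
    conv_lhs => rw [← hze, map_mul]
    rw [omega_setIdemC]
    by_cases hψ : ψ ∈ ({θ} : Set (IrrCharacter N))
    · rw [if_pos hψ, Set.mem_singleton_iff.1 hψ]
    · simp [hψ]
  have hc : omega θ z = 0 ∨ omega θ z = 1 :=
    IsIdempotentElem.iff_eq_zero_or_one.1 (show omega θ z * omega θ z = omega θ z by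
      rw [← map_mul, hzz])
  have h1 : f.coeff g = omega θ z * Cfsg.blockCoeff {θ} ⟨g, hgN⟩ := by
    have h := congrArg (fun a : Ctr ℂ N => (a : MonoidAlgebra ℂ N).coeff ⟨g, hgN⟩) hz
    rw [Subring.coe_mul, coe_scalar, MonoidAlgebra.coeff_single_mul_apply] at h
    simp only [z, coeff_proj, inv_one, one_mul, coeff_setIdemC] at h
    exact h
  rcases hc with h | h
  · rw [h1, h, zero_mul]; exact (localRing M).zero_mem
  · rw [h1, h, one_mul]
    exact memLocalRing_blockCoeff (Glauberman.isBlockUnion_singleton hM hNp θ) _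

end CfsgLib.BlocksLocal.Weighted
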