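import Mathlib

/-!
# Sums over words and their rotations

Elementary combinatorics behind the exact trace lemmas of block theory: if a trace functional is
evaluated at `z * (∑ i, a i) ^ n` and conjugation by `z` permutes the summands, the words of
length `n` fall into orbits of a twisted rotation, and the value is constant on each orbit.  When
the rotation has prime power order, long orbits give divisibility by high powers of the prime.
-/

set_option autoImplicit false

namespace CfsgLib.BlocksLocal

open Function

variable {ι R A : Type*}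

/-- Move the head of a word to its end, applying `s` to it. -/
def twistRot (s : ι → ι) : List ι → List ι
  | [] => []
  | h :: t => t ++ [s h]

theorem length_twistRot (s : ι → ι) (l : List ι) : (twistRot s l).length = l.length := by
  cases l <;> simp [twistRot]

theorem twistRot_iterate (s : ι → ι) : ∀ (k : ℕ) (l : List ι), k ≤ l.length →
    (twistRot s)^[k] l = l.drop k ++ (l.take k).map s := by
  intro k
  induction k with
  | zero => intro l _; simp
  | succ k ih =>
    intro l hk
    have hk' : k < l.length := hk
    rw [iterate_succ_apply', ih l hk'.le, List.drop_eq_getElem_cons hk', List.cons_append,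
      twistRot, List.take_succ_eq_append_getElem hk', List.map_append, List.append_assoc]
    rfl

theorem twistRot_iterate_length (s : ι → ι) (l : List ι) :
    (twistRot s)^[l.length] l = l.map s := by
  simp [twistRot_iterate s l.length l le_rfl]

theorem twistRot_iterate_length_mul (s : ι → ι) (l : List ι) (j : ℕ) :
    (twistRot s)^[l.length * j] l = l.map (s^[j]) := by
  induction j with
  | zero => simp
  | succ j ih =>
    rw [Nat.mul_succ, Nat.add_comm, iterate_add_apply, ih]
    have h : l.length = (l.map s^[j]).length := by simp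
    conv_lhs => rw [h]
    rw [twistRot_iterate_length, List.map_map, ← iterate_succ']

theorem twistRot_injective {s : ι → ι} (hs : Injective s) : Injective (twistRot s) := by
  intro l l' h
  rcases l with _ | ⟨a, t⟩ <;> rcases l' with _ | ⟨a', t'⟩
  · rfl
  · simp [twistRot] at h
  · simp [twistRot] at h
  · simp only [twistRot] at h
    obtain ⟨h1, h2⟩ := List.append_inj' h rfl
    simp only [List.cons.injEq, and_true] at h2
    rw [h1, hs h2]

/-- A word fixed by rotation through `P` places, of length `P * Q`, is periodic. -/
theorem eq_flatten_replicate_of_append_comm {P : ℕ} : ∀ (Q : ℕ) (A B : List ι),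
    A.length = P → B.length = P * Q → B ++ A = A ++ B → B = (List.replicate Q A).flatten := by
  intro Q
  induction Q with
  | zero => intro A B _ hB _; simpa using hB
  | succ Q ih =>
    intro A B hA hB h
    have hle : A.length ≤ B.length := by rw [hA, hB]; exact Nat.le_mul_of_pos_right P Q.succ_pos
    have hpre : B.take A.length = A := by
      have := congrArg (List.take A.length) h
      simpa [List.take_append_of_le_length hle] using this
    obtain ⟨B', hB'⟩ : ∃ B', B = A ++ B' :=
      ⟨B.drop A.length, by conv_lhs => rw [← List.take_append_drop A.length B, hpre]⟩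
    subst hB'
    have hlen : B'.length = P * Q := by
      simp only [List.length_append, hA, Nat.mul_succ] at hB
      omega
    have hc : B' ++ A = A ++ B' := by
      rw [List.append_assoc] at h
      exact List.append_cancel_left h
    rw [List.replicate_succ, List.flatten_cons, ← ih A B' hA hlen hc]

/-- If the twisted rotation with trivial twist, applied `P` times, fixes a word of length
`P * (Q + 1)`, its product is a `(Q + 1)`-st power. -/
theorem prod_map_of_rot_fixed [Monoid A] (f : ι → A) {P Q : ℕ} (l : List ι)
    (hlen : l.length = P * (Q + 1)) (h : (twistRot id)^[P] l = l) :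
    (l.map f).prod = ((l.take P).map f).prod ^ (Q + 1) := by
  have hP : P ≤ l.length := by rw [hlen]; exact Nat.le_mul_of_pos_right P Q.succ_pos
  rw [twistRot_iterate id P l hP, List.map_id] at h
  have hA : (l.take P).length = P := by simp [hP]
  have hB : (l.drop P).length = P * Q := by
    rw [List.length_drop, hlen, Nat.mul_succ]; omega
  have hB' := eq_flatten_replicate_of_append_comm Q (l.take P) (l.drop P) hA hB
    (by rw [h, List.take_append_drop])
  conv_lhs => rw [← List.take_append_drop P l, hB']
  simp [List.map_flatten, List.prod_flatten, pow_succ']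

theorem sum_pow_eq_sum_words [Semiring A] [Fintype ι] (a : ι → A) (n : ℕ) :
    (∑ i, a i) ^ n = ∑ v : List.Vector ι n, (v.toList.map a).prod := by
  induction n with
  | zero => simp [List.Vector.eq_nil]
  | succ n ih =>
    let e : ι × List.Vector ι n ≃ List.Vector ι (n + 1) :=
      { toFun := fun x => x.1 ::ᵥ x.2
        invFun := fun v => (v.head, v.tail)
        left_inv := fun x => by simp
        right_inv := fun v => v.cons_head_tail }
    rw [pow_succ', ih, Fintype.sum_mul_sum, ← Fintype.sum_prod_type',
      ← Fintype.sum_equiv e (fun x => a x.1 * (x.2.toList.map a).prod)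
        (fun v => (v.toList.map a).prod) (fun x => by simp [e])]

/-- Long orbits of a permutation of prime power order give divisibility of invariant sums. -/
theorem pow_succ_dvd_sum_of_invariant [CommRing R] {X : Type*} [Fintype X] (p : ℕ)
    [hp : Fact p.Prime] (N j : ℕ) (ρ : Equiv.Perm X) (hρ : ρ ^ (p ^ N) = 1) (v : X → R)
    (hv : ∀ x, v (ρ x) = v x) (h : ∀ x, (ρ ^ (p ^ j)) x = x → v x = 0) :
    (p : R) ^ (j + 1) ∣ ∑ x, v x := by
  classical
  let K : Subgroup (Equiv.Perm X) :=
    { carrier := {g | ∀ x, v (g x) = v x}
      one_mem' := fun _ => rfl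
      mul_mem' := fun {g g'} hg hg' x => by
        rw [Equiv.Perm.mul_apply, hg, hg']
      inv_mem' := fun {g} hg x => by
        rw [← hg (g⁻¹ x), ← Equiv.Perm.mul_apply, mul_inv_cancel, Equiv.Perm.one_apply] }
  have hK : Subgroup.zpowers ρ ≤ K := Subgroup.zpowers_le.mpr hv
  rw [← Fintype.sum_equiv (MulAction.selfEquivSigmaOrbits (Subgroup.zpowers ρ) X).symm
    (fun y => v y.2.1) v (fun y => rfl), Fintype.sum_sigma]
  refine Finset.dvd_sum fun ω _ => ?_
  have hconst : ∀ y : MulAction.orbit (Subgroup.zpowers ρ) ω.out, v y.1 = v ω.out := by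
    rintro ⟨_, g, rfl⟩
    exact hK g.2 ω.out
  rw [Finset.sum_congr rfl fun y _ => hconst y, Finset.sum_const, Finset.card_univ,
    ← MulAction.minimalPeriod_eq_card]
  set r := ω.out
  have hper : IsPeriodicPt (fun x => ρ • x) (p ^ N) r := by
    change (⇑ρ)^[p ^ N] r = r
    rw [← Equiv.Perm.coe_pow, hρ]; rfl
  obtain ⟨k, -, hk⟩ := (Nat.dvd_prime_pow hp.out).mp hper.minimalPeriod_dvd
  rw [hk, nsmul_eq_mul, Nat.cast_pow]
  rcases lt_or_ge j k with hjk | hjk
  · exact dvd_mul_of_dvd_left (pow_dvd_pow _ hjk) _
  · have : IsPeriodicPt (fun x => ρ • x) (p ^ j) r :=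
      (hk ▸ isPeriodicPt_minimalPeriod (fun x => ρ • x) r).trans_dvd (pow_dvd_pow p hjk)
    have hfix : (ρ ^ (p ^ j)) r = r := by
      rw [Equiv.Perm.coe_pow]; exact this
    simp [h r hfix]

variable [Ring A] [CommRing R]

theorem trace_mul_word_twistRot (tr : A →+ R) (htr : ∀ u w, tr (u * w) = tr (w * u))
    (a : ι → A) (z : A) (s : ι → ι) (hz : ∀ i, z * a i = a (s i) * z) (l : List ι) :
    tr (z * ((twistRot s l).map a).prod) = tr (z * (l.map a).prod) := by
  rcases l with _ | ⟨h, t⟩
  · rfl
  · simp only [twistRot, List.map_append, List.prod_append, List.map_cons, List.map_nil,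
      List.prod_cons, List.prod_nil, mul_one]
    rw [← mul_assoc, htr, ← mul_assoc, ← hz, mul_assoc]

/-- Words not fixed by `p ^ j` twisted rotations contribute a multiple of `p ^ (j+1)`. -/
theorem trace_mul_sum_pow_sub_dvd [Fintype ι] (p : ℕ) [hp : Fact p.Prime] (tr : A →+ R)
    (htr : ∀ u w, tr (u * w) = tr (w * u)) (a : ι → A) (z : A) (s : Equiv.Perm ι)
    (hz : ∀ i, z * a i = a (s i) * z) (m N j : ℕ) (hs : ∀ i, (⇑s)^[p ^ N] i = i)
    [DecidableEq ι] :
    (p : R) ^ (j + 1) ∣ tr (z * (∑ i, a i) ^ (p ^ m)) -
      ∑ v : List.Vector ι (p ^ m),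
        (if (twistRot s)^[p ^ j] v.toList = v.toList then tr (z * (v.toList.map a).prod) else 0)
    := by
  classical
  rw [sum_pow_eq_sum_words, Finset.mul_sum, map_sum, ← Finset.sum_sub_distrib]
  let ρ₀ : List.Vector ι (p ^ m) → List.Vector ι (p ^ m) :=
    fun v => ⟨twistRot s v.toList, (length_twistRot _ _).trans v.toList_length⟩
  have hρ₀ : Injective ρ₀ := fun v w h =>
    Subtype.ext (twistRot_injective s.injective (congrArg Subtype.val h))
  let ρ := Equiv.ofBijective ρ₀ (Finite.injective_iff_bijective.mp hρ₀)
  have hcoe : ∀ (k : ℕ) (v : List.Vector ι (p ^ m)),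
      ((ρ ^ k) v).toList = (twistRot s)^[k] v.toList := by
    intro k
    induction k with
    | zero => intro v; rfl
    | succ k ih =>
      intro v
      rw [pow_succ', Equiv.Perm.mul_apply, iterate_succ_apply', ← ih]
      rfl
  refine pow_succ_dvd_sum_of_invariant p (m + N) j ρ ?_ _ ?_ ?_
  · ext v : 1
    refine Subtype.ext ?_
    show ((ρ ^ (p ^ (m + N))) v).toList = v.toList
    have hl := twistRot_iterate_length_mul (⇑s) v.toList (p ^ N)
    rw [v.toList_length] at hl
    rw [hcoe, pow_add, hl, show (⇑s)^[p ^ N] = id from funext hs, List.map_id]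
  · intro v
    have h1 : (ρ v).toList = twistRot s v.toList := rfl
    simp only [h1, trace_mul_word_twistRot tr htr a z s hz, ← iterate_succ_apply,
      iterate_succ_apply', (twistRot_injective s.injective).eq_iff]
  · intro v hv
    have h1 : (twistRot s)^[p ^ j] v.toList = v.toList := by rw [← hcoe, hv]
    rw [if_pos h1, sub_self]

/-- If every word fixed by `p ^ j` twisted rotations has trace zero, the trace of `z` times the
`p ^ m`-th power of the sum is divisible by `p ^ (j+1)`. -/
theorem trace_mul_sum_pow_dvd [Fintype ι] (p : ℕ) [hp : Fact p.Prime] (tr : A →+ R)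
    (htr : ∀ u w, tr (u * w) = tr (w * u)) (a : ι → A) (z : A) (s : Equiv.Perm ι)
    (hz : ∀ i, z * a i = a (s i) * z) (m N j : ℕ) (hs : ∀ i, (⇑s)^[p ^ N] i = i)
    (hfix : ∀ l : List ι, l.length = p ^ m → (twistRot s)^[p ^ j] l = l →
      tr (z * (l.map a).prod) = 0) :
    (p : R) ^ (j + 1) ∣ tr (z * (∑ i, a i) ^ (p ^ m)) := by
  classical
  have h := trace_mul_sum_pow_sub_dvd p tr htr a z s hz m N j hs
  have h0 : (∑ v : List.Vector ι (p ^ m),
      if (twistRot s)^[p ^ j] v.toList = v.toList then tr (z * (v.toList.map a).prod) else 0) = 0 :=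
    Finset.sum_eq_zero fun v _ => by
      split_ifs with hv
      · exact hfix _ v.toList_length hv
      · rfl
  rw [h0, sub_zero] at h
  exact h

end CfsgLib.BlocksLocal
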